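import Mathlib.Init
set_option autoImplicit false
set_option maxRecDepth 100000
set_option linter.all false
namespace H35.TCF24A
noncomputable def MR_0 (i : Nat) : Nat := Nat.land (Nat.shiftRight (nat_lit 0x6b801471c0000003ce9001ae0051c6000000000000000000000000000000000000000000000000000000000000000000000000000000000000000000000000000000000000000000000000000000000000000000000000000000000d70028e080000000000000000000000000000000000000000000000000000000000000000000000000000000000000000000000000000000000000000000000000000000000198004d43000000000000000000000000000000000000000000000000000000000000000000000000000000000000000031800968e00630012d1400d70028e4800000000000000000000000000000000000000000000000000000000000000000000000000000000000000018c004b410000000000000000000000000000000000000000000000000000000000000000000000000000017e0048830000000000000000000000000000000000000000000002ec008e0e005d8011c1400c60025a5000000000000000000000000000000000000000000000000000000002ec008e0200000000000000000000000000000000002dc008a8600000000000000000000000168004447002d000888a005d8011c20000000000000000000000002d000888200000000000000000000000162004303002b400838e005a0011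11000000000000015a0041c1000000000000056801070c00aa00206080000000000002a800818a00000000000000000000000000000000000000000000000000000000000000000014c003f07000000000000000000000000000000000000000000000000000000000000000000000000000000000000000000000000000000000000000000000000000000000000000000000000000000000000000000013e00790b00000000000000000000000000000000000000000000000000000000000000000000000000000000000000000000000000000000000000000000000000000000000000000000000000000000000000000000000000000000000000000000000000000000000000000000000000000000000000000000000000000000000000000000000000000000000000000000000000000000000000024c006f0e004f801e400000000000000000000000000000000000000000000000000000000000000000000000000000000000000000000000000000000000000052000f28a00000000000000000000000000000000000000000000000000000000000000000000000000000000000000000000000000000000000000000000000000000000000000000000000000000000000000000000000000000000000000000860019638011c006f4000000000000000000000000000000000000000000000000000000000000000000008e0037a5800000000000000000000000000000000000000000000000000000000000000000000000000000000000000000000000000000000000003f00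0be1c00830034a00000000000000000000000000000000000000000000001060069490000000000000000000000000000000000000000000000000000000000000000000780016c3800f80065800000000000000000000000007c0032c50000000000000000000000000000000000000000000000e8002c07001cc00570e0039800ae1400770031c000000000000001dc00c710000000000000000000000000e6002b83001c800c5080000000000000000000000000000000000000000000000000000000000000000001e2005c00000000000000000000000000000000000000000000000000000000000000000000000000000000000000000000000000000000000000000000000000000000000000000000000000000000000000000000000000000000000000000000000000000000000000000000000000000000000000000000000000000000000000000000000000000000000000000000000000000000000000000000000000006b8014700000000000000000000000000000000000000000000000000000000000000000000000000000000000000000000000000000000000000000000000000000000000000000000000000000000000000000000000000000000000000000000000000000318009680000000000000000000000000000000000000000000000000000000000000000000000000000000000000000000000000000000000000000000000000000000000005d8011c00000000000000000000000000000000000000000000000000000000000000000000000000000005a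0011100000000000000000000000000000000000000000000000000000000009a00428400000000000005680107000000000000000000000000013000820800000000000000000000000000000000000000000000000000000000000000000000000000000000000000000000000000000000000000000000000000000000000000000000000000000000000000000000000000000000000000000000000000000000000000000000000000000000000000000000000000000000000000000000000000000000000000000000000000000000000000000000000000000000000000000000000000000000000000000000000000000000000000000000000000000000000000000000000000000000000000000000000000000000000000000000000000000000000000000000000000000000000000000000000000000000000000000000000000000000000000000000000000000000000000000000000000000000000000000000000000000000000000000000000000000000000000000000000000000000000000000000000000000000000000000000000000000000000000000000000000000000000000000000000000000000000000000000000000000000000000000000000000000000000000000000000000000000000000000000000000000000000000000000000000000000000000000000000000000000000000000000000000000000000000000000000000000000000000000000000000000000000000000000000000000000000000000000000000000000000000000000000000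000000000000000000000000000000000000000000000000000000000000000000000000000000000000000000000000000000000000000000000000000000000000000000000000000000000000000000000000000000000000000000000000000000000000000000000000000000000000000000000000000000000000000000000000000000000000000000000000000000000000000000000000000000000000000000000000000000000000000000000000000000000000000000000000000000000000000000000000000000000000000000000000000000000000000000000000000000000000000000000000000000000000000000000000000000000000000000000000000000000000000000000000000000000000000000000000000000000000000000000000000000000000000000000000000000000000000000000000000000000000000000000000000000000000000000000000000000000000000000000000000000000000000000000000000000000000000000000000000000000000000000000000000000000000) (Nat.mul (nat_lit 43) (Nat.land i (nat_lit 511)))) (nat_lit 8796093022207)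
noncomputable def MR_1 (i : Nat) : Nat := Nat.land (Nat.shiftRight (nat_lit 0x99401568400bbc0265900000000000000000000000000000000000000000000023380554140000000000000000000000000000000000000000000000000000000000000000000000000000000000000000000000000000000000000000000000000000000000000000000000000000000000000000000000000000000000000000000000000000000000000000000000000000000000000000000000000000000000000000000000000000000000000000000000000000000000000000000000000000000000000000000000000000000000000000000000000000000aac01770200000000000000000000000000000000000000000000000000000000000000000000000000000000000000000000000000000000000000000000000000000000000000000000000000000000000000000000000000000000000000000000000000000000000000000000000000000000000000000000000000000000000000000000000000000000000000000000000000000000000000000000000000000000000000000000000000000000000000000000000000000000000000000000000000000000000000000000000000000000000000000000000000000000000000000000000000000000000000000000000000000000000000000000000000000000000000000000000000000000000000000000000000000000000000000002ef009962805ea013085000000000000000000000000000000000000000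000000000000000000000000000000000000000000000000000000000000000000000000000000000000000000000000000000000000000000000000000000000000000bd802608a00000000000000000000000000000000000000000000000000000000000000000000000000000000000000000000000000000000000000000000000000000000000000000000000000000000000000000000000000000000000000000000000000000000000000000000000000000000000000000000000000000000000000000000000000000000000000000000000000000000000000000000000000000000000000000000000000000000000000000000000000000000000000000000000000000000000000000000000000000000000000000000000000000000000000000000000000000000000000000000000000000000000000000000000000000000000000000000000000000000000000000000000000000000000000000000000000000000000000000000000000000000000000000000000005d6011c00000000000000000000000000000000000000000000000000000000000000000000000000000000000000000000000000000000000000000000000000000000000000000000000000000000000000000000000000000000000000000000000000000000000000000000000000000000000000000000000000000000000000000000000000000000000000000000000000000000000000000000000000000000000000000000000000000000000000000000000000000000000000000000000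0000000000000000000000000000000000000000000000000000000000000000000000000000000000000000000000000000000000000000000000000000000000000000000000000000000000000000000000000000000000000000000000000000000000000000000000000000000000000000000000000000000000000000000000000000000000000000000000000000000000000000000000000000000000000000000000000000000000000000000000000000000000000000000000000000000000000000000001c40040114038e007f028068801038000d3401f900000000000000000000000000000000000000000000000000000000000000000000000000000000000000000000000000000000000000000000000000000000000000000000000000000000000000000000000000000001c7803f7140000000000000000000000000000000000000000000000000000000000000000000000000000000000000000000000000000000000000000000000000000000000000000000000000000000000000000000000000000000000000000000000000000000000000000000000000000000000000000000000000000000000000000000000000000000000000000000000000000000000000000000000000000000000000000000000000000000000000000000000000000000000000000000000000000000000000000000000000000000000000000000000000000000000000000000000000000000000000000000000000000000000000000000000000000000000000000000000000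0000000000000000000000000000000000000000000000000000000000000000000000000000000000000000000000000000000000000000000000000000000000000000000000000000000000000000000000000000000000000000000000001128039900022a0073000046c00e1c0000000000000000000000000000000000000000000000000000000000000000000000000000000000000000000000000000000000000000000000000000000000000000000000000000000000000000000000000000000000000000000000000000000000000000000000000000000000000000000000000000000000000000000000000000000000000000000000000000000000000000000000000000000000000000000000000000000000000000000000000000000000000000000000000000000000000000000000000000000000000000000000000000000000000000000000000000000000000000000000000000000000000000000000000000000000000000000000000000000000000000000000000000000000000000000000000000000000000000000000000000000000000000000000000000000000000000000000000000000000000000000000000000000000000000000000000000000000000000000000000000000000000000000000000000000000000000000000000000000000000000000000000000000000000000000000000000000000000000000000000000000000000000000000000000000000000000000000000000000000000000000000000000000000000000000000000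00000000000000000000000000000000000000000000000000000000000000000000000000000000000000000000000000000000000000000000000000000000000000000000000000000000000000000000000000000000000000000000000000000000000000000000000000000000000000000000000000000000000000000000000000000000000000000000000000029b0060400054000c04000aac01770000000000000000000000000000000000000000000000000000000000000000000000000000000000000000000000000000000000000000000000000000000000000000000000000000000000000000000000000000000000000000000000000000000000000000000000000000000000000000000000000000000000000000000000000000000000000000000000000000000000000000000000000000000000000000000000000000000000000000000000000000000000000000000000000000000000000000000000000000000000000000000000000000000000000000000000000000000000000000000000000000000000000000000000000000000000000000000000000000000000000000000000) (Nat.mul (nat_lit 43) (Nat.land i (nat_lit 511)))) (nat_lit 8796093022207)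
noncomputable def MR_2 (i : Nat) : Nat := Nat.land (Nat.shiftRight (nat_lit 0x2eb008e0080000000000000000000000000000000000000000000000000000000000000000000000000000000000000000000000000000000000000000000000000000000000aa60200440000000000000000000000000000000000000000000000000000000000000000000000000000000000000000000000000000000000000000000000000000000000000000000000000000000000000000000000000000000000000000000000000000000000000000000000000000000000000000000000000000000000000000000000000000000000000000000000000000000000000000000000000000000000000000000000000000000000000000000000000000000000000000000000000000000000000000000000000000000000000000000000000000000000000000000000000000000000000000000000000000000000000000000000000000000000000000000000000000000000000000000000000000000000000000000000000000000000000000000000000000000000000000000000000000000000000000000000000000000000000000000000000000000000000000000000000000000000000000000000000000000000000000000000000000000000000000000000000000000000000000000000000000000000000000000000000000000000000000000000000000000000000000000000000000000000000000000000000000000000000000000000000000000000000000000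0000000000000000000000000000000000000000000000000000000000000000000000000000000000000000000000000000000000000000000000000000000000000000000000000000000000000000000000000000000000000000000000000000000000000000000000000000000000000000000000000000000000000000000000006d801040201854039f8a00000000000000000000000000000000000000000000000000000000000000000000000000000000000000000000000000000000000000000000000000000000000000000000000000000000000000000018d403a98800000000000066500ea8180000000000000000000000000000000000000000000000000000000000000000000000000000000000000000000000000000000000000000000000000000000000c9201cf44019d4039d90033c007380c000000000000000000000000000000000000000000005eb00e682007e6017b08000000000000000000000000000000000000000000000000000000000000000000000000000000000000000000000000000000000000000000000000000000000000000000000000000000000000000000000000000000000000000000000000000000000000000000000000000000000000000000000000000000000000000000000000000000000000000000000000000000000000000000000000000000000000000000000000000000000000000000000000000000000000000000000000000000000000000000000000000000000000000000000000000000000000000000000000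00000000000000000000000000000000000000000000000000000000000000e3c01fb8200000000000000000000000000000000000000000000000000000000000000000000000000000d3401f9020000000000000000000000000000000000000000000000000000000000000000000000000000000000000000000000000000000000000000000000000000000000000000000000000000000000000000000000000000000000000000000000000000000000000000000000000000000000000000000000000000000000000000000000000000000000000000000000000000000000000000000000000000000000000000000000000000000000000000000000000000000000000000000000000000000000000000000000000000000000000000000000000000000000000000000000000000000000000000000000000000000000000000000000000000000000000000000000000000000000073400f3c200000000000000000000000000000000000000000000000000000000000000000000000000000000000000000000000000000000000000000000000000000000000000000000000000000000225007320807ba019a8500000000000000000000000000000000000000000000000000000000000000000000000000000000000000000000000000000000000000000000000000000000000fd8033b880000000000000000000000000000000000000000000000000000000000000000000000000000000000000002000066810038800802400000000000000000000000000000000000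000000000000000000000000000000000000000000000000000000000000000000000000000000000000000000000000000000000000000000000000000000000000000000000000000000000000000000000000000000000000000000000000000000000000000000000000000000000000000000000000000000000000000000000000000000000000000000000000000000000000000000000000000000000000000000000000000000040200c6c280000000000000000000000000000000000000000000000000000000000000000000000000000000000000000000000000000000000000000000000000000000000000000000000000000000000000000000000000000000000000000000000000000000000000000000000000000000000000000000000000000000000000000000000000000000000000000000000000000000000000000000000000000000000000000000000000000000000000000000000000000000000000000000000000000000000000000000000000000000000000000000000000000000000000000000000000000000000000000007e6017b0500000000000000000000000000000000000000000000000000000000000000000000000000000000000000000000000000000000000000000000000000000000000000000000000000000000000000000000000000000000000000000000000000000000000000000000000000000000000000000000000000000000000000000000000000000000000000000000000000000000000000000000000000000000000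000000000000000000000000000000000000000000000000000000000000000000000000000000000000000000000000000000000000000000000000000000000000000000000000000000000000000000000000000000000000000000000000000000000000000000000000000000000000000000000000000000000000000000000000000000000000000000000000000000000000000000000000000000000000000000000000000000000000000000000000000000000000000000000000000000000000000000000000000000000000000000000000000000000000000000000000000000000000000000000000000000000000000000000000000000000000000000000000000000000000000000000000000000000000000000000000000000000000000000000000000000000000000000000000000000000000000000000000000000000000000000000000000000000000000000000000000093c015ac5012ac02ae0a0233005551400000000000000000000000000000000000000000000000000000000000000000000000000000000000000000000000000000000000000000000000000000000004c000ad2200000000000) (Nat.mul (nat_lit 43) (Nat.land i (nat_lit 511)))) (nat_lit 8796093022207)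
noncomputable def MR_3 (i : Nat) : Nat := Nat.land (Nat.shiftRight (nat_lit 0x24f0056b08056a01154381152027c880218804fa8600000000000000000000000000000000022a404f90600000000000000000000000000000000000000000000000000000000000000000000000000000000000000000000000000000000000000000000000000000000000000000000000000000000000000000020e004eb8802b5008aa240884013a01811840273c30156404608800000000000000000000000aae023180000000000000000000000007da01396201004027183000000000000000000000000000000000000000000000000000000000000000000000000000000000000000000000000000000000000000000000000000000000000000000000000000000000000000000000000000000000000000000000000000000000000000000000000000000000000000000000000000000000000000000000000000000000000000000000000000000000000000000000000000000000000000000000000000000000000000000000000000000000000000000000000000000000000000000000000008670132420000000000000000000000000000000000000000000000000000000000000000000000000000000000000000000000000000000000000000000000000000000000000000000000000000000000000000000000000000000000000000000000000000000000000000000000000000000000000000000000000000000000000000000000000000000000000000044180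9681004cc00a460009920156c1000000000000000000000000000000000000000000000000000000000000000000000000000000000000000000000000000000000000046700aa808000000000000000000000000000000000000000000000000000000000000000000000000000000000000000000000000000000000000000000000000000000000000000000000000000000000000000000000000000000000000000000000000000000000000000000000000000000000000000000000000000000000000000000000000000000000000000000000000000000000000000000000000000000000000000000000000000000000000000000000000000000000000000000000000000000000000000000000000000000000000000000000000000000000000000000000000000000000000000000000000000000000000000000000000000000000000000000000000000000000000000000000000000000000000000000000000000000000000000000000000000000000000000000000000000000000000000000000000000000000000000000000000000000000000000000000000000000000000000000000000000000000000000000000000000000000000000000004cc00a46100000000000000000000000000000000000000000000000000000000000000000000000000000000000000000000000000000000000002388051b080000000000000000000000000000000000000000000000000000000000000000000000000000168004d90802da009b0100000000000000000000000000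000000000000000000000000000000000000000000000000000000000000000000000000000000000000000000000000000000000000000000000000000000000000000002ef009960800000000000155c046306000000000000000000000000000000000000000000000000000000000000000000000000000000000000000000000000000000000000000000000000000000000029b008af1005670115a400ad4022a8300000000000000000000000000000000000000000000000000000000000000000000000000000000000000000000000000000000000000000000000000000000000000000000000000000000000000000000000000000000000000000000000000000000000000000000000000000000000000000000000000000000000000000000000000000000000000000000000000000000000000000000000000000000000000000000000000000000000000000000000000000000000000000000000000000000000000000000000000000000000000000000000000000000000000000000000000000000000000000000000000000000000000000000000000000000000000000000000024f0056b200000000000000000000000000000000000000000000000000000000000000000000000000000000000000000000000000000000000000000000000000000000000000000000000000000000000000000000000000000000000000000000000000000000000000000000000000000000000000000000000000000000000000000000000000000000000000000000000000000000000000000000000000000000000000000000000000000000000000000000000000000000000000000000000000000000000000000000000000000000000000000000000000000000000000000000000000000000000000000000000000000000000000000000000000000000000000000000000000000000000000000000001818049d08000000000000000000000)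 (Nat.mul (nat_lit 43) (Nat.land i (nat_lit 511)))) (nat_lit 8796093022207)
noncomputable def MR_4 (i : Nat) : Nat := Nat.land (Nat.shiftRight (nat_lit 0x66500ea808000000000001d4005e70e05e680d8810066700e9e0800000000000000000000005e600d920c0000000000000000000000000000000000000000000000000000000000000000000000000000000000000000000000000000000000000000000000000000000000000000000000000000000000000000000000000000000000000000e1802f3c7000000000000000000000000000000000000000000002cb406b48605ca80d680c07500179c4817dc03594301ce805f68800000000000000000000000cf001ce0101cdc05f8800000000000000000000000000000000002ab006ae86057000d5c0c0733015be20000000000000000000000039880ae3000000000000000000000000000000000000000000000000000000000000000000000000000000000000000000000000000000000000000000000000000000000000000000000000000000000000000000000000000000000000000000000000000000000000000000000000000000000000000000000000000000000000000000000000000000000000000000000000000000000000000000000000000000000000000000000000000000000000000000000000000000000000000000000000000000000000000000000000000000000000000000000000000000000000000000000000000000000000000000000000000000000000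00000000000000000000000000063700e1a1000000000000000000000005b380d170c0000000000000000000000000000000000000000000000000000000000000000000000000000000000000000000000000000000000000000000000000000000000000000000000000000000000000000000000000000000000000000000000000000000000000000000000000000000000000000000000000000000000000000000000000000000000000000000000000000000000000000000000000000000000000000000000000000000000000000000000000000000000000000000000000000000000000000000000000192803790403388073e04067600de000173403328300000000000033a8073b04000000000000000000000000000000000000000000000000000000000000000000000000000000000000000000000000000000000000000000000002e8807350005ed00dca00000000000000000000000000000000000000000000000000000000000000000000000000000000000000000000000000000000000000000000000000000000000000000000000000000000000000000000000000000000000000000000000000000000000000000000000000000000000000000000000000000000000000000000000000000000000000000000000000000000000000000000000000000000000000000000000000000000000000000000000000000000000000000000000000000000000000000000000000000000000000000000000000000000000000000000000000000000000000000000000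000000000000000000000000000000000000000000000000000000000000000000000000000000000000000000000000000000000000000000000000000000000000000000000000000000000000000000000000000000000000000000000000000000000000000000000000000000000000000000000000000000000000000000000000000000000000000000000000000000000000000000000000000000000000000000000000000000000000000000000000000000000000000000000000000000000000000000000000000000000000000000000000000000000000000000000000000000000000000000000000000000000000000000000000000000000000000000000000000000000000000000000000000000000000000000000000000000000000000000000000000000000192c037884033b006f008000000000000000000000000000000000000000000000000000000000000000000000000000000000000000000000000000000000000000000000000000000000000000000000000000000017b4037284000000000000000000000000000000000000000000000000000000000000000000000000000000000000000000000000000000000000000000000000000000000000000000000000000000000000000000000000000000000000000000000000000000000000000000000000000000000000000000000000000000000000000000000000000000000000000007a0019e42019e0039c0e039b80bf12003f600cee08000000000000000000000000000000000737017e21800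00000000000000000000000000000000000000000000000000000000000000000000000000000000000000000000000000000000000000000000000000000000000000000000000000000000000000003dd00cd4100cf001ce0901c3005e78603a800bce0c066700e9e200000000000000000000000332807540000000000000000000000000000000000000000000000000000000000000000000000000000000000000000000000000000000000000000000000000000000000000000000000000000000000000000000000000000000000000000000000000000000000000000000000000000000000000000000000000000000000000000000000000000000000000000000000000000000000000000000000000000000000000000000000000000000000000000000000000000000000000000000000000000003d000cf20000000000000000000000000000000000000000000000000000000000000000000000000000000000000000000000000000000000000000000000000000000000000000000000000000000000000000000000000000000000000000000000000000000000000000000000000000000000000000000000000000000000000000000000000000000000000000001ee8066a00063700e1a4007fe019a410000000000000000000000000000000000000000000000000000000000000000000000000000000000000000000000000000000000000000000000000000000000000000000000000000000000000000000000000000000000000000000000000000000000000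000000000000000000000000000000000000000000000000000000000000000000000000000000000000000000000000000000000000000000000000000000000000000000000000000000000000000000000000000000000000000000000000000000000000000000000000000000000000000000000000000000000000000000000000000000000000000000000000000000000000000000000000000000000000000000000000000000000000000000000000000000000000000000000000000000000000000000000000000000000000000000000000000000000000000000000000000000000000000000000000000000000000000000000000000000000000000000000000000000000000000000000000000000000000000000000000000000000000000040200c6c1000000000000000000000000000000000000000000000000000000000000000000000000000000000000000000000000000f2402fc840000000000000000000000000000000000000000000000000000000000000000000000000000000000000000000000000000000000000000000000000000000000000000000000000000000000000000000fcc02f602000000000000731015c6180000000000) (Nat.mul (nat_lit 43) (Nat.land i (nat_lit 511)))) (nat_lit 8796093022207)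
noncomputable def MR_5 (i : Nat) : Nat := Nat.land (Nat.shiftRight (nat_lit 0x461009cf1c08a9013e4300ab2023041000000000000000000000005590118250000000000000000000000000000000000000000000000000000000000000000000000000000000000000000000000000000000000000000000000000000000000000000000000000000000000000000000000000000000000000000221004e80e0000000000000000000000000000000000000000000029b008af0805660115c0811840273c9022b004f7000456009ee10000000000000000000000015a80455020454809f200000000000000000000000000000000000000000000000000000000000000000000000000000000000000000000000000000000000000000000000000000000000000000000000000000000000000000000000000000000000000000000000000000000000000000000000000000000000000000000000000000000000000000000000000000000000000000000000000000000000000000000000000000000000000000000000000000000000000000000000000000000000000000000000000000000000000000000000000000000000000000000000000000000000000000000000000000000000000000000000000000000000000000000000000000000000000000000000000a48022142000000000000000000000005220118a0000000000000000000000000000000000000000000000000000000000000000000000000000000000000000000000000000000000000000000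0000000000000000000000000000000000000000000000000000000000000000000000000000000000000000000000000000000000000000000000000000000000000000000000000000000000000000000000000000000000000000000000000000000000000000000000000000000000000000000000000000000000000000000000000000000000000000000000000000000029b8086a08056301160080ad0021a00014d80457800000000000005670115a080000000000000000000000000000000000000000000000000000000000000000000000000000000000000000000000000000000000000000000000000000000000000000000000000000000000000000000000000000000000000000000000000000000000000000000000000000000000000000000000000000000000000000000000000000000000000000000000000000000000000000000000000000000000000000000000000000000000000000000000000000000000000000000000000000000000000000000000000000000000000000000000000000000000000000000000000000000000000000000000000000000000000000000000000000000000000000000000000000000000000000000000000000000000000000000000000000000000000000000000000000000000000000000000000000000000000000000000000000000000000000000000000000000000000000000000000000000000000000000000000000000000000000000000000000000000000000000000000000000000000000000000000000000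000000000000000000000000000000000000000000000000000000000000000000000000000000000000000000000000000000000000000000000000000000000000000000000000000000000000000000000000000000000000000000000000000000000000000000000000000000000000000000000000000000000000000000000000000000000000000000000000000000000000000000000538010d2100ad0021a0200000000000000000000000000000000000000000000000000000000000000000000000000000000000000000000000000000000000000000000000000000000000000000000000000000000000000000000000000000000000000000000000000000000000000000000000000000000000000000000000000000000000000000000000000000000000000000000000000000000000000000000000000000000000051c010061010040271870155c0463160000000000000000000000000000000001564046096000000000000000000000000000000000000000000000000000000000000000000000000000000000000000000000000000000000000000000000000000000000000000000000000000000000000000000000000000000000000000000000000000000000000000000000000000000000000000000000000000000000000000000000000000000000000000000000000000000000000000000000000000000000000000000000000000000000000000000000000000000000000000000000000000000000000000000000000000000000000000000000000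00000000000000000000000000000000000000000000000000000000000000000000000000000000000000000000000051c0100600000000000000000000000000000000000000000000000000000000000000000000000000000000000000000000000000000000000000000000000000000000000000000000000000000000000000000000000000000000000000000000000000000000000000000000000000000000000000000000000000000000000000000000000000000000000000000000000000000000000000000000000000000000000000000000000000000000000000000000000000000000000000000000000000000000000000000000000000000000000000000000000000000000000000000000000000000000000000000000000000000000000000000000000000000000000000000000000000000000000000000000000000000000000000000000000000000000000000000000000000000000000000000000000000000000000000000000000000000000000000000000000000000000000000000000000000000000000000000000000000000000000000000000000000000000000000000000000000000000000000000000000000000000000000000000000000000000000000000000000000000000000000000000000000000000000000000000000000000000000000000000000000000000000000000000000000000000000000000000000000000000000000000000000000000000000000000000000000000000000000000000000000000000000000000000000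00000000000000000000000000000000000000000000000000000000000000000000000000000000000000000000000000000000000000000000000000000000000000000000000000000000000000000000000000000000000000000000000000000000000000000000000000000000000000000000000000000000000000000000000000000000000000000000000000000000000000000000000000000000000000000000000000000000000000000000000000000000000000000000000000000000000000000000000000000000000000000000000000000000000000000000000000000000000000000000000000000000000000000000000000000000000000000000000000000000000000000000000000000000000000000000000000000000000000000000000000000000000000000000000000000000000000000000000000000000000000000000000000000000000000000000000000000000000000000000000000000000000000000000000000000000000000000000000000000000000000000000000000000000000000) (Nat.mul (nat_lit 43) (Nat.land i (nat_lit 511)))) (nat_lit 8796093022207)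
noncomputable def MR_6 (i : Nat) : Nat := Nat.land (Nat.shiftRight (nat_lit 0x866013e21000000000000276c04f9940454809f22808ac013dc080000000000000000000000456009ee24000000000000000000000000000000000000000000009db013e6200000035ed4000000000000000010164c000000000000000000000000000000000000000000000000000000000000000000000000000000000000000000000000000000000000000000000000000000000000000000000000000000000000000000000000000009db013e60800000000000000000000000000000000000000000000000000000000000000000440009d60808bf013a84811800274c900000000000000000000000884013a01011840273c1022ec04ea880461009cf1008c20139e500000000000000000000000000000000007fe01394500ffe02724a000000000000000000000008020138c0811840273cb00000000000000000000000000000000000000000000000000000000000000000000000000000000000000000000000000000000000000000000000000000000000000000000000000000000000000000000000000000000000000000000000000000000000000000000000000000000000000000000000000000000000000000000000000000000000000000000000000000000000000000000000000000000000000000000000000000000000000000000000000000000000000000000000000000000000000000000000000000000000000000000000000000000000000000000000000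0000000000000000000000000000000000000000000000000000000000000000000000000000000000000000000000000000000000000000000000000000000000000000000000000000000000000000000000000000000000000000000000000000000000000000000000000000000000000000000000000000000000000000000000013280277000218804fa800000000000008670132428000000000000000000000000000000000866013e2000000000000000000000000000000000000000000000000000000000000000000000000000000000000000000000000000000000000000000000000000000000000000000000000000000000000000000000000000000000000000000000000000000000000000000000000000000000000000000000000000000000000000000000000000000000000000000000000000000000000000000000000000000000000000000000000000000000000000000000000000000000000000000000000000000000000000000000000000000000000000000000000000000000000000000000000000000000000000000000000000000000000000000000000000000000000000000000000000000000000000000000000000000000000000000000000000000045e0096a1c08bc012d4001104025a450220c04b4040440009d60008bb013aa081186025980000000000000460009d3040000000000000000000000220c04b40a00000000000000000000000000000000000000000000442009d00000000000000000000000000000000000000000000000000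000000000000000000000000000000000000000000000000000fb40272c00000000000003ff809c9040000000000000000000000000000000000000000000000000000000000000000000000000000000000000000000000000000000000000000000000000000000000000000000000000000000000000000000000000000000000000000000000000000000000000000000000000000000000000000000000000000000000000000000000000000000000000000000000000000000000000000000000000000000000000000000000000000000000000000000000000000000000000000000000000000000000000000000000000000000000000000000000000000000000000000000000000000000000000000000000000000000000000000000000000000000000000000000000000000000000000000000000000000000000000000000000000000000000000000000000000000000000000000000000000000000000000000000000000000000000000000000000000000000000000000000000000000000000000000000000000000000000000000000000000000000000000000000000000000000000000000000000000000000000000000000000000000000000000000000000000000000000000000000000000000000000000000000000000000040f0099504000000000000000000000000000000000000000000000000000000000000000000000000000000000000000000000000000000000000000000000000000000000000000000000000000000000000000000000000000000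00000000000000000000000000000000000000000000000000000000000000000000000000000000000000000000000000000000000000000000000000000000000000000000000000000000000000000000000000000000000000000000000000000000000000000000000000000000000000000000000000000000000000000000000000000000000000000000000000000000000000000000000000000000000000000000000000000000000000000000000000000000000000000000000000000000000000000000000000000000000000000000000000000000000000000020e404b5820443008f30408bc012d4101104025a42000000000000000000000008c3012cc100000000000000000000000000000000000000000000000000000000000000000000000000000000000000000000000000000000000000000000000000000000000000000000000000000000000000000000000000000000000000001f7004ac840000000000000000000000000000000000000000000000000000000000000000000000000000000000000000000000000000000000000000000000000000000000000000000000000000000000000000000000000000000000000000000000000000000000000000000000000000000000000000000000000000000) (Nat.mul (nat_lit 43) (Nat.land i (nat_lit 511)))) (nat_lit 8796093022207)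
noncomputable def MR_7 (i : Nat) : Nat := Nat.land (Nat.shiftRight (nat_lit 0x0) (Nat.mul (nat_lit 43) (Nat.land i (nat_lit 511)))) (nat_lit 8796093022207)
noncomputable def MR_8 (i : Nat) : Nat := Nat.land (Nat.shiftRight (nat_lit 0x0) (Nat.mul (nat_lit 43) (Nat.land i (nat_lit 511)))) (nat_lit 8796093022207)
noncomputable def MR_9 (i : Nat) : Nat := Nat.land (Nat.shiftRight (nat_lit 0x1d7e06308a000000000000000012ae3000000000000000000000000000000000000000000000000000000000000000000000000000000000000000000000000000000000000000000000000000000000000000000000000000000000000000000000000000000000000000000000000000000000000000000000000000000000000000000000000000000000000000000000000000000000000000000000000000000000000000000000000000000000000000000000000000000000000000000000000000000000000000000000000000000000000000000000000000000000000000000000000000000000000000000000000000000000000000000000000000000000000000000000000000000000000000000000000000000000000000000000000000000000000000000000000000000000000000000000000000000000000000000000000037f80c5e9207490186e100000000000000000000000000000000000000000000000000000000000000000000000000000000000000000000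0000000000000000000000000000000000000000000000000000000000000000000000000000000000000000000000000000000000000000000000000000000000000000000000000000000000000000000000000000000000000000000000000000000000000000000000000000000000000000000000000000000000000000000000000000000000000000000000000000000000000000000000000000000000000000000000000000000000000000000000000000000000000000000000000000000000000000000000000000000000000000000000000000000000000000000000000000000000000000000000000000000000000000000000000000000000000000000000000000000000000000000000000000000000000000000000000000000000000000000000000000000000000000000000000000000000000000000000000000000000000000000000000000000000000000000000000000000000000000000000000000000000000000000000000000000000000000000000000000000000000000000000000000000000000000000000000000000000000000000000000000000000000000000000000000000000000000000000000000000000000000000000000000000000000000000000000000000000000000000000000000000000000000000000000000000000000000000000000000000000000000000000000000000000000000000000000000000000000000000000000000000000000000000000000000000000000000000000000000000000000000000000000000000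00000000000000000000000000000000000000000000000000000000000000000000000000000000000000000000000000000000000000000000000000000000000000000000000000000000000000000000000000000000000000000000000000000000000000000000000000000000000000000000000000000000000000000000000000000000000000000000000000000000000000000000000000000000000000000000000000000000000000000000000000000000000000000000000000000000000000000000000000000000000000000000000000000000000000000000000000000000000000000000000000000000000000000000000000000000000000000000000000000000000000000000000000000000000000000000000000000000000000000000000000000000000000000000000000000000000000000000000000000000000000000000000000000000000000000000000000000000000000000000000000000000000000000000000000000000000000000000000000000000000000000000000000000000000000000000000dff0317e381bfc062f43037f80c5e900000000000000000000000000000000000000000000000000000000000000000000000000000000000000000000000000000000000000000000000000000000000000000000000000000000000000000000000000000000000000000000000000000000000000000000000000000000000000000000000000000000000000000000000000000000000000000000000000000000000000000000000000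00000000000000000000000000000000000000000000000000000000000000000000000000000000000000000000000000000000000000000000000000000000000000000001bc2061bc8036e00c5e060000000000000000000000000000000000000000000000000000000000000000000000000000000000000000000000000000000000000000000000000000000000000000000000000000000000000000000000000000000000000000000000000000000000000000000000000000000000000000000000000000000000000000000000000000000000000000000000000000000000000000000000000000000000000000000000000000000000000000000000000000000000000000000000000000000000000000000000000000000000000000000000000000000000000000000000000000000000000000000000000000000000000000000000000000000000000000000000000000000000000000000000000000000000000000000000000000000000000000000000000000000000000000000000000000000000000000000000000000000000000000000000000000000000000000000000000000000000000000000000000000000000000000000000000000000000000000000000000000000000000000000000000000000000000000000000000000000000000000000000000000000000000000000000000000000000000000000000000000000000000000000000000000000000000000000000000000000000000000000000000000000000000000000000000000000000000000000000000000000000000000000000000000000000000000000000000000000000000000000000000000000000000000000000000000000000000000000000000000000000000000000000000000000000000000000000000000000000000000000000000000000000000000000000000000000000000000000000000000000000000000000000000000000000000000000000000000000000000000000000000000000000000000000000000000000000000000000000000000000000000000000000000000000000000000)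 (Nat.mul (nat_lit 43) (Nat.land i (nat_lit 511)))) (nat_lit 8796093022207)
noncomputable def MR_10 (i : Nat) : Nat := Nat.land (Nat.shiftRight (nat_lit 0x151d5c0000000000000000000000000009d62c000000000000000000000000000000000000000000000000000000000000000000000000000000000000000000000000000000000000000000000000000000000000000000000000000000000000000000000000000000000000000000000000000000000000000000000000000000000000000000000000000000000000000000000000000000000000000000000000000000000000000000000000000000000000000000000000000000000000000000000000000000000000000000000000000000000000000000000000000000000000000000000000000000000000000000000000000000000000000000000000000000000000000000000000000000000000000000000000000000000000000000000000000000000000000000000000000000000000000000000000000000000000000000000000000000000000000000000000000000000000000000000000000000000000000000000000000000000000000000000000000000000000000000000000000000000000000000000000000000000000000000000000000000000000000000000000000000000000000000000000000000000000000000000000012ae540fc6030da281f8c061b4800000000000000000000000000000000000000000000000000000000000000000000000000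0000000000000000000000000000000000000000000000000000000000000000000000000000000000000000000000000000000000000000000000000000000000000000000000000000000000000000000000000000000000000000000000000000000000000000000000000000000000000000000000000000000000000000000000000000000000000000000000000000000000000000000000000000000000000000000000000000000000000000000000000000000000000000000000000000000000000000000000000000000000000000000000000000000000000000000000000000000000000000000000000000000000000000000000000000000000000000000000000000000000000000000000000000000000000000000000000000000000000000000000000000000000000000000000000000000000000000000000000000000000000000000000000000000000000000000000000000000000000000000000000000000000000000000000000000000000000000000000000000000000000000000000000000000000000000000000000000000000000000000000000000000000000000000000000000000000000000000000000000000000000000000000000000000000000000000000000000000000000000000000000000000000000000000000000000000000000000000000000000000000000000000000000000000000000000000000000000000000000000000000000000000000000000000000000000000000000000000000000000000000000000000000000000000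0000000000000000000000000000000000000000000000000000000000000000000000000000000000000000000000000000000000000000000000000000000000000000000000000000000000000000000000000000000000000000000000000000000000000000000000000000000000000000000000000000000000000000000000000000000000000000000000000000000000000000000000000000000000000000000000000000000000000000000000000000000000000000000000000000000000000000000000000000000000000000000000000000000000000000000000000000000000000000000000000000000000000000000000000000000000000000000000000000000000000000000000000000000000000000000000000000000000000000000000000000000000000000000000000000000000000000000000000000000000000000000000000000000000000000000000000000000000000000000000000000000000000000000000000000000000000000000000000000000000000000000000000000000000000000000000000000000000000000000000000000000000000000000000000000000000000000000000000000000000000000000000000000000000000000000000000000000000000000000000000000000000000000000000000000000000000000000000000000000000000000000000000000000000000000000000000000000000000000000000000000000000000000000000000000000000000000000000000000000000000000000000000000000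000000000000000000000000000000000000000000000000000000000000000000000000000000000000000000000000000000000000000000000000000000000000000000000000000000000000000000000000000000000000000000000000000000000000000000000000000000000000000000000000000000000000000000000000000000000000000000000000000000000000000000000000000000000000000000000000000000000000000000000000000000000000000000000000000000000000000000000000000000000000000000000000000000000000000000000000000000000000000000000000000000000000000000000000000000000000000000000000000000000000000000000000000000000000000000000000000000000000000000000000000000000000000000) (Nat.mul (nat_lit 43) (Nat.land i (nat_lit 511)))) (nat_lit 8796093022207)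
noncomputable def MR_11 (i : Nat) : Nat := Nat.land (Nat.shiftRight (nat_lit 0x13ac6411a3030d8002346061b08000000956b0000000000000000000000000000000000000000000000000000000000000000000000000000000000000000000000000000000000000000000000000000000000000000000000000000000000000000000000000000000000000000000000000000000000000000000000000000000000000000000000000000000000000000000000000000000000000000000000000000000000000000000000000000000000000000000000000000000000000000000000000000000000000000000000000000000000000000000000000000000000000000000000000000000000000000000000000000000000000000000000000000000000000000000000000000000000000000000000000000000000000000000000000000000000000000000000000000000000000000000000000000000000000000000000000000000000000000000000000000000000000000000000000000000000000000000000000000000000000000000000000000000000000000000000000000000000000000000000000000000000000000000000000000000000000000000000000000000000000000000000000000000000000000000000000000000000000000000000000000000000000000000000000000000000000000000000000000000000000000000000000000000000000000000000000000000000000000000000000000000000000000000000000000000000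0000000000000000000000000000000000000000000000000000000000000000000000000000000000000000000000000000000000000000000000000000000000000000000000000000000000000000000000000000000000000000000000000000000000000000000000000000000000000000000000000000000000000000000000000000000000000000000000000000000000000000000000000000000000000000000000000000000000000000000000000000000000000000000000000000000000000000000000000000000000000000000000000000000000000000000000000000000000000000000000000000000000000000000000000000000000000000000000000000000000000000000000000000000000000000000000000000000000000000000000000000000000000000000000000000000000000000000000000000000000000000000000000000000000000000000000000000000000000000000000000000000000000000000000000000000000000000000000000000000000000000000000000000000000000000000000000000000000000000000000000000000000000000000000000000000000000000000000000000000000000000000000000000000000000000000000000000000000000000000000000000000000000000000000000000000000000000000000000000000000000000000000000000000000000000000000000000000000000000000000000000000000000000000000000000000000000000000000000000000000000000000000000000000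0000000000000000000000000000000000000000000000000000000000000000000000000000000000000000000000000000000000000000000000000000000000000000000000000000000000000000000000000000000000000000000000000000000000000000000000000000000000000000000000000000000000000000000000000000000000000000000000000000000000000000000000000000000000000000000000000000000000000000000000000000000000000000000000000000000000000000000000000000000000000000000000000000000000000000000000000000000000000000000000000000000000000000000000000000000000000000000000000000000000000000000000000000000000000000000000000000000000000000000000000000000000000000000000000000000000000000000000000000000000000000000000000000000000000000000000000000000000000000000000000000000000000000000000000000000000000000000000000000000000000000000000000000000000000000000000000000000000000000000000000000000000000000000000000000000000000000000000000000000000000000000000000000000000000000000000000000000000000000000000000000000000000000000000000000000000000000000000000000000000000000000000000000000000000000000000000000000000000000000000000000000000000000000000000000000000000000000000000000000000000000000000000000000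000000000000000000000000000000000000000000000000000000000000000000000000000000000000000000000000000000000000000000000000000000000000000000000000000000000000000000000000000000000000000000000000000000000000000000000000000000000000000000000000000000000000000000000000000000000000000000000000000000000000000000000000000000000000000000000000000000000000000000000000000000000000000000000000000000000000000000000000000000000000000000000000000000000000000000000000000000000000000000000000000000000000000000000000000000000000000000000000000000000000000000000000000000000000000000000000000000000000000000000000000000000000000000000000000000000000000000000000000000000000000000000000000000000000000000000000000000000000000000000000000000000000000000000000000000000000000000000000000000000000000000000000000000000000000000000000000000000000000000000000000000000000000000000000000000000000000000000000000000000000000000000000000000000000000000000000000000000000000000000000000000000000000000000000000000000000000000000000000000000000000000000000000000000000000000000000000000000000000000000000000000000000000000000000000000000000000000000000000000000000000000000000000000000000000000000000000000000000)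 (Nat.mul (nat_lit 43) (Nat.land i (nat_lit 511)))) (nat_lit 8796093022207)
noncomputable def MR_12 (i : Nat) : Nat := Nat.land (Nat.shiftRight (nat_lit 0x944012b12400000000000000000000004a18095814000000000000000000f6e0249a04a10a04a200958840943012b00812850255e100000000000000000000000000000000000000000000000000000000000000000000000000000000000000000000000000000000000000000000000000000000000000000000000000000000000000000000000000000000000000000000000000000000000000000000000000000000000000000000000000000000000000000000000000000000000000000000000000000000000000000000000000000000000000000000000000000000000000000000000000000000000000000000000000000000000000000000000000000000000000000000000000000000000000000000000000000000000000000000000000000000000000000000000000000000000000000000000000000000000000000000000000000000000000000000000000000000000000000000000000000000000000000000000009268128408124e02506100000000000000000000000000000000000000000000000000000000000000000000000000000000000000000000000000000000000000000000000124e0250638249a04a10304a1409578809268128424124c026e45824960546460000000000000000000000000000000000000000000000000000000000000000000000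00000000000000000000000000000000000000000000000000000000000000000000000000000000000000000000000000000000000000000000000000000000000000000000000000000000000000000000000000000000000000000000000000000000000000000000000000000000000000000000000000000000000000000000000000000000000000000000000000000000000000000000000000000000000000000000000000000000000000000000000000000000000000000000000000000000000000000000000000000000000000000000000000000000000000000000000000000000000000000000000000000000000000000000000000000000000000000000000000000000000000000000000000000000000000000000000000000000000000000000000000000000000000000000000000000000000000000000000000000000000000000000000000000000000000000000000000000000000000000000000000000000000000000000005ebdb0000000000000000000000000002ad2d000000000000000000000000000000000000000000000000000000000000000000000000000000000000000000000000000000000000000000000000000000000000000000000000000000000000000000000000000000000000000000000000000000000000000000000000000000000000000000000000000000000000000000000000000000000000000000000000000000000000000000000000) (Nat.mul (nat_lit 43) (Nat.land i (nat_lit 511)))) (nat_lit 8796093022207)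
noncomputable def MR_13 (i : Nat) : Nat := Nat.land (Nat.shiftRight (nat_lit 0x0) (Nat.mul (nat_lit 43) (Nat.land i (nat_lit 511)))) (nat_lit 8796093022207)
noncomputable def MR_14 (i : Nat) : Nat := Nat.land (Nat.shiftRight (nat_lit 0x0) (Nat.mul (nat_lit 43) (Nat.land i (nat_lit 511)))) (nat_lit 8796093022207)
noncomputable def MR_15 (i : Nat) : Nat := Nat.land (Nat.shiftRight (nat_lit 0x0) (Nat.mul (nat_lit 43) (Nat.land i (nat_lit 511)))) (nat_lit 8796093022207)
noncomputable def MR_16 (i : Nat) : Nat := Nat.land (Nat.shiftRight (nat_lit 0x0) (Nat.mul (nat_lit 43) (Nat.land i (nat_lit 511)))) (nat_lit 8796093022207)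
noncomputable def MR_17 (i : Nat) : Nat := Nat.land (Nat.shiftRight (nat_lit 0x0) (Nat.mul (nat_lit 43) (Nat.land i (nat_lit 511)))) (nat_lit 8796093022207)
noncomputable def MR_18 (i : Nat) : Nat := Nat.land (Nat.shiftRight (nat_lit 0x0) (Nat.mul (nat_lit 43) (Nat.land i (nat_lit 511)))) (nat_lit 8796093022207)
noncomputable def MR_19 (i : Nat) : Nat := Nat.land (Nat.shiftRight (nat_lit 0x0) (Nat.mul (nat_lit 43) (Nat.land i (nat_lit 511)))) (nat_lit 8796093022207)
noncomputable def MR_20 (i : Nat) : Nat := Nat.land (Nat.shiftRight (nat_lit 0x0) (Nat.mul (nat_lit 43) (Nat.land i (nat_lit 511)))) (nat_lit 8796093022207)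
noncomputable def MR_21 (i : Nat) : Nat := Nat.land (Nat.shiftRight (nat_lit 0x0) (Nat.mul (nat_lit 43) (Nat.land i (nat_lit 511)))) (nat_lit 8796093022207)
noncomputable def MR_22 (i : Nat) : Nat := Nat.land (Nat.shiftRight (nat_lit 0x0) (Nat.mul (nat_lit 43) (Nat.land i (nat_lit 511)))) (nat_lit 8796093022207)
noncomputable def MR_23 (i : Nat) : Nat := Nat.land (Nat.shiftRight (nat_lit 0x0) (Nat.mul (nat_lit 43) (Nat.land i (nat_lit 511)))) (nat_lit 8796093022207)
noncomputable def MR_24 (i : Nat) : Nat := Nat.land (Nat.shiftRight (nat_lit 0x0) (Nat.mul (nat_lit 43) (Nat.land i (nat_lit 511)))) (nat_lit 8796093022207)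
noncomputable def MR_25 (i : Nat) : Nat := Nat.land (Nat.shiftRight (nat_lit 0x0) (Nat.mul (nat_lit 43) (Nat.land i (nat_lit 511)))) (nat_lit 8796093022207)
noncomputable def MR_26 (i : Nat) : Nat := Nat.land (Nat.shiftRight (nat_lit 0x0) (Nat.mul (nat_lit 43) (Nat.land i (nat_lit 511)))) (nat_lit 8796093022207)
noncomputable def MR_27 (i : Nat) : Nat := Nat.land (Nat.shiftRight (nat_lit 0x0) (Nat.mul (nat_lit 43) (Nat.land i (nat_lit 511)))) (nat_lit 8796093022207)
noncomputable def MR_28 (i : Nat) : Nat := Nat.land (Nat.shiftRight (nat_lit 0x0) (Nat.mul (nat_lit 43) (Nat.land i (nat_lit 511)))) (nat_lit 8796093022207)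
noncomputable def MR_29 (i : Nat) : Nat := Nat.land (Nat.shiftRight (nat_lit 0x0) (Nat.mul (nat_lit 43) (Nat.land i (nat_lit 511)))) (nat_lit 8796093022207)
noncomputable def MR_30 (i : Nat) : Nat := Nat.land (Nat.shiftRight (nat_lit 0x0) (Nat.mul (nat_lit 43) (Nat.land i (nat_lit 511)))) (nat_lit 8796093022207)
noncomputable def MR_31 (i : Nat) : Nat := Nat.land (Nat.shiftRight (nat_lit 0x0) (Nat.mul (nat_lit 43) (Nat.land i (nat_lit 511)))) (nat_lit 8796093022207)
noncomputable def MR_32 (i : Nat) : Nat := Nat.land (Nat.shiftRight (nat_lit 0x0) (Nat.mul (nat_lit 43) (Nat.land i (nat_lit 511)))) (nat_lit 8796093022207)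
noncomputable def MR_33 (i : Nat) : Nat := Nat.land (Nat.shiftRight (nat_lit 0x0) (Nat.mul (nat_lit 43) (Nat.land i (nat_lit 511)))) (nat_lit 8796093022207)
noncomputable def MR_34 (i : Nat) : Nat := Nat.land (Nat.shiftRight (nat_lit 0x0) (Nat.mul (nat_lit 43) (Nat.land i (nat_lit 511)))) (nat_lit 8796093022207)
noncomputable def MR_35 (i : Nat) : Nat := Nat.land (Nat.shiftRight (nat_lit 0x0) (Nat.mul (nat_lit 43) (Nat.land i (nat_lit 511)))) (nat_lit 8796093022207)
noncomputable def MR_36 (i : Nat) : Nat := Nat.land (Nat.shiftRight (nat_lit 0x0) (Nat.mul (nat_lit 43) (Nat.land i (nat_lit 511)))) (nat_lit 8796093022207)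
noncomputable def MR_37 (i : Nat) : Nat := Nat.land (Nat.shiftRight (nat_lit 0x0) (Nat.mul (nat_lit 43) (Nat.land i (nat_lit 511)))) (nat_lit 8796093022207)
noncomputable def MR_38 (i : Nat) : Nat := Nat.land (Nat.shiftRight (nat_lit 0x0) (Nat.mul (nat_lit 43) (Nat.land i (nat_lit 511)))) (nat_lit 8796093022207)
noncomputable def MR_39 (i : Nat) : Nat := Nat.land (Nat.shiftRight (nat_lit 0x0) (Nat.mul (nat_lit 43) (Nat.land i (nat_lit 511)))) (nat_lit 8796093022207)
noncomputable def MR_40 (i : Nat) : Nat := Nat.land (Nat.shiftRight (nat_lit 0x0) (Nat.mul (nat_lit 43) (Nat.land i (nat_lit 511)))) (nat_lit 8796093022207)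
noncomputable def MR_41 (i : Nat) : Nat := Nat.land (Nat.shiftRight (nat_lit 0x0) (Nat.mul (nat_lit 43) (Nat.land i (nat_lit 511)))) (nat_lit 8796093022207)
noncomputable def MR_42 (i : Nat) : Nat := Nat.land (Nat.shiftRight (nat_lit 0xbb8218a7c617708314f0c0000000000000000000000bb8c18a70617724314d8c0000000000000000000000000000000000000000000000000000005de90c52430bd6418a446000000000002ef58628f185eb60c51c30bbe018a346000000000000000000000000000000000000000000000000000000000000000000000000000000000000000000000000000000000000000000000000000000000000000000000000000000000000a784f8000014f09e000000000000000000000000000000000000014f08d000000000000000053ca74610c0c52a30000000000000000000000000000000000000000000000000000000000000000000000000000000000000000000000000000000000000000000000000000000000000000000000000000000000000000000000000000000000000000000000000000000000000000000000000000000000000000000000000000000000000000000000000000000000000000000000000000000000000000000000000000000000000000000000000000000000000000000000000000000000000000000000000000000000000000000000000000000000000000000000000000000000000000000000000000000000000000000000000000000000000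0000000000000000000000000000000000000000000000000000000000000000000000000000000000000000000000000000000000000000000000000000000000000000000000000000000000000000000000000000000000000000000000000000000000000000000000000000000000000000000000000000000000000000000000000000000000000000000000000000000000000000000000000000000000000000000000000000000000000000000000000000000000000000000000000000000000000000000000000000000000000000000000000000000000000000000000000000000000000000000000000000000000000000000000000000000000000000000000000000000000000000000000000000000000000000000000000000000000000000000000000000000000000000000000000000000000000000000000000000000000000000000000000000000000000000000000000000000000000000000000000000000000000000000000000000000000000000000000000000000000000000000000000000000000000000000000000000000000000000000000000000000000000000000000000000000000000000000000000000000000000000000000000000000000000000000000000000000000000000000000000000000000000000000000000000000000000000000000000000000000000000000000000000000000000000000000000000000000000000000000000000000000000000000000000000000000000000000000000000000000000000000000000000000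0000000000000000000000000000000000000000000000000000000000000000000000000000000000000000000000000000000000000000000000000000000000000000000000000000000000000000000000000000000000000000000000000000000000000000000000000000000000000000000000000000000000000000000000000000000000000000000000000000000000000000000000000000000000000000000000000000000000000000000000000000000000000000000000000000000000000000000000000000000000000000000000000000000000000000000000000000000000000000000000000000000000000000000000000000000000000000000000000000000000000000000000000000000000000000000000000000000000000000000000000000000000000000000000000000000000000000000000000000000000000000000000000000000000000000000000000000000000000000000000000000000000000000000000000000000000000000000000000000000000000000000000000000000000000000000000000000000000000000000000000000000000000000000000000000000000000000000000000000000000000000000000000000000000000000000000000000000000000000000000000000000000000000000000000000000000000000000000000000000000000000000000000000000000000000000000000000000000000000000000000000000000000000000000000000000000000000000000000000000000000000000000000000000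0000000000000000000000000000000000000000000000000000000000000000000000000000000000000000000000000000000000000000000000000000000000000000000000000000000000000000000000000000000000000000000000000000000000000000000000000000000000000000000000000000000000000000000000000000000000000000000000000000000000000000000000000000000000000000000000000000000000000000000000000000000000000000000000000000000000000000000000000000000000000000000000000000000000000000000000000000000000000000000000000000000000000000000000000000000000000000000000000000000000000000000000000000000000000000000000000000000000000000000000000000000000000000000000000000000000000000000000000000000000000000000000000000000000000000000000000000000000000000000000000000000000000000000000000000000000000000000000000000000000000000000000000000000000000000000000000000000000000000000000000000000000000000000000000000000000000000000000000000000000000000000000000000000000000000000000000000000000000000000000000000000000000000000000000000000000000000000000000000000000000000000000000000000000000000000000000000000000000000000000000000000000000000000000000000000000000000000000000000000000000000000000000000000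00000000000000000000000000000000000000000000000000000000000000000000000000000000000000000000000000000000000000000000000000000000000000000000000000000000000000000000000000000000000000000000000000000000000000000000000000000000000000000000000000000000000000000000000000000000000000000000000000000000000000000000000000000000000000000000000000000000000000000000000000000000000000000000000000000000000000000000000000000000000000000000000000000000000000000000000000000000000000000000000000000000000000000000000000000000000000000000000000000000000000000000000000000000000000000000000000000000000000000000000000000000000000000000000000000000000000000000000000000000000000000000000000000000000000000000000000000000000000000000000000000000000000000000000000000000000000000000000000000000000000000000000000000000000000000000000000000000000000000000000000000000000000000000000000000000000000000000000000000000000000000000000000000000000000000000000000000000000000000000000000000000000000000000000000) (Nat.mul (nat_lit 43) (Nat.land i (nat_lit 511)))) (nat_lit 8796093022207)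
noncomputable def MR_43 (i : Nat) : Nat := Nat.land (Nat.shiftRight (nat_lit 0x0) (Nat.mul (nat_lit 43) (Nat.land i (nat_lit 511)))) (nat_lit 8796093022207)
noncomputable def MR_44 (i : Nat) : Nat := Nat.land (Nat.shiftRight (nat_lit 0x0) (Nat.mul (nat_lit 43) (Nat.land i (nat_lit 511)))) (nat_lit 8796093022207)
noncomputable def MR_45 (i : Nat) : Nat := Nat.land (Nat.shiftRight (nat_lit 0x0) (Nat.mul (nat_lit 43) (Nat.land i (nat_lit 511)))) (nat_lit 8796093022207)
noncomputable def MR_46 (i : Nat) : Nat := Nat.land (Nat.shiftRight (nat_lit 0x0) (Nat.mul (nat_lit 43) (Nat.land i (nat_lit 511)))) (nat_lit 8796093022207)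
noncomputable def MR_47 (i : Nat) : Nat := Nat.land (Nat.shiftRight (nat_lit 0x0) (Nat.mul (nat_lit 43) (Nat.land i (nat_lit 511)))) (nat_lit 8796093022207)
noncomputable def MR_48 (i : Nat) : Nat := Nat.land (Nat.shiftRight (nat_lit 0x0) (Nat.mul (nat_lit 43) (Nat.land i (nat_lit 511)))) (nat_lit 8796093022207)
noncomputable def MR_49 (i : Nat) : Nat := Nat.land (Nat.shiftRight (nat_lit 0x2ee11c000005dc94000000000000000016d6a3000002ee31800000000000000000000000000000000000000000000000000000000000b6bb10000000000000000000000000005deb4000000bbd6780000000000000002ee49c000005deb8400000bb93000000000000000000000000000000000000000000000000000000000000000000000000000000000000000000000000000000000000000000000000000000000000000000000000000000000000000000000000000000000000000000000000000000000000000000000000000000000000000000000000000000000000000000000000000000000000000000000000000000000000000000000000000000000000000000000000000000000000000000000000000000000000000000000000000000000000000000000000000000000000000000000000000000000000000000000000000000000000000000000000000000000000000000000000000000000000000000000000000000000000000000000000000000000000000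00000000000000000000000000000000000000000000000000000000000000000000000000000000000000000000000000000000000000000000000000000000000000000000000000000000000000000000000000000000000000000000000000000000000000000000000000000000000000000000000000000000000000000000000000000000000000000000000000000000000000000000000000000000000000000000000000000000000000000000000000000000000000000000000000000000000000000000000000000000000000000000000000000000000000000000000000000000000000000000000000000000000000000000000000000000000000000000000000000000000000000000000000000000000000000000000000000000000000000000000000000000000000000000000000000000000000000000000000000000000000000000000000000000000000000000000000000000000000000000000000000000000000000000000000000000000000000000000000000000000000000000000000000000000000000000000000000000000000000000000000000000000000000000000000000000000000000000000000000000000000000000000000000000000000000000000000000000000000) (Nat.mul (nat_lit 43) (Nat.land i (nat_lit 511)))) (nat_lit 8796093022207)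
noncomputable def MR_50 (i : Nat) : Nat := Nat.land (Nat.shiftRight (nat_lit 0x2ef81a00000000000000000000000000000000000003145480000000000000000000000000000000000000000000000000000000000000000000000000000000000000000000000000000000000000000000000000000000000000000000000000000000000000000000000000000000000000000000000000000000000000000000000000000000000000000000000000000000000000000000000000000000000000000000000000000000000000000000000000000000000000000000000000000000000000000000000000000000000000000000000000000000000000000000000000000000000000000000000000000000000000000000000000000000000000000000000000000000000000000000000000000000000000000000000000000000000000000000000000000000000000000000000000000000000000000000000000000000000000000000000000000000000000000000000000000000000000000000000000000000000000000000000000000000000000000000000000000000000000000000000000000000000000000000000000000000000000000000000000000000000000000000000000000000000000000000000000000000000000000000000000000000000000000000000000000000000000000000000000000000000000000000000000000000000000000000000000000000000000000000000000000000000000000000000000000000000000000000000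0000000000000000000000000000000000000000000000000000000000000000000000000000000000000000000000000000000000000000000000000000000000000000000000000000000000000000000000000000000000000000000000000000000000000000000000000000000000000000000000000000000000000000000000000000000000000000000000000000000000000000000000000000000000000000000000000000000000000000000000000000000000000000000000000000000000000000000000000000000000000000000000000000000000000000000000000000000000000000000000000000000000000000000000000000000000000000000000000000000000000000000000000000000000000000000000000000000000000000000000000000000000000000000000000000000000000000000000000000000000000000000000000000000000000000000000000000000000000000000000000000000000000000000000000000000000000000000000000000000000000000000000000000000000000000000000000000000000000000000000000000000000000000000000000000000000000000000000000000000000000000000000000000000000000000000000000000000000000000000000000000000000000000000000000000000000000000000000000000000000000000000000000000000000000000000000000000000000000000000000000000000000000000000000000000000000000000000000000000000000000000000000000000000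0000000000000000000000000000000000000000000000000000000000000000000000000000000000000000000000000000000000000000000000000000000000000000000000000000000000000000000000000000000000000000000000000000000000000000000000000000000000000000000000000000000000000000000000000000000000000000000000000000000000000000000000000000000000000000000000000000000000000000000000000000000000000000000000000000000000000000000000000000000000000000000000000000000000000000000000000000000000000000000000000000000000000000000000000000000000000000000000000000000000000000000000000000000000000000000000000000000000000000000000000000000000000000000000000000000000000000000000000000000000000000000000000000000000000000000000000000000000000000000000000000000000000000000000000000000000000000000000000000000000000000000000000000000000000000000000000000000000000000000000000000000000000000000000000000000000000000000000000000000000000000000000000000000000000000000000000000000000000000000000000000000000000000000000000000000000000000000000000000000000000000000000000000000000000000000000000000000000000000000000000000000000000000000000000000000000000000000000000000000000000000000000000000000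0000000000000000000000000000000000000000000000000000000000000000000000000000000000000000000000000000000000000000000000000000000000000000000000000000000000000000000000000000000000000000000000000000000000000000000000000000000000000000000000000000000000000000000000000000000000000000000000000000000000000000000000000000000000000000000000000000000000000000000000000000000000000000000000000000000000000000000000000000000000000000000000000000000000000000000000000000000000000000000000000000000000000000000000000000000000000000000000000000000000000000000000000000000000000000000000000000000000000000000000000000000000000000000000000000000000000000000000000000000000000000000000000000000000000000000000000000000000000000000000000000000000000000000000000000000000000000000000000000000000000000000000000000000000000000000000000000000000000000000000000000000000000000000000000000000000000000000000000000000000000000000000000000000000000000000000000000000000000000000000000000000000000000000000000000000000000000000000000000000000000000000000000000000000000000000000000000000000000000000000000000000000000000000000000000000000000000000000000000000000000000000000000000000000000000000000000000000000000000000000000000000000000000000000000000000000000000000000000000000000000000000000000000000000000)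 (Nat.mul (nat_lit 43) (Nat.land i (nat_lit 511)))) (nat_lit 8796093022207)
noncomputable def MR_51 (i : Nat) : Nat := Nat.land (Nat.shiftRight (nat_lit 0x0) (Nat.mul (nat_lit 43) (Nat.land i (nat_lit 511)))) (nat_lit 8796093022207)
noncomputable def MR_52 (i : Nat) : Nat := Nat.land (Nat.shiftRight (nat_lit 0x0) (Nat.mul (nat_lit 43) (Nat.land i (nat_lit 511)))) (nat_lit 8796093022207)
noncomputable def MR_53 (i : Nat) : Nat := Nat.land (Nat.shiftRight (nat_lit 0x0) (Nat.mul (nat_lit 43) (Nat.land i (nat_lit 511)))) (nat_lit 8796093022207)
noncomputable def MR_54 (i : Nat) : Nat := Nat.land (Nat.shiftRight (nat_lit 0x0) (Nat.mul (nat_lit 43) (Nat.land i (nat_lit 511)))) (nat_lit 8796093022207)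
noncomputable def MR_55 (i : Nat) : Nat := Nat.land (Nat.shiftRight (nat_lit 0x0) (Nat.mul (nat_lit 43) (Nat.land i (nat_lit 511)))) (nat_lit 8796093022207)
noncomputable def MR_56 (i : Nat) : Nat := Nat.land (Nat.shiftRight (nat_lit 0x0) (Nat.mul (nat_lit 43) (Nat.land i (nat_lit 511)))) (nat_lit 8796093022207)
noncomputable def MR_57 (i : Nat) : Nat := Nat.land (Nat.shiftRight (nat_lit 0x0) (Nat.mul (nat_lit 43) (Nat.land i (nat_lit 511)))) (nat_lit 8796093022207)
noncomputable def MR_58 (i : Nat) : Nat := Nat.land (Nat.shiftRight (nat_lit 0x0) (Nat.mul (nat_lit 43) (Nat.land i (nat_lit 511)))) (nat_lit 8796093022207)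
noncomputable def MR_59 (i : Nat) : Nat := Nat.land (Nat.shiftRight (nat_lit 0x0) (Nat.mul (nat_lit 43) (Nat.land i (nat_lit 511)))) (nat_lit 8796093022207)
noncomputable def MR_60 (i : Nat) : Nat := Nat.land (Nat.shiftRight (nat_lit 0x0) (Nat.mul (nat_lit 43) (Nat.land i (nat_lit 511)))) (nat_lit 8796093022207)
noncomputable def MR_61 (i : Nat) : Nat := Nat.land (Nat.shiftRight (nat_lit 0x0) (Nat.mul (nat_lit 43) (Nat.land i (nat_lit 511)))) (nat_lit 8796093022207)
noncomputable def MR_62 (i : Nat) : Nat := Nat.land (Nat.shiftRight (nat_lit 0x0) (Nat.mul (nat_lit 43) (Nat.land i (nat_lit 511)))) (nat_lit 8796093022207)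
noncomputable def MR_63 (i : Nat) : Nat := Nat.land (Nat.shiftRight (nat_lit 0x0) (Nat.mul (nat_lit 43) (Nat.land i (nat_lit 511)))) (nat_lit 8796093022207)
noncomputable def MR_64 (i : Nat) : Nat := Nat.land (Nat.shiftRight (nat_lit 0x0) (Nat.mul (nat_lit 43) (Nat.land i (nat_lit 511)))) (nat_lit 8796093022207)
noncomputable def MR_65 (i : Nat) : Nat := Nat.land (Nat.shiftRight (nat_lit 0x0) (Nat.mul (nat_lit 43) (Nat.land i (nat_lit 511)))) (nat_lit 8796093022207)
noncomputable def MR_66 (i : Nat) : Nat := Nat.land (Nat.shiftRight (nat_lit 0x0) (Nat.mul (nat_lit 43) (Nat.land i (nat_lit 511)))) (nat_lit 8796093022207)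
noncomputable def MR_67 (i : Nat) : Nat := Nat.land (Nat.shiftRight (nat_lit 0x0) (Nat.mul (nat_lit 43) (Nat.land i (nat_lit 511)))) (nat_lit 8796093022207)
noncomputable def MR_68 (i : Nat) : Nat := Nat.land (Nat.shiftRight (nat_lit 0x0) (Nat.mul (nat_lit 43) (Nat.land i (nat_lit 511)))) (nat_lit 8796093022207)
noncomputable def MR_69 (i : Nat) : Nat := Nat.land (Nat.shiftRight (nat_lit 0x0) (Nat.mul (nat_lit 43) (Nat.land i (nat_lit 511)))) (nat_lit 8796093022207)
noncomputable def MR_70 (i : Nat) : Nat := Nat.land (Nat.shiftRight (nat_lit 0x0) (Nat.mul (nat_lit 43) (Nat.land i (nat_lit 511)))) (nat_lit 8796093022207)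
noncomputable def MR_71 (i : Nat) : Nat := Nat.land (Nat.shiftRight (nat_lit 0x0) (Nat.mul (nat_lit 43) (Nat.land i (nat_lit 511)))) (nat_lit 8796093022207)
noncomputable def MR_72 (i : Nat) : Nat := Nat.land (Nat.shiftRight (nat_lit 0x0) (Nat.mul (nat_lit 43) (Nat.land i (nat_lit 511)))) (nat_lit 8796093022207)
noncomputable def MR_73 (i : Nat) : Nat := Nat.land (Nat.shiftRight (nat_lit 0x0) (Nat.mul (nat_lit 43) (Nat.land i (nat_lit 511)))) (nat_lit 8796093022207)
noncomputable def MR_74 (i : Nat) : Nat := Nat.land (Nat.shiftRight (nat_lit 0x0) (Nat.mul (nat_lit 43) (Nat.land i (nat_lit 511)))) (nat_lit 8796093022207)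
noncomputable def MR_75 (i : Nat) : Nat := Nat.land (Nat.shiftRight (nat_lit 0x0) (Nat.mul (nat_lit 43) (Nat.land i (nat_lit 511)))) (nat_lit 8796093022207)
noncomputable def MR_76 (i : Nat) : Nat := Nat.land (Nat.shiftRight (nat_lit 0x0) (Nat.mul (nat_lit 43) (Nat.land i (nat_lit 511)))) (nat_lit 8796093022207)
noncomputable def MR_77 (i : Nat) : Nat := Nat.land (Nat.shiftRight (nat_lit 0x0) (Nat.mul (nat_lit 43) (Nat.land i (nat_lit 511)))) (nat_lit 8796093022207)
noncomputable def MR_78 (i : Nat) : Nat := Nat.land (Nat.shiftRight (nat_lit 0x0) (Nat.mul (nat_lit 43) (Nat.land i (nat_lit 511)))) (nat_lit 8796093022207)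
noncomputable def MR_79 (i : Nat) : Nat := Nat.land (Nat.shiftRight (nat_lit 0x0) (Nat.mul (nat_lit 43) (Nat.land i (nat_lit 511)))) (nat_lit 8796093022207)
noncomputable def MR_80 (i : Nat) : Nat := Nat.land (Nat.shiftRight (nat_lit 0x0) (Nat.mul (nat_lit 43) (Nat.land i (nat_lit 511)))) (nat_lit 8796093022207)
noncomputable def MR_81 (i : Nat) : Nat := Nat.land (Nat.shiftRight (nat_lit 0x0) (Nat.mul (nat_lit 43) (Nat.land i (nat_lit 511)))) (nat_lit 8796093022207)
noncomputable def MR_82 (i : Nat) : Nat := Nat.land (Nat.shiftRight (nat_lit 0x0) (Nat.mul (nat_lit 43) (Nat.land i (nat_lit 511)))) (nat_lit 8796093022207)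
noncomputable def MR_83 (i : Nat) : Nat := Nat.land (Nat.shiftRight (nat_lit 0x0) (Nat.mul (nat_lit 43) (Nat.land i (nat_lit 511)))) (nat_lit 8796093022207)
noncomputable def MR_84 (i : Nat) : Nat := Nat.land (Nat.shiftRight (nat_lit 0x0) (Nat.mul (nat_lit 43) (Nat.land i (nat_lit 511)))) (nat_lit 8796093022207)
noncomputable def MR_85 (i : Nat) : Nat := Nat.land (Nat.shiftRight (nat_lit 0x0) (Nat.mul (nat_lit 43) (Nat.land i (nat_lit 511)))) (nat_lit 8796093022207)
noncomputable def MR_86 (i : Nat) : Nat := Nat.land (Nat.shiftRight (nat_lit 0x0) (Nat.mul (nat_lit 43) (Nat.land i (nat_lit 511)))) (nat_lit 8796093022207)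
noncomputable def MR_87 (i : Nat) : Nat := Nat.land (Nat.shiftRight (nat_lit 0x0) (Nat.mul (nat_lit 43) (Nat.land i (nat_lit 511)))) (nat_lit 8796093022207)
noncomputable def MR_88 (i : Nat) : Nat := Nat.land (Nat.shiftRight (nat_lit 0x0) (Nat.mul (nat_lit 43) (Nat.land i (nat_lit 511)))) (nat_lit 8796093022207)
noncomputable def MR_89 (i : Nat) : Nat := Nat.land (Nat.shiftRight (nat_lit 0x0) (Nat.mul (nat_lit 43) (Nat.land i (nat_lit 511)))) (nat_lit 8796093022207)
noncomputable def MR_90 (i : Nat) : Nat := Nat.land (Nat.shiftRight (nat_lit 0x0) (Nat.mul (nat_lit 43) (Nat.land i (nat_lit 511)))) (nat_lit 8796093022207)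
noncomputable def MR_91 (i : Nat) : Nat := Nat.land (Nat.shiftRight (nat_lit 0x0) (Nat.mul (nat_lit 43) (Nat.land i (nat_lit 511)))) (nat_lit 8796093022207)
noncomputable def MR_92 (i : Nat) : Nat := Nat.land (Nat.shiftRight (nat_lit 0x0) (Nat.mul (nat_lit 43) (Nat.land i (nat_lit 511)))) (nat_lit 8796093022207)
noncomputable def MR_93 (i : Nat) : Nat := Nat.land (Nat.shiftRight (nat_lit 0x0) (Nat.mul (nat_lit 43) (Nat.land i (nat_lit 511)))) (nat_lit 8796093022207)
noncomputable def MR_94 (i : Nat) : Nat := Nat.land (Nat.shiftRight (nat_lit 0x0) (Nat.mul (nat_lit 43) (Nat.land i (nat_lit 511)))) (nat_lit 8796093022207)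
noncomputable def MR_95 (i : Nat) : Nat := Nat.land (Nat.shiftRight (nat_lit 0x0) (Nat.mul (nat_lit 43) (Nat.land i (nat_lit 511)))) (nat_lit 8796093022207)
noncomputable def MR_96 (i : Nat) : Nat := Nat.land (Nat.shiftRight (nat_lit 0x0) (Nat.mul (nat_lit 43) (Nat.land i (nat_lit 511)))) (nat_lit 8796093022207)
noncomputable def MR_97 (i : Nat) : Nat := Nat.land (Nat.shiftRight (nat_lit 0x0) (Nat.mul (nat_lit 43) (Nat.land i (nat_lit 511)))) (nat_lit 8796093022207)
noncomputable def MR_98 (i : Nat) : Nat := Nat.land (Nat.shiftRight (nat_lit 0x0) (Nat.mul (nat_lit 43) (Nat.land i (nat_lit 511)))) (nat_lit 8796093022207)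
noncomputable def MR_99 (i : Nat) : Nat := Nat.land (Nat.shiftRight (nat_lit 0x0) (Nat.mul (nat_lit 43) (Nat.land i (nat_lit 511)))) (nat_lit 8796093022207)
noncomputable def MR_100 (i : Nat) : Nat := Nat.land (Nat.shiftRight (nat_lit 0x0) (Nat.mul (nat_lit 43) (Nat.land i (nat_lit 511)))) (nat_lit 8796093022207)
noncomputable def MR_101 (i : Nat) : Nat := Nat.land (Nat.shiftRight (nat_lit 0x0) (Nat.mul (nat_lit 43) (Nat.land i (nat_lit 511)))) (nat_lit 8796093022207)
noncomputable def MR_102 (i : Nat) : Nat := Nat.land (Nat.shiftRight (nat_lit 0x0) (Nat.mul (nat_lit 43) (Nat.land i (nat_lit 511)))) (nat_lit 8796093022207)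
noncomputable def MR_103 (i : Nat) : Nat := Nat.land (Nat.shiftRight (nat_lit 0x0) (Nat.mul (nat_lit 43) (Nat.land i (nat_lit 511)))) (nat_lit 8796093022207)
noncomputable def MR_104 (i : Nat) : Nat := Nat.land (Nat.shiftRight (nat_lit 0x0) (Nat.mul (nat_lit 43) (Nat.land i (nat_lit 511)))) (nat_lit 8796093022207)
noncomputable def MR_105 (i : Nat) : Nat := Nat.land (Nat.shiftRight (nat_lit 0x0) (Nat.mul (nat_lit 43) (Nat.land i (nat_lit 511)))) (nat_lit 8796093022207)
noncomputable def MR_106 (i : Nat) : Nat := Nat.land (Nat.shiftRight (nat_lit 0x0) (Nat.mul (nat_lit 43) (Nat.land i (nat_lit 511)))) (nat_lit 8796093022207)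
noncomputable def MR_107 (i : Nat) : Nat := Nat.land (Nat.shiftRight (nat_lit 0x0) (Nat.mul (nat_lit 43) (Nat.land i (nat_lit 511)))) (nat_lit 8796093022207)
noncomputable def MR_108 (i : Nat) : Nat := Nat.land (Nat.shiftRight (nat_lit 0x0) (Nat.mul (nat_lit 43) (Nat.land i (nat_lit 511)))) (nat_lit 8796093022207)
noncomputable def MR_109 (i : Nat) : Nat := Nat.land (Nat.shiftRight (nat_lit 0x0) (Nat.mul (nat_lit 43) (Nat.land i (nat_lit 511)))) (nat_lit 8796093022207)
noncomputable def MR_110 (i : Nat) : Nat := Nat.land (Nat.shiftRight (nat_lit 0x0) (Nat.mul (nat_lit 43) (Nat.land i (nat_lit 511)))) (nat_lit 8796093022207)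
noncomputable def MR_111 (i : Nat) : Nat := Nat.land (Nat.shiftRight (nat_lit 0x0) (Nat.mul (nat_lit 43) (Nat.land i (nat_lit 511)))) (nat_lit 8796093022207)
noncomputable def MR_112 (i : Nat) : Nat := Nat.land (Nat.shiftRight (nat_lit 0x0) (Nat.mul (nat_lit 43) (Nat.land i (nat_lit 511)))) (nat_lit 8796093022207)
noncomputable def MR_113 (i : Nat) : Nat := Nat.land (Nat.shiftRight (nat_lit 0x0) (Nat.mul (nat_lit 43) (Nat.land i (nat_lit 511)))) (nat_lit 8796093022207)
noncomputable def MR_114 (i : Nat) : Nat := Nat.land (Nat.shiftRight (nat_lit 0x0) (Nat.mul (nat_lit 43) (Nat.land i (nat_lit 511)))) (nat_lit 8796093022207)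
noncomputable def MR_115 (i : Nat) : Nat := Nat.land (Nat.shiftRight (nat_lit 0x0) (Nat.mul (nat_lit 43) (Nat.land i (nat_lit 511)))) (nat_lit 8796093022207)
noncomputable def MR_116 (i : Nat) : Nat := Nat.land (Nat.shiftRight (nat_lit 0x0) (Nat.mul (nat_lit 43) (Nat.land i (nat_lit 511)))) (nat_lit 8796093022207)
noncomputable def MR_117 (i : Nat) : Nat := Nat.land (Nat.shiftRight (nat_lit 0x0) (Nat.mul (nat_lit 43) (Nat.land i (nat_lit 511)))) (nat_lit 8796093022207)
noncomputable def MR_118 (i : Nat) : Nat := Nat.land (Nat.shiftRight (nat_lit 0x0) (Nat.mul (nat_lit 43) (Nat.land i (nat_lit 511)))) (nat_lit 8796093022207)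
noncomputable def MR_119 (i : Nat) : Nat := Nat.land (Nat.shiftRight (nat_lit 0x0) (Nat.mul (nat_lit 43) (Nat.land i (nat_lit 511)))) (nat_lit 8796093022207)
noncomputable def MR_120 (i : Nat) : Nat := Nat.land (Nat.shiftRight (nat_lit 0x0) (Nat.mul (nat_lit 43) (Nat.land i (nat_lit 511)))) (nat_lit 8796093022207)
noncomputable def MR_121 (i : Nat) : Nat := Nat.land (Nat.shiftRight (nat_lit 0x0) (Nat.mul (nat_lit 43) (Nat.land i (nat_lit 511)))) (nat_lit 8796093022207)
noncomputable def MR_122 (i : Nat) : Nat := Nat.land (Nat.shiftRight (nat_lit 0x0) (Nat.mul (nat_lit 43) (Nat.land i (nat_lit 511)))) (nat_lit 8796093022207)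
noncomputable def MR_123 (i : Nat) : Nat := Nat.land (Nat.shiftRight (nat_lit 0x0) (Nat.mul (nat_lit 43) (Nat.land i (nat_lit 511)))) (nat_lit 8796093022207)
noncomputable def MR_124 (i : Nat) : Nat := Nat.land (Nat.shiftRight (nat_lit 0x0) (Nat.mul (nat_lit 43) (Nat.land i (nat_lit 511)))) (nat_lit 8796093022207)
noncomputable def MR_125 (i : Nat) : Nat := Nat.land (Nat.shiftRight (nat_lit 0x0) (Nat.mul (nat_lit 43) (Nat.land i (nat_lit 511)))) (nat_lit 8796093022207)
noncomputable def MR_126 (i : Nat) : Nat := Nat.land (Nat.shiftRight (nat_lit 0x0) (Nat.mul (nat_lit 43) (Nat.land i (nat_lit 511)))) (nat_lit 8796093022207)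
noncomputable def MR_127 (i : Nat) : Nat := Nat.land (Nat.shiftRight (nat_lit 0x0) (Nat.mul (nat_lit 43) (Nat.land i (nat_lit 511)))) (nat_lit 8796093022207)
noncomputable def MR_128 (i : Nat) : Nat := Nat.land (Nat.shiftRight (nat_lit 0x0) (Nat.mul (nat_lit 43) (Nat.land i (nat_lit 511)))) (nat_lit 8796093022207)
noncomputable def MR_129 (i : Nat) : Nat := Nat.land (Nat.shiftRight (nat_lit 0x90efcc00000f8343c0000200272800000000000000000000000000000000000000000000000000000000000000000000000000000000000000000000000000000000000000000000000000000000000000000000000000000000000000000000000000000000000000000000000000000000000000000000000000000000000000000000000000000000000000000000000000000000000000000000000000000000000000000000000000000000000000000000000000000000000000000000000000000000000000000000000000000000000000000000000000000000000000000000000000000000000000000000000000000000000000000000000000000000000000000000000000000000000000000000000000000000000000000000000000000000000000000000000000000000000000000000000000000000000000000000000000000000000000000000000000000000000000000000000000000000000000000000000000000000000000000000000000000000000000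0000000000000000000000000000000000000000000000000000000000000000000000000000000000000000000000000000000000000000000000000000000000000000000000000000000000000000000000000000000000000000000000000000000000000000000000000000000000000000000000000000000000000000000000000000000000000000000000000000000000000000000000000000000000000000000000000000000000000000000000000000000000000000000000000000000000000000000000000000000000000000000000000000000000000000000000000000000000000000000000000000000000000000000000000000000000000000000000000000000000000000000000000000000000000000000000000000000000000000000000000000000000000000000000000000000000000000000000000000000000000000000000000000000000000000000000000000000000000000000000000000000000000000000000000000000000000000000000000000000000000000000000000000000000000000000000000000000000000000000000000000000000000000000000000000000000000000000000000000000000000000000000000000000000000000000000000000000000000000000000000000000000000000000000000000000000000000000000000000000000000000000000000000000000000000000000000000000000000000000000000000000000000000000000000000000000000000000000000000000000000000000000000000000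0000000000000000000000000000000000000000000000000000000000000000000000000000000000000000000000000000000000000000000000000000000000000000000000000000000000000000000000000000000000000000000000000000000000000000000000000000000000000000000000000000000000000000000000000000000000000000000000000000000000000000000000000000000000000000000000000000000000000000000000000000000000000000000000000000000000000000000000000000000000000000000000000000000000000000000000000000000000000000000000000000000000000000000000000000000000000000000000000000000000000000000000000000000000000000000000000000000000000000000000000000000000000000000000000000000000000000000000000000000000000000000000000000000000000000000000000000000000000000000000000000000000000000000000000000000000000000000000000000000000000000000000000000000000000000000000000000000000000000000000000000000000000000000000000000000000000000000000000000000000000000000000000000000000000000000000000000000000000000000000000000000000000000000000000000000000000000000000000000000000000000000000000000000000000000000000000000000000000000000000000000000000000000000000000000000000000000000000000000000000000000000000000000000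0000000000000000000000000000000000000000000000000000000000000000000000000000000000000000000000000000000000000000000000000000000000000000000000000000000000000000000000000000000000000000000000000000000000000000000000000000000000000000000000000000000000000000000000000000000000000000000000000000000000000000000000000000000000000000000000000000000000000000000000000000000000000000000000000000000000000000000000000000000000000000000000000000000000000000000000000000000000000000000000000000000000000000000000000000000000000000000000000000000000000000000000000000000000000000000000000000000000000000000000000000000000000000000000000000000000000000000000000000000000000000000000000000000000000000000000000000000000000000000000000000000000000000000000000000000000000000000000000000000000000000000000000000000000000000000000000000000000000000000000000000000000000000000000000000000) (Nat.mul (nat_lit 43) (Nat.land i (nat_lit 511)))) (nat_lit 8796093022207)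
noncomputable def MR_130 (i : Nat) : Nat := Nat.land (Nat.shiftRight (nat_lit 0x0) (Nat.mul (nat_lit 43) (Nat.land i (nat_lit 511)))) (nat_lit 8796093022207)
noncomputable def MR_131 (i : Nat) : Nat := Nat.land (Nat.shiftRight (nat_lit 0x0) (Nat.mul (nat_lit 43) (Nat.land i (nat_lit 511)))) (nat_lit 8796093022207)
noncomputable def MR_132 (i : Nat) : Nat := Nat.land (Nat.shiftRight (nat_lit 0x0) (Nat.mul (nat_lit 43) (Nat.land i (nat_lit 511)))) (nat_lit 8796093022207)
noncomputable def MR_133 (i : Nat) : Nat := Nat.land (Nat.shiftRight (nat_lit 0x0) (Nat.mul (nat_lit 43) (Nat.land i (nat_lit 511)))) (nat_lit 8796093022207)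
noncomputable def MR_134 (i : Nat) : Nat := Nat.land (Nat.shiftRight (nat_lit 0x0) (Nat.mul (nat_lit 43) (Nat.land i (nat_lit 511)))) (nat_lit 8796093022207)
noncomputable def MR_135 (i : Nat) : Nat := Nat.land (Nat.shiftRight (nat_lit 0x0) (Nat.mul (nat_lit 43) (Nat.land i (nat_lit 511)))) (nat_lit 8796093022207)
noncomputable def MR_136 (i : Nat) : Nat := Nat.land (Nat.shiftRight (nat_lit 0x0) (Nat.mul (nat_lit 43) (Nat.land i (nat_lit 511)))) (nat_lit 8796093022207)
noncomputable def MR_137 (i : Nat) : Nat := Nat.land (Nat.shiftRight (nat_lit 0x24dd9400000493c51000007c1a4e000000000000000000000000000000000000000000000000000000000000000000000000000000000000000000000000000000000000000000000000000000000000000000000000000000000000000000000000000000000000000000000000000000000000000000000000000000000000000000000000000000000000000000000000000000000000000000000000000000000000000000000000000000000000000000000000000000000000000000000000000000000000000000000000000000000000000000000000000000000000000000000000000000000000000000000000000000000000000000000000000000000000000000000000000000000000000000000000000000000000000000000000000000000000000000000000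0000000000000000000000000000000000000000000000000000000000000000000000000000000000000000000000000000000000000000000000000000000000000000000000000000000000000000000000000000000000000000000000000000000000000000000000000000000000000000000000000000000000000000000000000000000000000000000000000000000000000000000000000000000000000000000000000000000000000000000000000000000000000000000000000000000000000000000000000000000000000000000000000000000000000000000000000000000000000000000000000000000000000000000000000000000000000000000000000000000000000000000000000000000000000000000000000000000000000000000000000000000000000000000000000000000000000000000000000000000000000000000000000000000000000000000000000000000000000000000000000000000000000000000000000000000000000000000000000000000000000000000000000000000000000000000000000000000000000000000000000000000000000000000000000000000000000000000000000000000000000000000000000000000000000000000000000000000000000000000000000000000000000000000000000000000000000000000000000000000000000000000000000000000000000000000000000000000000000000000000000000000000000000000000000000000000000000000000000000000000000000000000000000000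00000000000000000000000000000000000000000000000000000000000000000000000000000000000000000000000000000000000000000000000000000000000000000000000000000000000000000000000000000000000000000000000000000000000000000000000000000000000000000000000000000000000000000000000000000000000000000000000000000000000000000000000000000000000000000000000000000000000000000000000000000000000000000000000000000000000000000000000000000000000000000000000000000000000000000000000000000000000000000000000000000000000000000000000000000000000000000000000000000000000000000000000000000000000000000000000000000000000000000000000000000000000000000000000000000000000000000000000000000000000000000000000000000000000000000000000000000000000000000000000000000000000000000000000000000000000000000000000000000000000000000000000) (Nat.mul (nat_lit 43) (Nat.land i (nat_lit 511)))) (nat_lit 8796093022207)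
noncomputable def MR_138 (i : Nat) : Nat := Nat.land (Nat.shiftRight (nat_lit 0x0) (Nat.mul (nat_lit 43) (Nat.land i (nat_lit 511)))) (nat_lit 8796093022207)
noncomputable def MR_139 (i : Nat) : Nat := Nat.land (Nat.shiftRight (nat_lit 0x0) (Nat.mul (nat_lit 43) (Nat.land i (nat_lit 511)))) (nat_lit 8796093022207)
noncomputable def MR_140 (i : Nat) : Nat := Nat.land (Nat.shiftRight (nat_lit 0x0) (Nat.mul (nat_lit 43) (Nat.land i (nat_lit 511)))) (nat_lit 8796093022207)
noncomputable def MR_141 (i : Nat) : Nat := Nat.land (Nat.shiftRight (nat_lit 0x0) (Nat.mul (nat_lit 43) (Nat.land i (nat_lit 511)))) (nat_lit 8796093022207)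
noncomputable def MR_142 (i : Nat) : Nat := Nat.land (Nat.shiftRight (nat_lit 0x0) (Nat.mul (nat_lit 43) (Nat.land i (nat_lit 511)))) (nat_lit 8796093022207)
noncomputable def MR_143 (i : Nat) : Nat := Nat.land (Nat.shiftRight (nat_lit 0x0) (Nat.mul (nat_lit 43) (Nat.land i (nat_lit 511)))) (nat_lit 8796093022207)
noncomputable def MR_144 (i : Nat) : Nat := Nat.land (Nat.shiftRight (nat_lit 0x0) (Nat.mul (nat_lit 43) (Nat.land i (nat_lit 511)))) (nat_lit 8796093022207)
noncomputable def MR_145 (i : Nat) : Nat := Nat.land (Nat.shiftRight (nat_lit 0x0) (Nat.mul (nat_lit 43) (Nat.land i (nat_lit 511)))) (nat_lit 8796093022207)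
noncomputable def MR_146 (i : Nat) : Nat := Nat.land (Nat.shiftRight (nat_lit 0x0) (Nat.mul (nat_lit 43) (Nat.land i (nat_lit 511)))) (nat_lit 8796093022207)
noncomputable def MR_147 (i : Nat) : Nat := Nat.land (Nat.shiftRight (nat_lit 0x0) (Nat.mul (nat_lit 43) (Nat.land i (nat_lit 511)))) (nat_lit 8796093022207)
noncomputable def MR_148 (i : Nat) : Nat := Nat.land (Nat.shiftRight (nat_lit 0x0) (Nat.mul (nat_lit 43) (Nat.land i (nat_lit 511)))) (nat_lit 8796093022207)
noncomputable def MR_149 (i : Nat) : Nat := Nat.land (Nat.shiftRight (nat_lit 0x0) (Nat.mul (nat_lit 43) (Nat.land i (nat_lit 511)))) (nat_lit 8796093022207)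
noncomputable def MR_150 (i : Nat) : Nat := Nat.land (Nat.shiftRight (nat_lit 0x0) (Nat.mul (nat_lit 43) (Nat.land i (nat_lit 511)))) (nat_lit 8796093022207)
noncomputable def MR_151 (i : Nat) : Nat := Nat.land (Nat.shiftRight (nat_lit 0x0) (Nat.mul (nat_lit 43) (Nat.land i (nat_lit 511)))) (nat_lit 8796093022207)
noncomputable def MR_152 (i : Nat) : Nat := Nat.land (Nat.shiftRight (nat_lit 0x0) (Nat.mul (nat_lit 43) (Nat.land i (nat_lit 511)))) (nat_lit 8796093022207)
noncomputable def MR_153 (i : Nat) : Nat := Nat.land (Nat.shiftRight (nat_lit 0x0) (Nat.mul (nat_lit 43) (Nat.land i (nat_lit 511)))) (nat_lit 8796093022207)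
noncomputable def MR_154 (i : Nat) : Nat := Nat.land (Nat.shiftRight (nat_lit 0x0) (Nat.mul (nat_lit 43) (Nat.land i (nat_lit 511)))) (nat_lit 8796093022207)
noncomputable def MR_155 (i : Nat) : Nat := Nat.land (Nat.shiftRight (nat_lit 0x0) (Nat.mul (nat_lit 43) (Nat.land i (nat_lit 511)))) (nat_lit 8796093022207)
noncomputable def MR_156 (i : Nat) : Nat := Nat.land (Nat.shiftRight (nat_lit 0x0) (Nat.mul (nat_lit 43) (Nat.land i (nat_lit 511)))) (nat_lit 8796093022207)
noncomputable def MR_157 (i : Nat) : Nat := Nat.land (Nat.shiftRight (nat_lit 0x0) (Nat.mul (nat_lit 43) (Nat.land i (nat_lit 511)))) (nat_lit 8796093022207)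
noncomputable def MR_158 (i : Nat) : Nat := Nat.land (Nat.shiftRight (nat_lit 0x0) (Nat.mul (nat_lit 43) (Nat.land i (nat_lit 511)))) (nat_lit 8796093022207)
noncomputable def MR_159 (i : Nat) : Nat := Nat.land (Nat.shiftRight (nat_lit 0x0) (Nat.mul (nat_lit 43) (Nat.land i (nat_lit 511)))) (nat_lit 8796093022207)
noncomputable def MR_160 (i : Nat) : Nat := Nat.land (Nat.shiftRight (nat_lit 0x0) (Nat.mul (nat_lit 43) (Nat.land i (nat_lit 511)))) (nat_lit 8796093022207)
noncomputable def MR_161 (i : Nat) : Nat := Nat.land (Nat.shiftRight (nat_lit 0x0) (Nat.mul (nat_lit 43) (Nat.land i (nat_lit 511)))) (nat_lit 8796093022207)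
noncomputable def MR_162 (i : Nat) : Nat := Nat.land (Nat.shiftRight (nat_lit 0x0) (Nat.mul (nat_lit 43) (Nat.land i (nat_lit 511)))) (nat_lit 8796093022207)
noncomputable def MR_163 (i : Nat) : Nat := Nat.land (Nat.shiftRight (nat_lit 0x0) (Nat.mul (nat_lit 43) (Nat.land i (nat_lit 511)))) (nat_lit 8796093022207)
noncomputable def MR_164 (i : Nat) : Nat := Nat.land (Nat.shiftRight (nat_lit 0x0) (Nat.mul (nat_lit 43) (Nat.land i (nat_lit 511)))) (nat_lit 8796093022207)
noncomputable def MR_165 (i : Nat) : Nat := Nat.land (Nat.shiftRight (nat_lit 0x0) (Nat.mul (nat_lit 43) (Nat.land i (nat_lit 511)))) (nat_lit 8796093022207)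
noncomputable def MR_166 (i : Nat) : Nat := Nat.land (Nat.shiftRight (nat_lit 0x0) (Nat.mul (nat_lit 43) (Nat.land i (nat_lit 511)))) (nat_lit 8796093022207)
noncomputable def MR_167 (i : Nat) : Nat := Nat.land (Nat.shiftRight (nat_lit 0x0) (Nat.mul (nat_lit 43) (Nat.land i (nat_lit 511)))) (nat_lit 8796093022207)
noncomputable def MR_168 (i : Nat) : Nat := Nat.land (Nat.shiftRight (nat_lit 0x0) (Nat.mul (nat_lit 43) (Nat.land i (nat_lit 511)))) (nat_lit 8796093022207)
noncomputable def MR_169 (i : Nat) : Nat := Nat.land (Nat.shiftRight (nat_lit 0x0) (Nat.mul (nat_lit 43) (Nat.land i (nat_lit 511)))) (nat_lit 8796093022207)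
noncomputable def MR_170 (i : Nat) : Nat := Nat.land (Nat.shiftRight (nat_lit 0x0) (Nat.mul (nat_lit 43) (Nat.land i (nat_lit 511)))) (nat_lit 8796093022207)
noncomputable def MR_171 (i : Nat) : Nat := Nat.land (Nat.shiftRight (nat_lit 0x0) (Nat.mul (nat_lit 43) (Nat.land i (nat_lit 511)))) (nat_lit 8796093022207)
noncomputable def MR_172 (i : Nat) : Nat := Nat.land (Nat.shiftRight (nat_lit 0x0) (Nat.mul (nat_lit 43) (Nat.land i (nat_lit 511)))) (nat_lit 8796093022207)
noncomputable def MR_173 (i : Nat) : Nat := Nat.land (Nat.shiftRight (nat_lit 0x0) (Nat.mul (nat_lit 43) (Nat.land i (nat_lit 511)))) (nat_lit 8796093022207)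
noncomputable def MR_174 (i : Nat) : Nat := Nat.land (Nat.shiftRight (nat_lit 0x0) (Nat.mul (nat_lit 43) (Nat.land i (nat_lit 511)))) (nat_lit 8796093022207)
noncomputable def MR_175 (i : Nat) : Nat := Nat.land (Nat.shiftRight (nat_lit 0x0) (Nat.mul (nat_lit 43) (Nat.land i (nat_lit 511)))) (nat_lit 8796093022207)
noncomputable def MR_176 (i : Nat) : Nat := Nat.land (Nat.shiftRight (nat_lit 0x0) (Nat.mul (nat_lit 43) (Nat.land i (nat_lit 511)))) (nat_lit 8796093022207)
noncomputable def MR_177 (i : Nat) : Nat := Nat.land (Nat.shiftRight (nat_lit 0x0) (Nat.mul (nat_lit 43) (Nat.land i (nat_lit 511)))) (nat_lit 8796093022207)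
noncomputable def MR_178 (i : Nat) : Nat := Nat.land (Nat.shiftRight (nat_lit 0x0) (Nat.mul (nat_lit 43) (Nat.land i (nat_lit 511)))) (nat_lit 8796093022207)
noncomputable def MR_179 (i : Nat) : Nat := Nat.land (Nat.shiftRight (nat_lit 0x0) (Nat.mul (nat_lit 43) (Nat.land i (nat_lit 511)))) (nat_lit 8796093022207)
noncomputable def MR_180 (i : Nat) : Nat := Nat.land (Nat.shiftRight (nat_lit 0x0) (Nat.mul (nat_lit 43) (Nat.land i (nat_lit 511)))) (nat_lit 8796093022207)
noncomputable def MR_181 (i : Nat) : Nat := Nat.land (Nat.shiftRight (nat_lit 0x0) (Nat.mul (nat_lit 43) (Nat.land i (nat_lit 511)))) (nat_lit 8796093022207)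
noncomputable def MR_182 (i : Nat) : Nat := Nat.land (Nat.shiftRight (nat_lit 0x0) (Nat.mul (nat_lit 43) (Nat.land i (nat_lit 511)))) (nat_lit 8796093022207)
noncomputable def MR_183 (i : Nat) : Nat := Nat.land (Nat.shiftRight (nat_lit 0x0) (Nat.mul (nat_lit 43) (Nat.land i (nat_lit 511)))) (nat_lit 8796093022207)
noncomputable def MR_184 (i : Nat) : Nat := Nat.land (Nat.shiftRight (nat_lit 0x0) (Nat.mul (nat_lit 43) (Nat.land i (nat_lit 511)))) (nat_lit 8796093022207)
noncomputable def MR_185 (i : Nat) : Nat := Nat.land (Nat.shiftRight (nat_lit 0x0) (Nat.mul (nat_lit 43) (Nat.land i (nat_lit 511)))) (nat_lit 8796093022207)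
noncomputable def MR_186 (i : Nat) : Nat := Nat.land (Nat.shiftRight (nat_lit 0x0) (Nat.mul (nat_lit 43) (Nat.land i (nat_lit 511)))) (nat_lit 8796093022207)
noncomputable def MR_187 (i : Nat) : Nat := Nat.land (Nat.shiftRight (nat_lit 0x0) (Nat.mul (nat_lit 43) (Nat.land i (nat_lit 511)))) (nat_lit 8796093022207)
noncomputable def MR_188 (i : Nat) : Nat := Nat.land (Nat.shiftRight (nat_lit 0x0) (Nat.mul (nat_lit 43) (Nat.land i (nat_lit 511)))) (nat_lit 8796093022207)
noncomputable def MR_189 (i : Nat) : Nat := Nat.land (Nat.shiftRight (nat_lit 0x0) (Nat.mul (nat_lit 43) (Nat.land i (nat_lit 511)))) (nat_lit 8796093022207)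
noncomputable def MR_190 (i : Nat) : Nat := Nat.land (Nat.shiftRight (nat_lit 0x0) (Nat.mul (nat_lit 43) (Nat.land i (nat_lit 511)))) (nat_lit 8796093022207)
noncomputable def MR_191 (i : Nat) : Nat := Nat.land (Nat.shiftRight (nat_lit 0x0) (Nat.mul (nat_lit 43) (Nat.land i (nat_lit 511)))) (nat_lit 8796093022207)
noncomputable def MR_192 (i : Nat) : Nat := Nat.land (Nat.shiftRight (nat_lit 0x0) (Nat.mul (nat_lit 43) (Nat.land i (nat_lit 511)))) (nat_lit 8796093022207)
noncomputable def MR_193 (i : Nat) : Nat := Nat.land (Nat.shiftRight (nat_lit 0x0) (Nat.mul (nat_lit 43) (Nat.land i (nat_lit 511)))) (nat_lit 8796093022207)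
noncomputable def MR_194 (i : Nat) : Nat := Nat.land (Nat.shiftRight (nat_lit 0x0) (Nat.mul (nat_lit 43) (Nat.land i (nat_lit 511)))) (nat_lit 8796093022207)
noncomputable def MR_195 (i : Nat) : Nat := Nat.land (Nat.shiftRight (nat_lit 0x0) (Nat.mul (nat_lit 43) (Nat.land i (nat_lit 511)))) (nat_lit 8796093022207)
noncomputable def MR_196 (i : Nat) : Nat := Nat.land (Nat.shiftRight (nat_lit 0x0) (Nat.mul (nat_lit 43) (Nat.land i (nat_lit 511)))) (nat_lit 8796093022207)
noncomputable def MR_197 (i : Nat) : Nat := Nat.land (Nat.shiftRight (nat_lit 0x0) (Nat.mul (nat_lit 43) (Nat.land i (nat_lit 511)))) (nat_lit 8796093022207)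
noncomputable def MR_198 (i : Nat) : Nat := Nat.land (Nat.shiftRight (nat_lit 0x0) (Nat.mul (nat_lit 43) (Nat.land i (nat_lit 511)))) (nat_lit 8796093022207)
noncomputable def MR_199 (i : Nat) : Nat := Nat.land (Nat.shiftRight (nat_lit 0x0) (Nat.mul (nat_lit 43) (Nat.land i (nat_lit 511)))) (nat_lit 8796093022207)
noncomputable def MR_200 (i : Nat) : Nat := Nat.land (Nat.shiftRight (nat_lit 0x0) (Nat.mul (nat_lit 43) (Nat.land i (nat_lit 511)))) (nat_lit 8796093022207)
noncomputable def MR_201 (i : Nat) : Nat := Nat.land (Nat.shiftRight (nat_lit 0x0) (Nat.mul (nat_lit 43) (Nat.land i (nat_lit 511)))) (nat_lit 8796093022207)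
noncomputable def MR_202 (i : Nat) : Nat := Nat.land (Nat.shiftRight (nat_lit 0x0) (Nat.mul (nat_lit 43) (Nat.land i (nat_lit 511)))) (nat_lit 8796093022207)
noncomputable def MR_203 (i : Nat) : Nat := Nat.land (Nat.shiftRight (nat_lit 0x0) (Nat.mul (nat_lit 43) (Nat.land i (nat_lit 511)))) (nat_lit 8796093022207)
noncomputable def MR_204 (i : Nat) : Nat := Nat.land (Nat.shiftRight (nat_lit 0x0) (Nat.mul (nat_lit 43) (Nat.land i (nat_lit 511)))) (nat_lit 8796093022207)
noncomputable def MR_205 (i : Nat) : Nat := Nat.land (Nat.shiftRight (nat_lit 0x0) (Nat.mul (nat_lit 43) (Nat.land i (nat_lit 511)))) (nat_lit 8796093022207)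
noncomputable def MR_206 (i : Nat) : Nat := Nat.land (Nat.shiftRight (nat_lit 0x0) (Nat.mul (nat_lit 43) (Nat.land i (nat_lit 511)))) (nat_lit 8796093022207)
noncomputable def MR_207 (i : Nat) : Nat := Nat.land (Nat.shiftRight (nat_lit 0x0) (Nat.mul (nat_lit 43) (Nat.land i (nat_lit 511)))) (nat_lit 8796093022207)
noncomputable def MR_208 (i : Nat) : Nat := Nat.land (Nat.shiftRight (nat_lit 0x0) (Nat.mul (nat_lit 43) (Nat.land i (nat_lit 511)))) (nat_lit 8796093022207)
noncomputable def MR_209 (i : Nat) : Nat := Nat.land (Nat.shiftRight (nat_lit 0x0) (Nat.mul (nat_lit 43) (Nat.land i (nat_lit 511)))) (nat_lit 8796093022207)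
noncomputable def MR_210 (i : Nat) : Nat := Nat.land (Nat.shiftRight (nat_lit 0x0) (Nat.mul (nat_lit 43) (Nat.land i (nat_lit 511)))) (nat_lit 8796093022207)
noncomputable def MR_211 (i : Nat) : Nat := Nat.land (Nat.shiftRight (nat_lit 0x0) (Nat.mul (nat_lit 43) (Nat.land i (nat_lit 511)))) (nat_lit 8796093022207)
noncomputable def MR_212 (i : Nat) : Nat := Nat.land (Nat.shiftRight (nat_lit 0x0) (Nat.mul (nat_lit 43) (Nat.land i (nat_lit 511)))) (nat_lit 8796093022207)
noncomputable def MR_213 (i : Nat) : Nat := Nat.land (Nat.shiftRight (nat_lit 0x0) (Nat.mul (nat_lit 43) (Nat.land i (nat_lit 511)))) (nat_lit 8796093022207)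
noncomputable def MR_214 (i : Nat) : Nat := Nat.land (Nat.shiftRight (nat_lit 0x0) (Nat.mul (nat_lit 43) (Nat.land i (nat_lit 511)))) (nat_lit 8796093022207)
noncomputable def MR_215 (i : Nat) : Nat := Nat.land (Nat.shiftRight (nat_lit 0x0) (Nat.mul (nat_lit 43) (Nat.land i (nat_lit 511)))) (nat_lit 8796093022207)
noncomputable def MR_216 (i : Nat) : Nat := Nat.land (Nat.shiftRight (nat_lit 0x0) (Nat.mul (nat_lit 43) (Nat.land i (nat_lit 511)))) (nat_lit 8796093022207)
noncomputable def MR_217 (i : Nat) : Nat := Nat.land (Nat.shiftRight (nat_lit 0x0) (Nat.mul (nat_lit 43) (Nat.land i (nat_lit 511)))) (nat_lit 8796093022207)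
noncomputable def MR_218 (i : Nat) : Nat := Nat.land (Nat.shiftRight (nat_lit 0x0) (Nat.mul (nat_lit 43) (Nat.land i (nat_lit 511)))) (nat_lit 8796093022207)
noncomputable def MR_219 (i : Nat) : Nat := Nat.land (Nat.shiftRight (nat_lit 0x0) (Nat.mul (nat_lit 43) (Nat.land i (nat_lit 511)))) (nat_lit 8796093022207)
noncomputable def MR_220 (i : Nat) : Nat := Nat.land (Nat.shiftRight (nat_lit 0x0) (Nat.mul (nat_lit 43) (Nat.land i (nat_lit 511)))) (nat_lit 8796093022207)
noncomputable def MR_221 (i : Nat) : Nat := Nat.land (Nat.shiftRight (nat_lit 0x0) (Nat.mul (nat_lit 43) (Nat.land i (nat_lit 511)))) (nat_lit 8796093022207)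
noncomputable def MR_222 (i : Nat) : Nat := Nat.land (Nat.shiftRight (nat_lit 0x0) (Nat.mul (nat_lit 43) (Nat.land i (nat_lit 511)))) (nat_lit 8796093022207)
noncomputable def MR_223 (i : Nat) : Nat := Nat.land (Nat.shiftRight (nat_lit 0x0) (Nat.mul (nat_lit 43) (Nat.land i (nat_lit 511)))) (nat_lit 8796093022207)
noncomputable def MR_224 (i : Nat) : Nat := Nat.land (Nat.shiftRight (nat_lit 0x0) (Nat.mul (nat_lit 43) (Nat.land i (nat_lit 511)))) (nat_lit 8796093022207)
noncomputable def MR_225 (i : Nat) : Nat := Nat.land (Nat.shiftRight (nat_lit 0x0) (Nat.mul (nat_lit 43) (Nat.land i (nat_lit 511)))) (nat_lit 8796093022207)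
noncomputable def MR_226 (i : Nat) : Nat := Nat.land (Nat.shiftRight (nat_lit 0x0) (Nat.mul (nat_lit 43) (Nat.land i (nat_lit 511)))) (nat_lit 8796093022207)
noncomputable def MR_227 (i : Nat) : Nat := Nat.land (Nat.shiftRight (nat_lit 0x0) (Nat.mul (nat_lit 43) (Nat.land i (nat_lit 511)))) (nat_lit 8796093022207)
noncomputable def MR_228 (i : Nat) : Nat := Nat.land (Nat.shiftRight (nat_lit 0x0) (Nat.mul (nat_lit 43) (Nat.land i (nat_lit 511)))) (nat_lit 8796093022207)
noncomputable def MR_229 (i : Nat) : Nat := Nat.land (Nat.shiftRight (nat_lit 0x0) (Nat.mul (nat_lit 43) (Nat.land i (nat_lit 511)))) (nat_lit 8796093022207)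
noncomputable def MR_230 (i : Nat) : Nat := Nat.land (Nat.shiftRight (nat_lit 0x0) (Nat.mul (nat_lit 43) (Nat.land i (nat_lit 511)))) (nat_lit 8796093022207)
noncomputable def MR_231 (i : Nat) : Nat := Nat.land (Nat.shiftRight (nat_lit 0x0) (Nat.mul (nat_lit 43) (Nat.land i (nat_lit 511)))) (nat_lit 8796093022207)
noncomputable def MR_232 (i : Nat) : Nat := Nat.land (Nat.shiftRight (nat_lit 0x0) (Nat.mul (nat_lit 43) (Nat.land i (nat_lit 511)))) (nat_lit 8796093022207)
noncomputable def MR_233 (i : Nat) : Nat := Nat.land (Nat.shiftRight (nat_lit 0x0) (Nat.mul (nat_lit 43) (Nat.land i (nat_lit 511)))) (nat_lit 8796093022207)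
noncomputable def MR_234 (i : Nat) : Nat := Nat.land (Nat.shiftRight (nat_lit 0x0) (Nat.mul (nat_lit 43) (Nat.land i (nat_lit 511)))) (nat_lit 8796093022207)
noncomputable def MR_235 (i : Nat) : Nat := Nat.land (Nat.shiftRight (nat_lit 0x0) (Nat.mul (nat_lit 43) (Nat.land i (nat_lit 511)))) (nat_lit 8796093022207)
noncomputable def MR_236 (i : Nat) : Nat := Nat.land (Nat.shiftRight (nat_lit 0x0) (Nat.mul (nat_lit 43) (Nat.land i (nat_lit 511)))) (nat_lit 8796093022207)
noncomputable def MR_237 (i : Nat) : Nat := Nat.land (Nat.shiftRight (nat_lit 0x0) (Nat.mul (nat_lit 43) (Nat.land i (nat_lit 511)))) (nat_lit 8796093022207)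
noncomputable def MR_238 (i : Nat) : Nat := Nat.land (Nat.shiftRight (nat_lit 0x0) (Nat.mul (nat_lit 43) (Nat.land i (nat_lit 511)))) (nat_lit 8796093022207)
noncomputable def MR_239 (i : Nat) : Nat := Nat.land (Nat.shiftRight (nat_lit 0x0) (Nat.mul (nat_lit 43) (Nat.land i (nat_lit 511)))) (nat_lit 8796093022207)
noncomputable def MR_240 (i : Nat) : Nat := Nat.land (Nat.shiftRight (nat_lit 0x0) (Nat.mul (nat_lit 43) (Nat.land i (nat_lit 511)))) (nat_lit 8796093022207)
noncomputable def MR_241 (i : Nat) : Nat := Nat.land (Nat.shiftRight (nat_lit 0x0) (Nat.mul (nat_lit 43) (Nat.land i (nat_lit 511)))) (nat_lit 8796093022207)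
noncomputable def MR_242 (i : Nat) : Nat := Nat.land (Nat.shiftRight (nat_lit 0x0) (Nat.mul (nat_lit 43) (Nat.land i (nat_lit 511)))) (nat_lit 8796093022207)
noncomputable def MR_243 (i : Nat) : Nat := Nat.land (Nat.shiftRight (nat_lit 0x0) (Nat.mul (nat_lit 43) (Nat.land i (nat_lit 511)))) (nat_lit 8796093022207)
noncomputable def MR_244 (i : Nat) : Nat := Nat.land (Nat.shiftRight (nat_lit 0x0) (Nat.mul (nat_lit 43) (Nat.land i (nat_lit 511)))) (nat_lit 8796093022207)
noncomputable def MR_245 (i : Nat) : Nat := Nat.land (Nat.shiftRight (nat_lit 0x0) (Nat.mul (nat_lit 43) (Nat.land i (nat_lit 511)))) (nat_lit 8796093022207)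
noncomputable def MR_246 (i : Nat) : Nat := Nat.land (Nat.shiftRight (nat_lit 0x0) (Nat.mul (nat_lit 43) (Nat.land i (nat_lit 511)))) (nat_lit 8796093022207)
noncomputable def MR_247 (i : Nat) : Nat := Nat.land (Nat.shiftRight (nat_lit 0x0) (Nat.mul (nat_lit 43) (Nat.land i (nat_lit 511)))) (nat_lit 8796093022207)
noncomputable def MR_248 (i : Nat) : Nat := Nat.land (Nat.shiftRight (nat_lit 0x0) (Nat.mul (nat_lit 43) (Nat.land i (nat_lit 511)))) (nat_lit 8796093022207)
noncomputable def MR_249 (i : Nat) : Nat := Nat.land (Nat.shiftRight (nat_lit 0x0) (Nat.mul (nat_lit 43) (Nat.land i (nat_lit 511)))) (nat_lit 8796093022207)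
noncomputable def MR_250 (i : Nat) : Nat := Nat.land (Nat.shiftRight (nat_lit 0x0) (Nat.mul (nat_lit 43) (Nat.land i (nat_lit 511)))) (nat_lit 8796093022207)
noncomputable def MR_251 (i : Nat) : Nat := Nat.land (Nat.shiftRight (nat_lit 0x0) (Nat.mul (nat_lit 43) (Nat.land i (nat_lit 511)))) (nat_lit 8796093022207)
noncomputable def MR_252 (i : Nat) : Nat := Nat.land (Nat.shiftRight (nat_lit 0x0) (Nat.mul (nat_lit 43) (Nat.land i (nat_lit 511)))) (nat_lit 8796093022207)
noncomputable def MR_253 (i : Nat) : Nat := Nat.land (Nat.shiftRight (nat_lit 0x0) (Nat.mul (nat_lit 43) (Nat.land i (nat_lit 511)))) (nat_lit 8796093022207)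
noncomputable def MR_254 (i : Nat) : Nat := Nat.land (Nat.shiftRight (nat_lit 0x0) (Nat.mul (nat_lit 43) (Nat.land i (nat_lit 511)))) (nat_lit 8796093022207)
noncomputable def MR_255 (i : Nat) : Nat := Nat.land (Nat.shiftRight (nat_lit 0x0) (Nat.mul (nat_lit 43) (Nat.land i (nat_lit 511)))) (nat_lit 8796093022207)
noncomputable def MR_256 (i : Nat) : Nat := Nat.land (Nat.shiftRight (nat_lit 0x0) (Nat.mul (nat_lit 43) (Nat.land i (nat_lit 511)))) (nat_lit 8796093022207)
noncomputable def MR_257 (i : Nat) : Nat := Nat.land (Nat.shiftRight (nat_lit 0x0) (Nat.mul (nat_lit 43) (Nat.land i (nat_lit 511)))) (nat_lit 8796093022207)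
noncomputable def MR_258 (i : Nat) : Nat := Nat.land (Nat.shiftRight (nat_lit 0x0) (Nat.mul (nat_lit 43) (Nat.land i (nat_lit 511)))) (nat_lit 8796093022207)
noncomputable def MR_259 (i : Nat) : Nat := Nat.land (Nat.shiftRight (nat_lit 0x0) (Nat.mul (nat_lit 43) (Nat.land i (nat_lit 511)))) (nat_lit 8796093022207)
noncomputable def MR_260 (i : Nat) : Nat := Nat.land (Nat.shiftRight (nat_lit 0x0) (Nat.mul (nat_lit 43) (Nat.land i (nat_lit 511)))) (nat_lit 8796093022207)
noncomputable def MR_261 (i : Nat) : Nat := Nat.land (Nat.shiftRight (nat_lit 0x0) (Nat.mul (nat_lit 43) (Nat.land i (nat_lit 511)))) (nat_lit 8796093022207)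
noncomputable def MR_262 (i : Nat) : Nat := Nat.land (Nat.shiftRight (nat_lit 0x0) (Nat.mul (nat_lit 43) (Nat.land i (nat_lit 511)))) (nat_lit 8796093022207)
noncomputable def MR_263 (i : Nat) : Nat := Nat.land (Nat.shiftRight (nat_lit 0x0) (Nat.mul (nat_lit 43) (Nat.land i (nat_lit 511)))) (nat_lit 8796093022207)
noncomputable def MR_264 (i : Nat) : Nat := Nat.land (Nat.shiftRight (nat_lit 0x0) (Nat.mul (nat_lit 43) (Nat.land i (nat_lit 511)))) (nat_lit 8796093022207)
noncomputable def MR_265 (i : Nat) : Nat := Nat.land (Nat.shiftRight (nat_lit 0x0) (Nat.mul (nat_lit 43) (Nat.land i (nat_lit 511)))) (nat_lit 8796093022207)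
noncomputable def MR_266 (i : Nat) : Nat := Nat.land (Nat.shiftRight (nat_lit 0x0) (Nat.mul (nat_lit 43) (Nat.land i (nat_lit 511)))) (nat_lit 8796093022207)
noncomputable def MR_267 (i : Nat) : Nat := Nat.land (Nat.shiftRight (nat_lit 0x0) (Nat.mul (nat_lit 43) (Nat.land i (nat_lit 511)))) (nat_lit 8796093022207)
noncomputable def MR_268 (i : Nat) : Nat := Nat.land (Nat.shiftRight (nat_lit 0x0) (Nat.mul (nat_lit 43) (Nat.land i (nat_lit 511)))) (nat_lit 8796093022207)
noncomputable def MR_269 (i : Nat) : Nat := Nat.land (Nat.shiftRight (nat_lit 0x0) (Nat.mul (nat_lit 43) (Nat.land i (nat_lit 511)))) (nat_lit 8796093022207)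
noncomputable def MR_270 (i : Nat) : Nat := Nat.land (Nat.shiftRight (nat_lit 0x0) (Nat.mul (nat_lit 43) (Nat.land i (nat_lit 511)))) (nat_lit 8796093022207)
noncomputable def MR_271 (i : Nat) : Nat := Nat.land (Nat.shiftRight (nat_lit 0x0) (Nat.mul (nat_lit 43) (Nat.land i (nat_lit 511)))) (nat_lit 8796093022207)
noncomputable def MR_272 (i : Nat) : Nat := Nat.land (Nat.shiftRight (nat_lit 0x0) (Nat.mul (nat_lit 43) (Nat.land i (nat_lit 511)))) (nat_lit 8796093022207)
noncomputable def MR_273 (i : Nat) : Nat := Nat.land (Nat.shiftRight (nat_lit 0x0) (Nat.mul (nat_lit 43) (Nat.land i (nat_lit 511)))) (nat_lit 8796093022207)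
noncomputable def MR_274 (i : Nat) : Nat := Nat.land (Nat.shiftRight (nat_lit 0x0) (Nat.mul (nat_lit 43) (Nat.land i (nat_lit 511)))) (nat_lit 8796093022207)
noncomputable def MR_275 (i : Nat) : Nat := Nat.land (Nat.shiftRight (nat_lit 0x0) (Nat.mul (nat_lit 43) (Nat.land i (nat_lit 511)))) (nat_lit 8796093022207)
noncomputable def MR_276 (i : Nat) : Nat := Nat.land (Nat.shiftRight (nat_lit 0x0) (Nat.mul (nat_lit 43) (Nat.land i (nat_lit 511)))) (nat_lit 8796093022207)
noncomputable def MR_277 (i : Nat) : Nat := Nat.land (Nat.shiftRight (nat_lit 0x0) (Nat.mul (nat_lit 43) (Nat.land i (nat_lit 511)))) (nat_lit 8796093022207)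
noncomputable def MR_278 (i : Nat) : Nat := Nat.land (Nat.shiftRight (nat_lit 0x0) (Nat.mul (nat_lit 43) (Nat.land i (nat_lit 511)))) (nat_lit 8796093022207)
noncomputable def MR_279 (i : Nat) : Nat := Nat.land (Nat.shiftRight (nat_lit 0x0) (Nat.mul (nat_lit 43) (Nat.land i (nat_lit 511)))) (nat_lit 8796093022207)
noncomputable def MR_280 (i : Nat) : Nat := Nat.land (Nat.shiftRight (nat_lit 0x0) (Nat.mul (nat_lit 43) (Nat.land i (nat_lit 511)))) (nat_lit 8796093022207)
noncomputable def MR_281 (i : Nat) : Nat := Nat.land (Nat.shiftRight (nat_lit 0x0) (Nat.mul (nat_lit 43) (Nat.land i (nat_lit 511)))) (nat_lit 8796093022207)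
noncomputable def MR_282 (i : Nat) : Nat := Nat.land (Nat.shiftRight (nat_lit 0x0) (Nat.mul (nat_lit 43) (Nat.land i (nat_lit 511)))) (nat_lit 8796093022207)
noncomputable def MR_283 (i : Nat) : Nat := Nat.land (Nat.shiftRight (nat_lit 0x0) (Nat.mul (nat_lit 43) (Nat.land i (nat_lit 511)))) (nat_lit 8796093022207)
noncomputable def MR_284 (i : Nat) : Nat := Nat.land (Nat.shiftRight (nat_lit 0x41e1a993ac60000000000000000000000000000000000000000000000000000000000000000000000000000000000000000000000000000000000000000000000000000000000000000000000000000000000000000000000000000000000000000000000000000000000000000000000000000000000000000000000000000000000000000000000000000000000000000000000000000000000000000000000000000000000000000000000000000000000000000000000000000000000000000000000000000000000000000000000000000000000000000000000000000000000000000000000000000000000000000083bbd32628c0000000000000000000000000000000083bad32608d0775264c018000000000000000000000000000000010773a64bd1a0ee64c97830000000000000000000000000000000000000000000000000000000000000000000000000000000000000000000000000000000000000000000000000000000000000000000000000000000000000000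0000000000000000000000000000000000000000000000000000000000000000000000000000000000000000000000000000000000000000000000000000000000000000000000000000000000000000000000000000000000000000000000000000000000000000000000000000000000000000000000000000000000000000000000000000000000000000000000000000000000000000000000000000000000000000000000000000000000000000000000000000000000000000000000000000000000000000000000000000000000000000000000000000000000000000000000000000000000000000000000000000000000000000000000000000000000000000000000000000000000000000000000000000000000000000000000000000000000000000000000000000000000000000000000000000000000000000000000000000000000000000000000000000000000000000000000000000000000000000000000000000000000000000000000000000000000000000000000000000000000000000000000000000000000000000000000000000000000000000000000000000000000000000000000000000000000000000000000000000000000000000000000000000000000000000000000000000000000000000000000000000000000000000000000000000000000000000000000000000000000000000000000000000000000000000000000000000000000000000000000000000000000000000000000000000000000000000000000000000000000000000000000000000000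0000000000000000000000000000000000000000000000000000000000000000000000000000000000000000000000000000000000000000000000000000000000000000000000000000000000000000000000000000000000000000000000000000000000000000000000000000000000000000000000000000000000000000000000000000000000000000000000000000000000000000000000000000000000000000000000000000000000000000000000000000000000000000000000000000000000000000000000000000000000000000000000000000000000000000000000000000000000000000000000000000000000000000000000000000000000000000000000000000000000000000000000000000000000000000000000000000000000000000000000000000000000000000000000000000000000000000000000000000000000000000000000000000000000000000000000000000000000000000000000000000000000000000000000000000000000000000000000000000000000000000000000000000000000000000000000000000000000000000000000000000000000000000000000000000000000000000000000000000000000000000000000000000000000000000000000000000000000000000000000000000000000000000000000000000000000000000000000000000000000000000000000000000000000000000000000000000000000000000000000000000000000000000000000000000000000000000000000000000000000000000000000000000000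0000000000000000000000000000000000000000000000000000000000000000000000000000000000000000000000000000000000000000000000000000000000000000000000000000000000000000000000000000000000000000000000000000000000000000000000000000000000000000000000000000000000000000000000000000000000000000000000000000000000000000000000000000000000000000000000000000000000000000000000000000000000000000000000000000000000000000000000000000000000000000000000000000000000000000000000000000000000000000000000000000000000000000000000000000000000000000000000000000000000000000000000000000000000000000000000000000000000000000000000000000000000000000000000000000000000000000000000000000000000000000000000000000000000000000000000000000000000000000000000000000000000000000000000000000000000000000000000000000000000000000000000000000000000000000000000000000000000000000000000000000000000000000000000000000000000000000000000000000000000000000000000000000000000000000000000000000000000000000000000000000000000000000000000000000000000000000000000000000000000000000000000000000000000000000000000000000000000000000000000000000000000000000000000000000000000000000000000000000000000000000000000000000000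00000000000000000000000000000000000000000000000000000000000000000000000000000000000000000000000000000000000000000000000000000000000000000000000000000000000000000000000000000000000000000000000000000000000000000000000000000000000000000000000000000000000000000000000000000000000000000000000000000000000000000000000000000000000000000000000000000000000000000000000000000000000000000000000000000000000000000000000000000000000000000000000000000000000000000000000000000000000000000000000000000000000000000000000000000000000000000000000000000000000000000000000000000000000000000000000000000000000000000000000000000000000000000000000000000000000000000000000000000000000000000000000000000000000000000000000000000000000000000000000000000000000000000000000000000000000000000000000000000000000000000000000000000000000000000000000000000000000000000000000000000000000000000000000000000000000000000000000000000000000000000000000000000000000000000000000000000000000000000000000000000000000000000000000000000000000000000000000000000000000000000000000000000000000000000000000000000000000000000000000000000000000000000000000000000000000000000000000000000000000000000000000000000000000000000000000000000000000000)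 (Nat.mul (nat_lit 43) (Nat.land i (nat_lit 511)))) (nat_lit 8796093022207)
noncomputable def MR_285 (i : Nat) : Nat := Nat.land (Nat.shiftRight (nat_lit 0x83fe932fb0c00000000000000000000000000000000000000000000000000000000000000000000000000000000000000000000000000000000000000000000000000000000000000000000000000000000000000000000000000000000000000000000000000000000000000000000000000000000000000000000000000000000000000000000000000000000000000000000000000000000000000000000000000000000000000000000000000000000000000000000000000000000000000000000000000000000000000000000000000000000000000000000000000000000000000000000000000000000000000000000000000000000000000000000000000000000000000000000000000000000000000000000000000000000000000000000000000000000000000000000000000000000000000000000000000000000000000000000000000000000000000000000000000000000000000000000000000000000000000000000000000000000000000000000000000000000000000000000000000000000000000000000000000000000000000000000000000000000000000000000000000000000000000000000000000000000000000000000000000000000000000000000000000000000000000000000000000000000000000000000000000000000000000000000000000000000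000000000000000000000000000000000000000000000000000000000000000000000000000000000000000000000000000000000000000000000000000000000000000000000000000000000000000000000000000000000000000000000000000000000000000000000000000000000000000000000000000000000000000000000000000000000000000000000000000000000000000000000000000000000000000000000000000000000000000000000000000000000000000000000000000000000000000000000000000000000000000000000000000000000000000000000000000000000000000000000000000000000000000000000000000000000000000000000000000000000000000000000000000000000000000000000000000000000000000000000000000000000000000000000000000000000000000000000000000000000000000000000000000000000000000000000000000000000000000000000000000000000000000000000000000000000000000000000000000000000000000000000000000000000000000000000000000000000000000000000000000000000000000000000000000000000000000000000000000000000000000000000000000000000000000000000000000000107bca6568180000000000000000000000000000000000000000000000000000000000000000000000000000000000000000000000000000000000000000000000000000000000000000000000000000000000000000000000000000000000000000000000000000000000000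00000000000000000000000000000000000000000000000000000000000000000000000000000000000000000000000000000000000000000000000000000000000000000000000000000000000000000000000000000000000000000000000000000000000000000000000000000000000000000000000000000000000000000000000000000000000000000000000000000000000000000000000000000000000000000000000000000000000000000000000000000000000000000000000000000000000000000000000000000000000000000000000000000000000000000000000000000000000000000000000000000000000000000000000000000000000000000000000000000000000000000000000000000000000000000000000000000000000000000000000000000000000000000000000000000000000000000000000000000000000000000000000000000000000000000000000000000000000000000000000000000000000000000000000000000000000000000000000000000000000000000000000000000000000000000000000000000000000000000000000000000000000000000000000000000000000000000000000000000000000000000000000000000000000000000000000000000000000000000000000000000000000000000000000000000000000000000000000000000000000000000000000000000000000000000000000000000000000000000000000000000000000000000000000000000000000000000000000000000000000000000000000000000000000000000000000000000000000000000000000000000000000000000000000041e4a994106000000000000000000000000000000000000000000000000000000000000000000000000000000000000000000000000000000000000000000000000000000000000000000000000000000000000000000000000000000000000000000000000000000000000000000000000000000000000000000000000000000000000000000)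 (Nat.mul (nat_lit 43) (Nat.land i (nat_lit 511)))) (nat_lit 8796093022207)
noncomputable def MR_286 (i : Nat) : Nat := Nat.land (Nat.shiftRight (nat_lit 0x0) (Nat.mul (nat_lit 43) (Nat.land i (nat_lit 511)))) (nat_lit 8796093022207)
noncomputable def MR_287 (i : Nat) : Nat := Nat.land (Nat.shiftRight (nat_lit 0x0) (Nat.mul (nat_lit 43) (Nat.land i (nat_lit 511)))) (nat_lit 8796093022207)
noncomputable def MR_288 (i : Nat) : Nat := Nat.land (Nat.shiftRight (nat_lit 0x0) (Nat.mul (nat_lit 43) (Nat.land i (nat_lit 511)))) (nat_lit 8796093022207)
noncomputable def MR_289 (i : Nat) : Nat := Nat.land (Nat.shiftRight (nat_lit 0x8590535f40c00000000000000000000000000000000000000000000000000000000000000000000000000000000000000000000000000000000000000000000000000000000000000000000000000000000000000000000000000000000000000000000000000000000000000000000000000000000000000000000000000000000000000000000000000000000000000000000000000000000000000000000000000000000000000000000000000000000000000000000000000000000000000000000000000000000000000000000000000000000000000000000000000000000000000000000000000000000000000000000000000000000000000000000000000000000000000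0000000000000000000000000000000000000000000000000000000000000000000000000000000000000000000000000000000000000000000000000000000000000000000000000000000000000000000000000000000000000000000000000000000000000000000000000000000000000000000000000000000000000000000000000000000000000000000000000000000000000000000000000000000000000000000000000000000000000000000000000000000000000000000000000000000000000000000000000000000000000000000000000000000000000000000000000000000000000000000000000000000000000000000000000000000000000000000000000000000000000000000000000000000000000000000000000000000000000000000000000000000000000000000000000000000000000000000000000000000000000000000000000000000000000000000000000000000000000000000000000000000000000000000000000000000000000000000000000000000000000000000000000000000000000000000000000000000000000000000000000000000000000000000000000000000000000000000000000000000000000000000000000000000000000000000000000000000000000000000000000000000000000000000000000000000000000000000000000000000000000000000000000000000000000000000000000000000000000000000000000000000000000000000000000000000000000000000000000000000000000000000000000000000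0000000000000000000000000000000000000000000000000000000000000000000000000000000000000000000000000000000000000000000000000000000000000000000000000000000000000000000000000000000000000000000000000000000000000000000000000000000000000000000000000000000000000000000000000000000000000000000000000000000000000000000000000000000000000000000000000000000000000000000000000000000000000000000000000000000000000000000000000000000000000000000000000000000000000000000000000000000000000000000000000000000000000000000000000000000000000000000000000000000000000000000000000000000000000000000000000000000000000000000000000000000000000000000000000000000000000000000000000000000000000000000000000000000000000000000000000000000000000000000000000000000000000000000000000000000000000000000000000000000000000000000000000000000000000000000000000000000000000000000000000000000000000000000000000000000000000000000000000000000000000000000000000000000000000000000000000000000000000000000000000000000000000000000000000000000000000000000000000000000000000000000000000000000000000000000000000000000000000000000000000000000000000000000000000000000000000000000000000000000000000000000000000000000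000000000000000000000000000000000000000000000000000000000000000000000000000000000000000000000000000000000000000000000000000000000000000000000000000000000000000000000000000000000000000000000000000000000000000000000000000000000000000000000000000000000000000000000000000000000000000000000000000000000000000000000000000000000000000000000000000000000000000000000000000000000000000000000000000000000000000000000000000000000000000000000000000000000000000000000000000000000000000000000000000000000000000000000000000000000000000000000000000000000000000000000000000000000000000000000000000000000000000000000000000000000000000000000000000000000000000000000000000000000000000000000000000000000000000000000000000000000000000000000000000000000000000000000000000000000000000000000) (Nat.mul (nat_lit 43) (Nat.land i (nat_lit 511)))) (nat_lit 8796093022207)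
noncomputable def MR_290 (i : Nat) : Nat := Nat.land (Nat.shiftRight (nat_lit 0x0) (Nat.mul (nat_lit 43) (Nat.land i (nat_lit 511)))) (nat_lit 8796093022207)
noncomputable def MR_291 (i : Nat) : Nat := Nat.land (Nat.shiftRight (nat_lit 0x0) (Nat.mul (nat_lit 43) (Nat.land i (nat_lit 511)))) (nat_lit 8796093022207)
noncomputable def MR_292 (i : Nat) : Nat := Nat.land (Nat.shiftRight (nat_lit 0x0) (Nat.mul (nat_lit 43) (Nat.land i (nat_lit 511)))) (nat_lit 8796093022207)
noncomputable def MR_293 (i : Nat) : Nat := Nat.land (Nat.shiftRight (nat_lit 0x0) (Nat.mul (nat_lit 43) (Nat.land i (nat_lit 511)))) (nat_lit 8796093022207)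
noncomputable def MR_294 (i : Nat) : Nat := Nat.land (Nat.shiftRight (nat_lit 0x0) (Nat.mul (nat_lit 43) (Nat.land i (nat_lit 511)))) (nat_lit 8796093022207)
noncomputable def MR_295 (i : Nat) : Nat := Nat.land (Nat.shiftRight (nat_lit 0x0) (Nat.mul (nat_lit 43) (Nat.land i (nat_lit 511)))) (nat_lit 8796093022207)
noncomputable def MR_296 (i : Nat) : Nat := Nat.land (Nat.shiftRight (nat_lit 0x0) (Nat.mul (nat_lit 43) (Nat.land i (nat_lit 511)))) (nat_lit 8796093022207)
noncomputable def MR_297 (i : Nat) : Nat := Nat.land (Nat.shiftRight (nat_lit 0x0) (Nat.mul (nat_lit 43) (Nat.land i (nat_lit 511)))) (nat_lit 8796093022207)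
noncomputable def MR_298 (i : Nat) : Nat := Nat.land (Nat.shiftRight (nat_lit 0x0) (Nat.mul (nat_lit 43) (Nat.land i (nat_lit 511)))) (nat_lit 8796093022207)
noncomputable def MR_299 (i : Nat) : Nat := Nat.land (Nat.shiftRight (nat_lit 0x0) (Nat.mul (nat_lit 43) (Nat.land i (nat_lit 511)))) (nat_lit 8796093022207)
noncomputable def MR_300 (i : Nat) : Nat := Nat.land (Nat.shiftRight (nat_lit 0x0) (Nat.mul (nat_lit 43) (Nat.land i (nat_lit 511)))) (nat_lit 8796093022207)
noncomputable def MR_301 (i : Nat) : Nat := Nat.land (Nat.shiftRight (nat_lit 0x0) (Nat.mul (nat_lit 43) (Nat.land i (nat_lit 511)))) (nat_lit 8796093022207)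
noncomputable def MR_302 (i : Nat) : Nat := Nat.land (Nat.shiftRight (nat_lit 0x0) (Nat.mul (nat_lit 43) (Nat.land i (nat_lit 511)))) (nat_lit 8796093022207)
noncomputable def MR_303 (i : Nat) : Nat := Nat.land (Nat.shiftRight (nat_lit 0x0) (Nat.mul (nat_lit 43) (Nat.land i (nat_lit 511)))) (nat_lit 8796093022207)
noncomputable def MR_304 (i : Nat) : Nat := Nat.land (Nat.shiftRight (nat_lit 0x0) (Nat.mul (nat_lit 43) (Nat.land i (nat_lit 511)))) (nat_lit 8796093022207)
noncomputable def MR_305 (i : Nat) : Nat := Nat.land (Nat.shiftRight (nat_lit 0x0) (Nat.mul (nat_lit 43) (Nat.land i (nat_lit 511)))) (nat_lit 8796093022207)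
noncomputable def MR_306 (i : Nat) : Nat := Nat.land (Nat.shiftRight (nat_lit 0x265f4c0000000000000000000000000000000000000000000000000000000000000000000000000000000000000000000000000000000000000000000000000000000000000000000000000000000000000000000000000000000000000000000000000000000000000000000000000000000000000000000000000000000000000000000000000000000000000000000000000000000000000000000000000000000000000000000000000000000000000000000000000000000000000000000000000000000000000000000000000000000000000000000000000000000000000000000000000000000000000000000000000000000000000000000000000000000000000000000000000000000000000000000000000000000000000000000000000000000000000000000000000000000000000000000000000000000000000000000000000000000000000000000000000000000000000000000000000000000000000000000000000000000000000000000000000000000000000000000000000000000000000000000000000000000000000000000000000000000000000000000000000000000000000000000000000000000000000000000000000000000000000000000000000000000000000000000000000000000000000000000000000000000000000000000000000000000000000000000000000000000000000000000000000000000000000000000000000000000000000000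000000000000000000000000000000000000000000000000000000000000000000000000000000000000000000000000000000000000000000000000000000000000000000000000000000000000000000000000000000000000000000000000000000000000000000000000000000000000000000000000000000000000000000000000000000000000000000000000000000000000000000000000000000000000000000000000000000000000000000000000000000000000000000000000000000000000000000000000000000000000000000000000000000000000000009959ef00000000000000000000000000000000000000000000000000000000000000000000000000000000000000000000000000000000000000000000000000000000000000000000000000000000000000000000000000000000000000000000000000000000000000000000000000000000000000000000000000000000000000000000000000000000000000000000000000000000000000000000000000000000000000000000000000000000000000000000000000000000000000000000000000000000000000000000000000000000000000000000000000000000000000000000000000000000000000000000000000000000000000000000000000000000000000000000000000000000000000000000000000000000000000000000000000000000000000000000000000000000000000000000000000000000000000000000000000000000000000000000000000000000000000000000000000000000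00000000000000000000000000000000000000000000000000000000000000000000000000000000000000000000000000000000000000000000000000000000000000000000000000000000000000000000000000000000000000000000000000000000000000000000000000000000000000000000000000000000000000000000000000000000000000000000000000000000000000000000000000000000000000000000000000000000000000000000000000000993fae000000000000000000000000000000000000000000000000000000000000000000000000000000000000000000000000000000000000000000000000000000000000000000000000000000000000000000000000000000000000000000000000000000000000000000000000000000000000000000000000000000000000000000000013275220000000000000000000000000000000000000000000000000000000000000000000000000000000000000000000000000000000000000000000000000000000000000000000000000000000000000000000000000000000000000000000000000000000000000000000000000000000000000000000000000000000000000000000000000000000000000000000000000000000000000000000000000000000000000000000000000000000000000000000000000000000000000000000000000000000000000000004b06d680000000000000000000000000000000000004bacd600000992feb000000000000000000000000004c977500000992ea900000000000000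0000000000000000000000000000000000000000000000000000000000000000000000000000000000000000000000000000000000000000000000000000000000000000000000000000000000000000000000000000000000000000000000000000000000000000000000000000000000000000000000000000000000000000000000000000000000000000000000000000000000000000000000000000000000000000000000000000000000000000000000000000000000000000000000000000000000000000000000000000000000000000000000000000000000000000000000000000000000000000000000000000000000000000000000000000000000000000000000000000000000000000000000000000000000000000000000000000000000000000000000000000000000000000000000000000000000000000000000000000000000000000000000000000000000000000000000000000000000000000000000000000000000000000000000000000000000000000000000000000000000000000000000000000000000000000000000000000000000000000000000000000000000000000000000000000000000000000000000000000000000000000000000000000000000000000000000000000000000000000000000000000000000000000000000000000000000000000000000000000000000000000000000000000000000000000000000000000000000000000000000000000000000000000000000000000000000000000000000000000000000000000000000000000000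00000000000000000000000000000000000000000000000000000000000000000000000000000000000000000000000000000000000000000000000000000000000000000000000000000000000000000000000000000000000000000000000000000000000000000000000000000000000000000000000000000000000000000000000000000000000000000000000000000000000000000000000000000000000000000000000000000000000000000000000000000000000000000000000000000000000000000000000000000000000000000000000000000000000000000000000000000000000000000000000000000000000000000000000000000000000000000000000000000000000000000000000000000000000000000000000000000000000000000000000000000000000000000000000000000000000000000000000000000000000000000000000000000000000000000000000000000000000000000000000000000000000000000000000000000000000000000000000000000000000000000000000000000000000000000000000000000000000000000000000000000000) (Nat.mul (nat_lit 43) (Nat.land i (nat_lit 511)))) (nat_lit 8796093022207)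
noncomputable def MR_307 (i : Nat) : Nat := Nat.land (Nat.shiftRight (nat_lit 0x0) (Nat.mul (nat_lit 43) (Nat.land i (nat_lit 511)))) (nat_lit 8796093022207)
noncomputable def MR_308 (i : Nat) : Nat := Nat.land (Nat.shiftRight (nat_lit 0x0) (Nat.mul (nat_lit 43) (Nat.land i (nat_lit 511)))) (nat_lit 8796093022207)
noncomputable def MR_309 (i : Nat) : Nat := Nat.land (Nat.shiftRight (nat_lit 0x9af9f1000000000000000000000000000000000000000000000000000000000000000000000000000000000000000000000000000000000000000000000000000000000000000000000000000000000000000000000000000000000000000000000000000000000000000000000000000000000000000000000000000000000000000000000000000000000000000000000000000000000000000000000000000000000000000000000000000000000000000000000000000000000000000000000000000000000000000000000000000000000000000000000000000000000000000000000000000000000000000000000000000000000000000000000000000000000000000000000000000000000000000000000000000000000000000000000000000000000000000000000000000000000000000000000000000000000000000000000000000000000000000000000000000000000000000000000000000000000000000000000000000000000000000000000000000000000000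0000000000000000000000000000000000000000000000000000000000000000000000000000000000000000000000000000000000000000000000000000000000000000000000000000000000000000000000000000000000000000000000000000000000000000000000000000000000000000000000000000000000000000000000000000000000000000000000000000000000000000000000000000000000000000000000000000000000000000000000000000000000000000000000000000000000000000000000000000000000000000000000000000000000000000000000000000000000000000000000000000000000000000000000000000000000000000000000000000000000000000000000000000000000000000000000000000000000000000000000000000000000000000000000000000000000000000000000000000000000000000000000000000000000000000000000000000000000000000000000000000000000000000000000000000000000000000000000000000000000000000000000000000000000000000000000000000000000000000000000000000000000000000000000000000000000000000000000000000000000000000000000000000000000000000000000000000000000000000000000000000000000000000000000000000000000000000000000000000000000000000000000000000000000000000000000000000000000000000000000000000000000000000000000000000000000000000000000000000000000000000000000000000000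0000000000000000000000000000000000000000000000000000000000000000000000000000000000000000000000000000000000000000000000000000000000000000000000000000000000000000000000000000000000000000000000000000000000000000000000000000000000000000000000000000000000000000000000000000000000000000000000000000000000000000000000000000000000000000000000000000000000000000000000000000000000000000000000000000000000000000000000000000000000000000000000000000000000000000000000000000000000000000000000000000000000000000000000000000000000000000000000000000000000000000000000000000000000000000000000000000000000000000000000000000000000000000000000000000000000000000000000000000000000000000000000000000000000000000000000000000000000000000000000000000000000000000000000000000000000000000000000000000000000000000000000000000000000000000000000000000000000000000000000000000000000000000000000000000000000000000000000000000000000000000000000000000000000000000000000000000000000000000000000000000000000000000000000000000000000000000000000000000000000000000000000000000000000000000000000000000000000000000000000000000000000000000000000000000000000000000000000000000000000000000000000000000000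0000000000000000000000000000000000000000000000000000000000000000000000000000000000000000000000000000000000000000000000000000000000000000000000000000000000000000000000000000000000000000000000000000000000000000000000000000000000000000000000000000000000000000000000000000000000000000000000000000000000000000000000000000000000000000000000000000000000000000000000000000000000000000000000000000000000000000000000000000000000000000000000000000000000000000000000000000000000000000000000000000000000000000000000000000000000000000000000000000000000000000000000000000000000000000000000000000000000000000000000000000000000000000000000000000000000000000000000000000000000000000000000000000000000000000000000000000000000000000000000000000000000000000000000000000000000000000000000000000000000000000000000000000000000000000000000000000000000000000000000000000000000000000000000000000000000000000000000000000000000000000000000000000000000000000000000000000000000000000000000000000000000000000000000000000000000000000000000000000000000000000000000000000000000000000000000000000000000000000000000000000000000000000000000000000000000000000000000000000000000000000000000000000000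00000000000000000000000000000000000000000000000000000000000000000000000000000000000000000000000000000000000000000000000000000000000000000000000000000000000000000000000000000000000000000000000000000000000000000000000000000000000000000000000000000000000000000000000000000000000000000000000000000000000000000000000000000000000000000000000000000000000000000000000000000000000000000000000000000000000000000000000000000000000000000000000000000000000000000000000000000000000000000000000000000000000000000000000000000000000000000000000000000000000000000000000000000000000000000000000000000000000000000000000000000000000000000000000000000000000000000000000000000000000000000000000000000000000000000000000000000000000000000000000000000000000000000000000000000000000000000000000000000000000000000000000000000000000000000000000000000000000000000000000000000000000000000000000000000000000000000000000000000000000000000000000000000000000000000000000000000000000000000000000000000000000000000000000000000000000000000000000000000) (Nat.mul (nat_lit 43) (Nat.land i (nat_lit 511)))) (nat_lit 8796093022207)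
noncomputable def MR_310 (i : Nat) : Nat := Nat.land (Nat.shiftRight (nat_lit 0x0) (Nat.mul (nat_lit 43) (Nat.land i (nat_lit 511)))) (nat_lit 8796093022207)
noncomputable def MR_311 (i : Nat) : Nat := Nat.land (Nat.shiftRight (nat_lit 0x0) (Nat.mul (nat_lit 43) (Nat.land i (nat_lit 511)))) (nat_lit 8796093022207)
noncomputable def MR_312 (i : Nat) : Nat := Nat.land (Nat.shiftRight (nat_lit 0x0) (Nat.mul (nat_lit 43) (Nat.land i (nat_lit 511)))) (nat_lit 8796093022207)
noncomputable def MR_313 (i : Nat) : Nat := Nat.land (Nat.shiftRight (nat_lit 0x132f86a000000000000000000000000000000000000000000000000000000000000000000000000000000000000000000000000000000000000000000000000000000000000000000000000000000000000000000000000000000000000000000000000000000000000000000000000000000000000000000000000000000000000000000000000000000000000000000000000000000000000000000000000000000000000000000000000000000000000000000000000000000000000000000000000000000000000000000000000000009959340000000000000000000000000000000000000000000000000000000000000000000000000000000000000000000000000000000000000000000000000000000000000000000000000000000000000000000000000000000000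0000000000000000000000000000000000000000000000000000000000000000000000000000000000000000000000000000000000000000000000000000000000000000000000000000000000000000000000000000000000000000000000000000000000000000000000000000000000000000000000000000000000000000000000000000000000000000000000000000000000000000000000000000000000000000000000000000000000000000000000000000000000000000000000000000000000000000000000000000000000000000000000000000000000000000000000000000000000000000000000000000000000000000000000000000000000000000000000000000000000000000000000000797e11d0c0600000000000000000000000000000000000000000000000000000000000000000000000000000000000000000000000000000000000000000000000000000000000000000000000000000000000000000000000000000000000000000000000000000000000000000000000f2eda39f80c0000000000000000000000000000000000000000000000000000000000000000000000000000000000000000000000000000000000000000000000000000000000000000000000000000000000000000000002655bcc00000000000000000000000000000000f2db239c70c00004c96d9000000000000000000000000000000001e5b2473842bcb628e7045000000000000000000000000000000000000000000000000000000000000000000000000000000000000000000000000000000000000000000000000000000000000000000000000000000000000000000000000000000000000000000000000000000000000000000000000000000000000000000000000000000000000000000000000000000000000000000000000000000000000000000000000000000000000000000000000000000000000000000000000000000000000000000000000000000000000000000000000000000000000000000000000000000000000000000000000000000000000000000000000000000000000000000000000000000000000)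 (Nat.mul (nat_lit 43) (Nat.land i (nat_lit 511)))) (nat_lit 8796093022207)
noncomputable def MR_314 (i : Nat) : Nat := Nat.land (Nat.shiftRight (nat_lit 0x0) (Nat.mul (nat_lit 43) (Nat.land i (nat_lit 511)))) (nat_lit 8796093022207)
noncomputable def MR_315 (i : Nat) : Nat := Nat.land (Nat.shiftRight (nat_lit 0x0) (Nat.mul (nat_lit 43) (Nat.land i (nat_lit 511)))) (nat_lit 8796093022207)
noncomputable def MR_316 (i : Nat) : Nat := Nat.land (Nat.shiftRight (nat_lit 0x0) (Nat.mul (nat_lit 43) (Nat.land i (nat_lit 511)))) (nat_lit 8796093022207)
noncomputable def MR_317 (i : Nat) : Nat := Nat.land (Nat.shiftRight (nat_lit 0x0) (Nat.mul (nat_lit 43) (Nat.land i (nat_lit 511)))) (nat_lit 8796093022207)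
noncomputable def MR_318 (i : Nat) : Nat := Nat.land (Nat.shiftRight (nat_lit 0x0) (Nat.mul (nat_lit 43) (Nat.land i (nat_lit 511)))) (nat_lit 8796093022207)
noncomputable def MR_319 (i : Nat) : Nat := Nat.land (Nat.shiftRight (nat_lit 0x0) (Nat.mul (nat_lit 43) (Nat.land i (nat_lit 511)))) (nat_lit 8796093022207)
noncomputable def MR_320 (i : Nat) : Nat := Nat.land (Nat.shiftRight (nat_lit 0x0) (Nat.mul (nat_lit 43) (Nat.land i (nat_lit 511)))) (nat_lit 8796093022207)
noncomputable def MR_321 (i : Nat) : Nat := Nat.land (Nat.shiftRight (nat_lit 0x0) (Nat.mul (nat_lit 43) (Nat.land i (nat_lit 511)))) (nat_lit 8796093022207)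
noncomputable def MR_322 (i : Nat) : Nat := Nat.land (Nat.shiftRight (nat_lit 0x0) (Nat.mul (nat_lit 43) (Nat.land i (nat_lit 511)))) (nat_lit 8796093022207)
noncomputable def MR_323 (i : Nat) : Nat := Nat.land (Nat.shiftRight (nat_lit 0x0) (Nat.mul (nat_lit 43) (Nat.land i (nat_lit 511)))) (nat_lit 8796093022207)
noncomputable def MR_324 (i : Nat) : Nat := Nat.land (Nat.shiftRight (nat_lit 0x0) (Nat.mul (nat_lit 43) (Nat.land i (nat_lit 511)))) (nat_lit 8796093022207)
noncomputable def MR_325 (i : Nat) : Nat := Nat.land (Nat.shiftRight (nat_lit 0x0) (Nat.mul (nat_lit 43) (Nat.land i (nat_lit 511)))) (nat_lit 8796093022207)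
noncomputable def MR_326 (i : Nat) : Nat := Nat.land (Nat.shiftRight (nat_lit 0x0) (Nat.mul (nat_lit 43) (Nat.land i (nat_lit 511)))) (nat_lit 8796093022207)
noncomputable def MR_327 (i : Nat) : Nat := Nat.land (Nat.shiftRight (nat_lit 0x0) (Nat.mul (nat_lit 43) (Nat.land i (nat_lit 511)))) (nat_lit 8796093022207)
noncomputable def MR_328 (i : Nat) : Nat := Nat.land (Nat.shiftRight (nat_lit 0x0) (Nat.mul (nat_lit 43) (Nat.land i (nat_lit 511)))) (nat_lit 8796093022207)
noncomputable def MR_329 (i : Nat) : Nat := Nat.land (Nat.shiftRight (nat_lit 0x0) (Nat.mul (nat_lit 43) (Nat.land i (nat_lit 511)))) (nat_lit 8796093022207)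
noncomputable def MR_330 (i : Nat) : Nat := Nat.land (Nat.shiftRight (nat_lit 0x0) (Nat.mul (nat_lit 43) (Nat.land i (nat_lit 511)))) (nat_lit 8796093022207)
noncomputable def MR_331 (i : Nat) : Nat := Nat.land (Nat.shiftRight (nat_lit 0x0) (Nat.mul (nat_lit 43) (Nat.land i (nat_lit 511)))) (nat_lit 8796093022207)
noncomputable def MR_332 (i : Nat) : Nat := Nat.land (Nat.shiftRight (nat_lit 0x0) (Nat.mul (nat_lit 43) (Nat.land i (nat_lit 511)))) (nat_lit 8796093022207)
noncomputable def MR_333 (i : Nat) : Nat := Nat.land (Nat.shiftRight (nat_lit 0x0) (Nat.mul (nat_lit 43) (Nat.land i (nat_lit 511)))) (nat_lit 8796093022207)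
noncomputable def MR_334 (i : Nat) : Nat := Nat.land (Nat.shiftRight (nat_lit 0x0) (Nat.mul (nat_lit 43) (Nat.land i (nat_lit 511)))) (nat_lit 8796093022207)
noncomputable def MR_335 (i : Nat) : Nat := Nat.land (Nat.shiftRight (nat_lit 0x0) (Nat.mul (nat_lit 43) (Nat.land i (nat_lit 511)))) (nat_lit 8796093022207)
noncomputable def MR_336 (i : Nat) : Nat := Nat.land (Nat.shiftRight (nat_lit 0x0) (Nat.mul (nat_lit 43) (Nat.land i (nat_lit 511)))) (nat_lit 8796093022207)
noncomputable def MR_337 (i : Nat) : Nat := Nat.land (Nat.shiftRight (nat_lit 0x0) (Nat.mul (nat_lit 43) (Nat.land i (nat_lit 511)))) (nat_lit 8796093022207)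
noncomputable def MR_338 (i : Nat) : Nat := Nat.land (Nat.shiftRight (nat_lit 0x0) (Nat.mul (nat_lit 43) (Nat.land i (nat_lit 511)))) (nat_lit 8796093022207)
noncomputable def MR_339 (i : Nat) : Nat := Nat.land (Nat.shiftRight (nat_lit 0x0) (Nat.mul (nat_lit 43) (Nat.land i (nat_lit 511)))) (nat_lit 8796093022207)
noncomputable def MR_340 (i : Nat) : Nat := Nat.land (Nat.shiftRight (nat_lit 0x0) (Nat.mul (nat_lit 43) (Nat.land i (nat_lit 511)))) (nat_lit 8796093022207)
noncomputable def MR_341 (i : Nat) : Nat := Nat.land (Nat.shiftRight (nat_lit 0x0) (Nat.mul (nat_lit 43) (Nat.land i (nat_lit 511)))) (nat_lit 8796093022207)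
noncomputable def MR_342 (i : Nat) : Nat := Nat.land (Nat.shiftRight (nat_lit 0x0) (Nat.mul (nat_lit 43) (Nat.land i (nat_lit 511)))) (nat_lit 8796093022207)
noncomputable def MR_343 (i : Nat) : Nat := Nat.land (Nat.shiftRight (nat_lit 0x0) (Nat.mul (nat_lit 43) (Nat.land i (nat_lit 511)))) (nat_lit 8796093022207)
noncomputable def MR_344 (i : Nat) : Nat := Nat.land (Nat.shiftRight (nat_lit 0x0) (Nat.mul (nat_lit 43) (Nat.land i (nat_lit 511)))) (nat_lit 8796093022207)
noncomputable def MR_345 (i : Nat) : Nat := Nat.land (Nat.shiftRight (nat_lit 0x0) (Nat.mul (nat_lit 43) (Nat.land i (nat_lit 511)))) (nat_lit 8796093022207)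
noncomputable def MR_346 (i : Nat) : Nat := Nat.land (Nat.shiftRight (nat_lit 0x0) (Nat.mul (nat_lit 43) (Nat.land i (nat_lit 511)))) (nat_lit 8796093022207)
noncomputable def MR_347 (i : Nat) : Nat := Nat.land (Nat.shiftRight (nat_lit 0x0) (Nat.mul (nat_lit 43) (Nat.land i (nat_lit 511)))) (nat_lit 8796093022207)
noncomputable def MR_348 (i : Nat) : Nat := Nat.land (Nat.shiftRight (nat_lit 0x0) (Nat.mul (nat_lit 43) (Nat.land i (nat_lit 511)))) (nat_lit 8796093022207)
noncomputable def MR_349 (i : Nat) : Nat := Nat.land (Nat.shiftRight (nat_lit 0x0) (Nat.mul (nat_lit 43) (Nat.land i (nat_lit 511)))) (nat_lit 8796093022207)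
noncomputable def MR_350 (i : Nat) : Nat := Nat.land (Nat.shiftRight (nat_lit 0x0) (Nat.mul (nat_lit 43) (Nat.land i (nat_lit 511)))) (nat_lit 8796093022207)
noncomputable def MR_351 (i : Nat) : Nat := Nat.land (Nat.shiftRight (nat_lit 0x0) (Nat.mul (nat_lit 43) (Nat.land i (nat_lit 511)))) (nat_lit 8796093022207)
noncomputable def MR_352 (i : Nat) : Nat := Nat.land (Nat.shiftRight (nat_lit 0x0) (Nat.mul (nat_lit 43) (Nat.land i (nat_lit 511)))) (nat_lit 8796093022207)
noncomputable def MR_353 (i : Nat) : Nat := Nat.land (Nat.shiftRight (nat_lit 0x0) (Nat.mul (nat_lit 43) (Nat.land i (nat_lit 511)))) (nat_lit 8796093022207)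
noncomputable def MR_354 (i : Nat) : Nat := Nat.land (Nat.shiftRight (nat_lit 0x0) (Nat.mul (nat_lit 43) (Nat.land i (nat_lit 511)))) (nat_lit 8796093022207)
noncomputable def MR_355 (i : Nat) : Nat := Nat.land (Nat.shiftRight (nat_lit 0x0) (Nat.mul (nat_lit 43) (Nat.land i (nat_lit 511)))) (nat_lit 8796093022207)
noncomputable def MR_356 (i : Nat) : Nat := Nat.land (Nat.shiftRight (nat_lit 0x0) (Nat.mul (nat_lit 43) (Nat.land i (nat_lit 511)))) (nat_lit 8796093022207)
noncomputable def MR_357 (i : Nat) : Nat := Nat.land (Nat.shiftRight (nat_lit 0x0) (Nat.mul (nat_lit 43) (Nat.land i (nat_lit 511)))) (nat_lit 8796093022207)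
noncomputable def MR_358 (i : Nat) : Nat := Nat.land (Nat.shiftRight (nat_lit 0x0) (Nat.mul (nat_lit 43) (Nat.land i (nat_lit 511)))) (nat_lit 8796093022207)
noncomputable def MR_359 (i : Nat) : Nat := Nat.land (Nat.shiftRight (nat_lit 0x0) (Nat.mul (nat_lit 43) (Nat.land i (nat_lit 511)))) (nat_lit 8796093022207)
noncomputable def MR_360 (i : Nat) : Nat := Nat.land (Nat.shiftRight (nat_lit 0x0) (Nat.mul (nat_lit 43) (Nat.land i (nat_lit 511)))) (nat_lit 8796093022207)
noncomputable def MR_361 (i : Nat) : Nat := Nat.land (Nat.shiftRight (nat_lit 0x0) (Nat.mul (nat_lit 43) (Nat.land i (nat_lit 511)))) (nat_lit 8796093022207)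
noncomputable def MR_362 (i : Nat) : Nat := Nat.land (Nat.shiftRight (nat_lit 0x0) (Nat.mul (nat_lit 43) (Nat.land i (nat_lit 511)))) (nat_lit 8796093022207)
noncomputable def MR_363 (i : Nat) : Nat := Nat.land (Nat.shiftRight (nat_lit 0x0) (Nat.mul (nat_lit 43) (Nat.land i (nat_lit 511)))) (nat_lit 8796093022207)
noncomputable def MR_364 (i : Nat) : Nat := Nat.land (Nat.shiftRight (nat_lit 0x0) (Nat.mul (nat_lit 43) (Nat.land i (nat_lit 511)))) (nat_lit 8796093022207)
noncomputable def MR_365 (i : Nat) : Nat := Nat.land (Nat.shiftRight (nat_lit 0x0) (Nat.mul (nat_lit 43) (Nat.land i (nat_lit 511)))) (nat_lit 8796093022207)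
noncomputable def MR_366 (i : Nat) : Nat := Nat.land (Nat.shiftRight (nat_lit 0x0) (Nat.mul (nat_lit 43) (Nat.land i (nat_lit 511)))) (nat_lit 8796093022207)
noncomputable def MR_367 (i : Nat) : Nat := Nat.land (Nat.shiftRight (nat_lit 0x0) (Nat.mul (nat_lit 43) (Nat.land i (nat_lit 511)))) (nat_lit 8796093022207)
noncomputable def MR_368 (i : Nat) : Nat := Nat.land (Nat.shiftRight (nat_lit 0x0) (Nat.mul (nat_lit 43) (Nat.land i (nat_lit 511)))) (nat_lit 8796093022207)
noncomputable def MR_369 (i : Nat) : Nat := Nat.land (Nat.shiftRight (nat_lit 0x0) (Nat.mul (nat_lit 43) (Nat.land i (nat_lit 511)))) (nat_lit 8796093022207)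
noncomputable def MR_370 (i : Nat) : Nat := Nat.land (Nat.shiftRight (nat_lit 0x0) (Nat.mul (nat_lit 43) (Nat.land i (nat_lit 511)))) (nat_lit 8796093022207)
noncomputable def MR_371 (i : Nat) : Nat := Nat.land (Nat.shiftRight (nat_lit 0x0) (Nat.mul (nat_lit 43) (Nat.land i (nat_lit 511)))) (nat_lit 8796093022207)
noncomputable def MR_372 (i : Nat) : Nat := Nat.land (Nat.shiftRight (nat_lit 0x0) (Nat.mul (nat_lit 43) (Nat.land i (nat_lit 511)))) (nat_lit 8796093022207)
noncomputable def MR_373 (i : Nat) : Nat := Nat.land (Nat.shiftRight (nat_lit 0x0) (Nat.mul (nat_lit 43) (Nat.land i (nat_lit 511)))) (nat_lit 8796093022207)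
noncomputable def MR_374 (i : Nat) : Nat := Nat.land (Nat.shiftRight (nat_lit 0x0) (Nat.mul (nat_lit 43) (Nat.land i (nat_lit 511)))) (nat_lit 8796093022207)
noncomputable def MR_375 (i : Nat) : Nat := Nat.land (Nat.shiftRight (nat_lit 0x0) (Nat.mul (nat_lit 43) (Nat.land i (nat_lit 511)))) (nat_lit 8796093022207)
noncomputable def MR_376 (i : Nat) : Nat := Nat.land (Nat.shiftRight (nat_lit 0x0) (Nat.mul (nat_lit 43) (Nat.land i (nat_lit 511)))) (nat_lit 8796093022207)
noncomputable def MR_377 (i : Nat) : Nat := Nat.land (Nat.shiftRight (nat_lit 0x0) (Nat.mul (nat_lit 43) (Nat.land i (nat_lit 511)))) (nat_lit 8796093022207)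
noncomputable def MR_378 (i : Nat) : Nat := Nat.land (Nat.shiftRight (nat_lit 0x0) (Nat.mul (nat_lit 43) (Nat.land i (nat_lit 511)))) (nat_lit 8796093022207)
noncomputable def MR_379 (i : Nat) : Nat := Nat.land (Nat.shiftRight (nat_lit 0x0) (Nat.mul (nat_lit 43) (Nat.land i (nat_lit 511)))) (nat_lit 8796093022207)
noncomputable def MR_380 (i : Nat) : Nat := Nat.land (Nat.shiftRight (nat_lit 0x0) (Nat.mul (nat_lit 43) (Nat.land i (nat_lit 511)))) (nat_lit 8796093022207)
noncomputable def MR_381 (i : Nat) : Nat := Nat.land (Nat.shiftRight (nat_lit 0x0) (Nat.mul (nat_lit 43) (Nat.land i (nat_lit 511)))) (nat_lit 8796093022207)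
noncomputable def MR_382 (i : Nat) : Nat := Nat.land (Nat.shiftRight (nat_lit 0x0) (Nat.mul (nat_lit 43) (Nat.land i (nat_lit 511)))) (nat_lit 8796093022207)
noncomputable def MR_383 (i : Nat) : Nat := Nat.land (Nat.shiftRight (nat_lit 0x0) (Nat.mul (nat_lit 43) (Nat.land i (nat_lit 511)))) (nat_lit 8796093022207)
noncomputable def MR_384 (i : Nat) : Nat := Nat.land (Nat.shiftRight (nat_lit 0x0) (Nat.mul (nat_lit 43) (Nat.land i (nat_lit 511)))) (nat_lit 8796093022207)
noncomputable def MR_385 (i : Nat) : Nat := Nat.land (Nat.shiftRight (nat_lit 0x0) (Nat.mul (nat_lit 43) (Nat.land i (nat_lit 511)))) (nat_lit 8796093022207)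
noncomputable def MR_386 (i : Nat) : Nat := Nat.land (Nat.shiftRight (nat_lit 0x0) (Nat.mul (nat_lit 43) (Nat.land i (nat_lit 511)))) (nat_lit 8796093022207)
noncomputable def MR_387 (i : Nat) : Nat := Nat.land (Nat.shiftRight (nat_lit 0x0) (Nat.mul (nat_lit 43) (Nat.land i (nat_lit 511)))) (nat_lit 8796093022207)
noncomputable def MR_388 (i : Nat) : Nat := Nat.land (Nat.shiftRight (nat_lit 0x0) (Nat.mul (nat_lit 43) (Nat.land i (nat_lit 511)))) (nat_lit 8796093022207)
noncomputable def MR_389 (i : Nat) : Nat := Nat.land (Nat.shiftRight (nat_lit 0x0) (Nat.mul (nat_lit 43) (Nat.land i (nat_lit 511)))) (nat_lit 8796093022207)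
noncomputable def MR_390 (i : Nat) : Nat := Nat.land (Nat.shiftRight (nat_lit 0x0) (Nat.mul (nat_lit 43) (Nat.land i (nat_lit 511)))) (nat_lit 8796093022207)
noncomputable def MR_391 (i : Nat) : Nat := Nat.land (Nat.shiftRight (nat_lit 0x0) (Nat.mul (nat_lit 43) (Nat.land i (nat_lit 511)))) (nat_lit 8796093022207)
noncomputable def MR_392 (i : Nat) : Nat := Nat.land (Nat.shiftRight (nat_lit 0x0) (Nat.mul (nat_lit 43) (Nat.land i (nat_lit 511)))) (nat_lit 8796093022207)
noncomputable def MR_393 (i : Nat) : Nat := Nat.land (Nat.shiftRight (nat_lit 0x0) (Nat.mul (nat_lit 43) (Nat.land i (nat_lit 511)))) (nat_lit 8796093022207)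
noncomputable def MR_394 (i : Nat) : Nat := Nat.land (Nat.shiftRight (nat_lit 0x0) (Nat.mul (nat_lit 43) (Nat.land i (nat_lit 511)))) (nat_lit 8796093022207)
noncomputable def MR_395 (i : Nat) : Nat := Nat.land (Nat.shiftRight (nat_lit 0x0) (Nat.mul (nat_lit 43) (Nat.land i (nat_lit 511)))) (nat_lit 8796093022207)
noncomputable def MR_396 (i : Nat) : Nat := Nat.land (Nat.shiftRight (nat_lit 0x0) (Nat.mul (nat_lit 43) (Nat.land i (nat_lit 511)))) (nat_lit 8796093022207)
noncomputable def MR_397 (i : Nat) : Nat := Nat.land (Nat.shiftRight (nat_lit 0x0) (Nat.mul (nat_lit 43) (Nat.land i (nat_lit 511)))) (nat_lit 8796093022207)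
noncomputable def MR_398 (i : Nat) : Nat := Nat.land (Nat.shiftRight (nat_lit 0x0) (Nat.mul (nat_lit 43) (Nat.land i (nat_lit 511)))) (nat_lit 8796093022207)
noncomputable def MR_399 (i : Nat) : Nat := Nat.land (Nat.shiftRight (nat_lit 0x0) (Nat.mul (nat_lit 43) (Nat.land i (nat_lit 511)))) (nat_lit 8796093022207)
noncomputable def MR_400 (i : Nat) : Nat := Nat.land (Nat.shiftRight (nat_lit 0x0) (Nat.mul (nat_lit 43) (Nat.land i (nat_lit 511)))) (nat_lit 8796093022207)
noncomputable def MR_401 (i : Nat) : Nat := Nat.land (Nat.shiftRight (nat_lit 0x0) (Nat.mul (nat_lit 43) (Nat.land i (nat_lit 511)))) (nat_lit 8796093022207)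
noncomputable def MR_402 (i : Nat) : Nat := Nat.land (Nat.shiftRight (nat_lit 0x0) (Nat.mul (nat_lit 43) (Nat.land i (nat_lit 511)))) (nat_lit 8796093022207)
noncomputable def MR_403 (i : Nat) : Nat := Nat.land (Nat.shiftRight (nat_lit 0x0) (Nat.mul (nat_lit 43) (Nat.land i (nat_lit 511)))) (nat_lit 8796093022207)
noncomputable def MR_404 (i : Nat) : Nat := Nat.land (Nat.shiftRight (nat_lit 0x0) (Nat.mul (nat_lit 43) (Nat.land i (nat_lit 511)))) (nat_lit 8796093022207)
noncomputable def MR_405 (i : Nat) : Nat := Nat.land (Nat.shiftRight (nat_lit 0x0) (Nat.mul (nat_lit 43) (Nat.land i (nat_lit 511)))) (nat_lit 8796093022207)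
noncomputable def MR_406 (i : Nat) : Nat := Nat.land (Nat.shiftRight (nat_lit 0x0) (Nat.mul (nat_lit 43) (Nat.land i (nat_lit 511)))) (nat_lit 8796093022207)
noncomputable def MR_407 (i : Nat) : Nat := Nat.land (Nat.shiftRight (nat_lit 0x0) (Nat.mul (nat_lit 43) (Nat.land i (nat_lit 511)))) (nat_lit 8796093022207)
noncomputable def MR_408 (i : Nat) : Nat := Nat.land (Nat.shiftRight (nat_lit 0x0) (Nat.mul (nat_lit 43) (Nat.land i (nat_lit 511)))) (nat_lit 8796093022207)
noncomputable def MR_409 (i : Nat) : Nat := Nat.land (Nat.shiftRight (nat_lit 0x0) (Nat.mul (nat_lit 43) (Nat.land i (nat_lit 511)))) (nat_lit 8796093022207)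
noncomputable def MR_410 (i : Nat) : Nat := Nat.land (Nat.shiftRight (nat_lit 0x0) (Nat.mul (nat_lit 43) (Nat.land i (nat_lit 511)))) (nat_lit 8796093022207)
noncomputable def MR_411 (i : Nat) : Nat := Nat.land (Nat.shiftRight (nat_lit 0x0) (Nat.mul (nat_lit 43) (Nat.land i (nat_lit 511)))) (nat_lit 8796093022207)
noncomputable def MR_412 (i : Nat) : Nat := Nat.land (Nat.shiftRight (nat_lit 0x0) (Nat.mul (nat_lit 43) (Nat.land i (nat_lit 511)))) (nat_lit 8796093022207)
noncomputable def MR_413 (i : Nat) : Nat := Nat.land (Nat.shiftRight (nat_lit 0x0) (Nat.mul (nat_lit 43) (Nat.land i (nat_lit 511)))) (nat_lit 8796093022207)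
noncomputable def MR_414 (i : Nat) : Nat := Nat.land (Nat.shiftRight (nat_lit 0x0) (Nat.mul (nat_lit 43) (Nat.land i (nat_lit 511)))) (nat_lit 8796093022207)
noncomputable def MR_415 (i : Nat) : Nat := Nat.land (Nat.shiftRight (nat_lit 0x0) (Nat.mul (nat_lit 43) (Nat.land i (nat_lit 511)))) (nat_lit 8796093022207)
noncomputable def MR_416 (i : Nat) : Nat := Nat.land (Nat.shiftRight (nat_lit 0x0) (Nat.mul (nat_lit 43) (Nat.land i (nat_lit 511)))) (nat_lit 8796093022207)
noncomputable def MR_417 (i : Nat) : Nat := Nat.land (Nat.shiftRight (nat_lit 0x0) (Nat.mul (nat_lit 43) (Nat.land i (nat_lit 511)))) (nat_lit 8796093022207)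
noncomputable def MR_418 (i : Nat) : Nat := Nat.land (Nat.shiftRight (nat_lit 0x0) (Nat.mul (nat_lit 43) (Nat.land i (nat_lit 511)))) (nat_lit 8796093022207)
noncomputable def MR_419 (i : Nat) : Nat := Nat.land (Nat.shiftRight (nat_lit 0x0) (Nat.mul (nat_lit 43) (Nat.land i (nat_lit 511)))) (nat_lit 8796093022207)
noncomputable def MR_420 (i : Nat) : Nat := Nat.land (Nat.shiftRight (nat_lit 0x0) (Nat.mul (nat_lit 43) (Nat.land i (nat_lit 511)))) (nat_lit 8796093022207)
noncomputable def MR_421 (i : Nat) : Nat := Nat.land (Nat.shiftRight (nat_lit 0x0) (Nat.mul (nat_lit 43) (Nat.land i (nat_lit 511)))) (nat_lit 8796093022207)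
noncomputable def MR_422 (i : Nat) : Nat := Nat.land (Nat.shiftRight (nat_lit 0x0) (Nat.mul (nat_lit 43) (Nat.land i (nat_lit 511)))) (nat_lit 8796093022207)
noncomputable def MR_423 (i : Nat) : Nat := Nat.land (Nat.shiftRight (nat_lit 0x0) (Nat.mul (nat_lit 43) (Nat.land i (nat_lit 511)))) (nat_lit 8796093022207)
noncomputable def MR_424 (i : Nat) : Nat := Nat.land (Nat.shiftRight (nat_lit 0x0) (Nat.mul (nat_lit 43) (Nat.land i (nat_lit 511)))) (nat_lit 8796093022207)
noncomputable def MR_425 (i : Nat) : Nat := Nat.land (Nat.shiftRight (nat_lit 0x0) (Nat.mul (nat_lit 43) (Nat.land i (nat_lit 511)))) (nat_lit 8796093022207)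
noncomputable def MR_426 (i : Nat) : Nat := Nat.land (Nat.shiftRight (nat_lit 0x0) (Nat.mul (nat_lit 43) (Nat.land i (nat_lit 511)))) (nat_lit 8796093022207)
noncomputable def MR_427 (i : Nat) : Nat := Nat.land (Nat.shiftRight (nat_lit 0x0) (Nat.mul (nat_lit 43) (Nat.land i (nat_lit 511)))) (nat_lit 8796093022207)
noncomputable def MR_428 (i : Nat) : Nat := Nat.land (Nat.shiftRight (nat_lit 0x0) (Nat.mul (nat_lit 43) (Nat.land i (nat_lit 511)))) (nat_lit 8796093022207)
noncomputable def MR_429 (i : Nat) : Nat := Nat.land (Nat.shiftRight (nat_lit 0x0) (Nat.mul (nat_lit 43) (Nat.land i (nat_lit 511)))) (nat_lit 8796093022207)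
noncomputable def MR_430 (i : Nat) : Nat := Nat.land (Nat.shiftRight (nat_lit 0x0) (Nat.mul (nat_lit 43) (Nat.land i (nat_lit 511)))) (nat_lit 8796093022207)
noncomputable def MR_431 (i : Nat) : Nat := Nat.land (Nat.shiftRight (nat_lit 0x0) (Nat.mul (nat_lit 43) (Nat.land i (nat_lit 511)))) (nat_lit 8796093022207)
noncomputable def MR_432 (i : Nat) : Nat := Nat.land (Nat.shiftRight (nat_lit 0x0) (Nat.mul (nat_lit 43) (Nat.land i (nat_lit 511)))) (nat_lit 8796093022207)
noncomputable def MR_433 (i : Nat) : Nat := Nat.land (Nat.shiftRight (nat_lit 0x0) (Nat.mul (nat_lit 43) (Nat.land i (nat_lit 511)))) (nat_lit 8796093022207)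
noncomputable def MR_434 (i : Nat) : Nat := Nat.land (Nat.shiftRight (nat_lit 0x0) (Nat.mul (nat_lit 43) (Nat.land i (nat_lit 511)))) (nat_lit 8796093022207)
noncomputable def MR_435 (i : Nat) : Nat := Nat.land (Nat.shiftRight (nat_lit 0x0) (Nat.mul (nat_lit 43) (Nat.land i (nat_lit 511)))) (nat_lit 8796093022207)
noncomputable def MR_436 (i : Nat) : Nat := Nat.land (Nat.shiftRight (nat_lit 0x0) (Nat.mul (nat_lit 43) (Nat.land i (nat_lit 511)))) (nat_lit 8796093022207)
noncomputable def MR_437 (i : Nat) : Nat := Nat.land (Nat.shiftRight (nat_lit 0x0) (Nat.mul (nat_lit 43) (Nat.land i (nat_lit 511)))) (nat_lit 8796093022207)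
noncomputable def MR_438 (i : Nat) : Nat := Nat.land (Nat.shiftRight (nat_lit 0x0) (Nat.mul (nat_lit 43) (Nat.land i (nat_lit 511)))) (nat_lit 8796093022207)
noncomputable def MR_439 (i : Nat) : Nat := Nat.land (Nat.shiftRight (nat_lit 0x0) (Nat.mul (nat_lit 43) (Nat.land i (nat_lit 511)))) (nat_lit 8796093022207)
noncomputable def MR_440 (i : Nat) : Nat := Nat.land (Nat.shiftRight (nat_lit 0x0) (Nat.mul (nat_lit 43) (Nat.land i (nat_lit 511)))) (nat_lit 8796093022207)
noncomputable def MR_441 (i : Nat) : Nat := Nat.land (Nat.shiftRight (nat_lit 0x0) (Nat.mul (nat_lit 43) (Nat.land i (nat_lit 511)))) (nat_lit 8796093022207)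
noncomputable def MR_442 (i : Nat) : Nat := Nat.land (Nat.shiftRight (nat_lit 0x0) (Nat.mul (nat_lit 43) (Nat.land i (nat_lit 511)))) (nat_lit 8796093022207)
noncomputable def MR_443 (i : Nat) : Nat := Nat.land (Nat.shiftRight (nat_lit 0x0) (Nat.mul (nat_lit 43) (Nat.land i (nat_lit 511)))) (nat_lit 8796093022207)
noncomputable def MR_444 (i : Nat) : Nat := Nat.land (Nat.shiftRight (nat_lit 0x0) (Nat.mul (nat_lit 43) (Nat.land i (nat_lit 511)))) (nat_lit 8796093022207)
noncomputable def MR_445 (i : Nat) : Nat := Nat.land (Nat.shiftRight (nat_lit 0x0) (Nat.mul (nat_lit 43) (Nat.land i (nat_lit 511)))) (nat_lit 8796093022207)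
noncomputable def MR_446 (i : Nat) : Nat := Nat.land (Nat.shiftRight (nat_lit 0x0) (Nat.mul (nat_lit 43) (Nat.land i (nat_lit 511)))) (nat_lit 8796093022207)
noncomputable def MR_447 (i : Nat) : Nat := Nat.land (Nat.shiftRight (nat_lit 0x0) (Nat.mul (nat_lit 43) (Nat.land i (nat_lit 511)))) (nat_lit 8796093022207)
noncomputable def MR_448 (i : Nat) : Nat := Nat.land (Nat.shiftRight (nat_lit 0x0) (Nat.mul (nat_lit 43) (Nat.land i (nat_lit 511)))) (nat_lit 8796093022207)
noncomputable def MR_449 (i : Nat) : Nat := Nat.land (Nat.shiftRight (nat_lit 0x0) (Nat.mul (nat_lit 43) (Nat.land i (nat_lit 511)))) (nat_lit 8796093022207)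
noncomputable def MR_450 (i : Nat) : Nat := Nat.land (Nat.shiftRight (nat_lit 0x0) (Nat.mul (nat_lit 43) (Nat.land i (nat_lit 511)))) (nat_lit 8796093022207)
noncomputable def MR_451 (i : Nat) : Nat := Nat.land (Nat.shiftRight (nat_lit 0x0) (Nat.mul (nat_lit 43) (Nat.land i (nat_lit 511)))) (nat_lit 8796093022207)
noncomputable def MR_452 (i : Nat) : Nat := Nat.land (Nat.shiftRight (nat_lit 0x0) (Nat.mul (nat_lit 43) (Nat.land i (nat_lit 511)))) (nat_lit 8796093022207)
noncomputable def MR_453 (i : Nat) : Nat := Nat.land (Nat.shiftRight (nat_lit 0x0) (Nat.mul (nat_lit 43) (Nat.land i (nat_lit 511)))) (nat_lit 8796093022207)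
noncomputable def MR_454 (i : Nat) : Nat := Nat.land (Nat.shiftRight (nat_lit 0x0) (Nat.mul (nat_lit 43) (Nat.land i (nat_lit 511)))) (nat_lit 8796093022207)
noncomputable def MR_455 (i : Nat) : Nat := Nat.land (Nat.shiftRight (nat_lit 0x0) (Nat.mul (nat_lit 43) (Nat.land i (nat_lit 511)))) (nat_lit 8796093022207)
noncomputable def MR_456 (i : Nat) : Nat := Nat.land (Nat.shiftRight (nat_lit 0x0) (Nat.mul (nat_lit 43) (Nat.land i (nat_lit 511)))) (nat_lit 8796093022207)
noncomputable def MR_457 (i : Nat) : Nat := Nat.land (Nat.shiftRight (nat_lit 0x0) (Nat.mul (nat_lit 43) (Nat.land i (nat_lit 511)))) (nat_lit 8796093022207)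
noncomputable def MR_458 (i : Nat) : Nat := Nat.land (Nat.shiftRight (nat_lit 0x0) (Nat.mul (nat_lit 43) (Nat.land i (nat_lit 511)))) (nat_lit 8796093022207)
noncomputable def MR_459 (i : Nat) : Nat := Nat.land (Nat.shiftRight (nat_lit 0x0) (Nat.mul (nat_lit 43) (Nat.land i (nat_lit 511)))) (nat_lit 8796093022207)
noncomputable def MR_460 (i : Nat) : Nat := Nat.land (Nat.shiftRight (nat_lit 0x0) (Nat.mul (nat_lit 43) (Nat.land i (nat_lit 511)))) (nat_lit 8796093022207)
noncomputable def MR_461 (i : Nat) : Nat := Nat.land (Nat.shiftRight (nat_lit 0x0) (Nat.mul (nat_lit 43) (Nat.land i (nat_lit 511)))) (nat_lit 8796093022207)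
noncomputable def MR_462 (i : Nat) : Nat := Nat.land (Nat.shiftRight (nat_lit 0x0) (Nat.mul (nat_lit 43) (Nat.land i (nat_lit 511)))) (nat_lit 8796093022207)
noncomputable def MR_463 (i : Nat) : Nat := Nat.land (Nat.shiftRight (nat_lit 0x0) (Nat.mul (nat_lit 43) (Nat.land i (nat_lit 511)))) (nat_lit 8796093022207)
noncomputable def MR_464 (i : Nat) : Nat := Nat.land (Nat.shiftRight (nat_lit 0x0) (Nat.mul (nat_lit 43) (Nat.land i (nat_lit 511)))) (nat_lit 8796093022207)
noncomputable def MR_465 (i : Nat) : Nat := Nat.land (Nat.shiftRight (nat_lit 0x0) (Nat.mul (nat_lit 43) (Nat.land i (nat_lit 511)))) (nat_lit 8796093022207)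
noncomputable def MR_466 (i : Nat) : Nat := Nat.land (Nat.shiftRight (nat_lit 0x0) (Nat.mul (nat_lit 43) (Nat.land i (nat_lit 511)))) (nat_lit 8796093022207)
noncomputable def MR_467 (i : Nat) : Nat := Nat.land (Nat.shiftRight (nat_lit 0x0) (Nat.mul (nat_lit 43) (Nat.land i (nat_lit 511)))) (nat_lit 8796093022207)
noncomputable def MR_468 (i : Nat) : Nat := Nat.land (Nat.shiftRight (nat_lit 0x0) (Nat.mul (nat_lit 43) (Nat.land i (nat_lit 511)))) (nat_lit 8796093022207)
noncomputable def MR_469 (i : Nat) : Nat := Nat.land (Nat.shiftRight (nat_lit 0x0) (Nat.mul (nat_lit 43) (Nat.land i (nat_lit 511)))) (nat_lit 8796093022207)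
noncomputable def MR_470 (i : Nat) : Nat := Nat.land (Nat.shiftRight (nat_lit 0x0) (Nat.mul (nat_lit 43) (Nat.land i (nat_lit 511)))) (nat_lit 8796093022207)
noncomputable def MR_471 (i : Nat) : Nat := Nat.land (Nat.shiftRight (nat_lit 0x0) (Nat.mul (nat_lit 43) (Nat.land i (nat_lit 511)))) (nat_lit 8796093022207)
noncomputable def MR_472 (i : Nat) : Nat := Nat.land (Nat.shiftRight (nat_lit 0x0) (Nat.mul (nat_lit 43) (Nat.land i (nat_lit 511)))) (nat_lit 8796093022207)
noncomputable def MR_473 (i : Nat) : Nat := Nat.land (Nat.shiftRight (nat_lit 0x0) (Nat.mul (nat_lit 43) (Nat.land i (nat_lit 511)))) (nat_lit 8796093022207)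
noncomputable def MR_474 (i : Nat) : Nat := Nat.land (Nat.shiftRight (nat_lit 0x0) (Nat.mul (nat_lit 43) (Nat.land i (nat_lit 511)))) (nat_lit 8796093022207)
noncomputable def MR_475 (i : Nat) : Nat := Nat.land (Nat.shiftRight (nat_lit 0x0) (Nat.mul (nat_lit 43) (Nat.land i (nat_lit 511)))) (nat_lit 8796093022207)
noncomputable def MR_476 (i : Nat) : Nat := Nat.land (Nat.shiftRight (nat_lit 0x0) (Nat.mul (nat_lit 43) (Nat.land i (nat_lit 511)))) (nat_lit 8796093022207)
noncomputable def MR_477 (i : Nat) : Nat := Nat.land (Nat.shiftRight (nat_lit 0x0) (Nat.mul (nat_lit 43) (Nat.land i (nat_lit 511)))) (nat_lit 8796093022207)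
noncomputable def MR_478 (i : Nat) : Nat := Nat.land (Nat.shiftRight (nat_lit 0x0) (Nat.mul (nat_lit 43) (Nat.land i (nat_lit 511)))) (nat_lit 8796093022207)
noncomputable def MR_479 (i : Nat) : Nat := Nat.land (Nat.shiftRight (nat_lit 0x0) (Nat.mul (nat_lit 43) (Nat.land i (nat_lit 511)))) (nat_lit 8796093022207)
noncomputable def MR_480 (i : Nat) : Nat := Nat.land (Nat.shiftRight (nat_lit 0x0) (Nat.mul (nat_lit 43) (Nat.land i (nat_lit 511)))) (nat_lit 8796093022207)
noncomputable def MR_481 (i : Nat) : Nat := Nat.land (Nat.shiftRight (nat_lit 0x0) (Nat.mul (nat_lit 43) (Nat.land i (nat_lit 511)))) (nat_lit 8796093022207)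
noncomputable def MR_482 (i : Nat) : Nat := Nat.land (Nat.shiftRight (nat_lit 0x0) (Nat.mul (nat_lit 43) (Nat.land i (nat_lit 511)))) (nat_lit 8796093022207)
noncomputable def MR_483 (i : Nat) : Nat := Nat.land (Nat.shiftRight (nat_lit 0x0) (Nat.mul (nat_lit 43) (Nat.land i (nat_lit 511)))) (nat_lit 8796093022207)
noncomputable def MR_484 (i : Nat) : Nat := Nat.land (Nat.shiftRight (nat_lit 0x0) (Nat.mul (nat_lit 43) (Nat.land i (nat_lit 511)))) (nat_lit 8796093022207)
noncomputable def MR_485 (i : Nat) : Nat := Nat.land (Nat.shiftRight (nat_lit 0x0) (Nat.mul (nat_lit 43) (Nat.land i (nat_lit 511)))) (nat_lit 8796093022207)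
noncomputable def MR_486 (i : Nat) : Nat := Nat.land (Nat.shiftRight (nat_lit 0x0) (Nat.mul (nat_lit 43) (Nat.land i (nat_lit 511)))) (nat_lit 8796093022207)
noncomputable def MR_487 (i : Nat) : Nat := Nat.land (Nat.shiftRight (nat_lit 0x0) (Nat.mul (nat_lit 43) (Nat.land i (nat_lit 511)))) (nat_lit 8796093022207)
noncomputable def MR_488 (i : Nat) : Nat := Nat.land (Nat.shiftRight (nat_lit 0x0) (Nat.mul (nat_lit 43) (Nat.land i (nat_lit 511)))) (nat_lit 8796093022207)
noncomputable def MR_489 (i : Nat) : Nat := Nat.land (Nat.shiftRight (nat_lit 0x0) (Nat.mul (nat_lit 43) (Nat.land i (nat_lit 511)))) (nat_lit 8796093022207)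
noncomputable def MR_490 (i : Nat) : Nat := Nat.land (Nat.shiftRight (nat_lit 0x0) (Nat.mul (nat_lit 43) (Nat.land i (nat_lit 511)))) (nat_lit 8796093022207)
noncomputable def MR_491 (i : Nat) : Nat := Nat.land (Nat.shiftRight (nat_lit 0x0) (Nat.mul (nat_lit 43) (Nat.land i (nat_lit 511)))) (nat_lit 8796093022207)
noncomputable def MR_492 (i : Nat) : Nat := Nat.land (Nat.shiftRight (nat_lit 0x0) (Nat.mul (nat_lit 43) (Nat.land i (nat_lit 511)))) (nat_lit 8796093022207)
noncomputable def MR_493 (i : Nat) : Nat := Nat.land (Nat.shiftRight (nat_lit 0x0) (Nat.mul (nat_lit 43) (Nat.land i (nat_lit 511)))) (nat_lit 8796093022207)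
noncomputable def MR_494 (i : Nat) : Nat := Nat.land (Nat.shiftRight (nat_lit 0x0) (Nat.mul (nat_lit 43) (Nat.land i (nat_lit 511)))) (nat_lit 8796093022207)
noncomputable def MR_495 (i : Nat) : Nat := Nat.land (Nat.shiftRight (nat_lit 0x0) (Nat.mul (nat_lit 43) (Nat.land i (nat_lit 511)))) (nat_lit 8796093022207)
noncomputable def MR_496 (i : Nat) : Nat := Nat.land (Nat.shiftRight (nat_lit 0x0) (Nat.mul (nat_lit 43) (Nat.land i (nat_lit 511)))) (nat_lit 8796093022207)
noncomputable def MR_497 (i : Nat) : Nat := Nat.land (Nat.shiftRight (nat_lit 0x0) (Nat.mul (nat_lit 43) (Nat.land i (nat_lit 511)))) (nat_lit 8796093022207)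
noncomputable def MR_498 (i : Nat) : Nat := Nat.land (Nat.shiftRight (nat_lit 0x0) (Nat.mul (nat_lit 43) (Nat.land i (nat_lit 511)))) (nat_lit 8796093022207)
noncomputable def MR_499 (i : Nat) : Nat := Nat.land (Nat.shiftRight (nat_lit 0x0) (Nat.mul (nat_lit 43) (Nat.land i (nat_lit 511)))) (nat_lit 8796093022207)
noncomputable def MR_500 (i : Nat) : Nat := Nat.land (Nat.shiftRight (nat_lit 0x0) (Nat.mul (nat_lit 43) (Nat.land i (nat_lit 511)))) (nat_lit 8796093022207)
noncomputable def MR_501 (i : Nat) : Nat := Nat.land (Nat.shiftRight (nat_lit 0x0) (Nat.mul (nat_lit 43) (Nat.land i (nat_lit 511)))) (nat_lit 8796093022207)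
noncomputable def MR_502 (i : Nat) : Nat := Nat.land (Nat.shiftRight (nat_lit 0x0) (Nat.mul (nat_lit 43) (Nat.land i (nat_lit 511)))) (nat_lit 8796093022207)
noncomputable def MR_503 (i : Nat) : Nat := Nat.land (Nat.shiftRight (nat_lit 0x0) (Nat.mul (nat_lit 43) (Nat.land i (nat_lit 511)))) (nat_lit 8796093022207)
noncomputable def MR_504 (i : Nat) : Nat := Nat.land (Nat.shiftRight (nat_lit 0x0) (Nat.mul (nat_lit 43) (Nat.land i (nat_lit 511)))) (nat_lit 8796093022207)
noncomputable def MR_505 (i : Nat) : Nat := Nat.land (Nat.shiftRight (nat_lit 0x0) (Nat.mul (nat_lit 43) (Nat.land i (nat_lit 511)))) (nat_lit 8796093022207)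
noncomputable def MR_506 (i : Nat) : Nat := Nat.land (Nat.shiftRight (nat_lit 0x0) (Nat.mul (nat_lit 43) (Nat.land i (nat_lit 511)))) (nat_lit 8796093022207)
noncomputable def MR_507 (i : Nat) : Nat := Nat.land (Nat.shiftRight (nat_lit 0x0) (Nat.mul (nat_lit 43) (Nat.land i (nat_lit 511)))) (nat_lit 8796093022207)
noncomputable def MR_508 (i : Nat) : Nat := Nat.land (Nat.shiftRight (nat_lit 0x0) (Nat.mul (nat_lit 43) (Nat.land i (nat_lit 511)))) (nat_lit 8796093022207)
noncomputable def MR_509 (i : Nat) : Nat := Nat.land (Nat.shiftRight (nat_lit 0x0) (Nat.mul (nat_lit 43) (Nat.land i (nat_lit 511)))) (nat_lit 8796093022207)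
noncomputable def MR_510 (i : Nat) : Nat := Nat.land (Nat.shiftRight (nat_lit 0x0) (Nat.mul (nat_lit 43) (Nat.land i (nat_lit 511)))) (nat_lit 8796093022207)
noncomputable def MR_511 (i : Nat) : Nat := Nat.land (Nat.shiftRight (nat_lit 0x0) (Nat.mul (nat_lit 43) (Nat.land i (nat_lit 511)))) (nat_lit 8796093022207)
noncomputable def MR_512 (i : Nat) : Nat := Nat.land (Nat.shiftRight (nat_lit 0x0) (Nat.mul (nat_lit 43) (Nat.land i (nat_lit 511)))) (nat_lit 8796093022207)
noncomputable def MR_513 (i : Nat) : Nat := Nat.land (Nat.shiftRight (nat_lit 0x0) (Nat.mul (nat_lit 43) (Nat.land i (nat_lit 511)))) (nat_lit 8796093022207)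
noncomputable def MR_514 (i : Nat) : Nat := Nat.land (Nat.shiftRight (nat_lit 0x0) (Nat.mul (nat_lit 43) (Nat.land i (nat_lit 511)))) (nat_lit 8796093022207)
noncomputable def MR_515 (i : Nat) : Nat := Nat.land (Nat.shiftRight (nat_lit 0x0) (Nat.mul (nat_lit 43) (Nat.land i (nat_lit 511)))) (nat_lit 8796093022207)
noncomputable def MR_516 (i : Nat) : Nat := Nat.land (Nat.shiftRight (nat_lit 0x0) (Nat.mul (nat_lit 43) (Nat.land i (nat_lit 511)))) (nat_lit 8796093022207)
noncomputable def MR_517 (i : Nat) : Nat := Nat.land (Nat.shiftRight (nat_lit 0x0) (Nat.mul (nat_lit 43) (Nat.land i (nat_lit 511)))) (nat_lit 8796093022207)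
noncomputable def MR_518 (i : Nat) : Nat := Nat.land (Nat.shiftRight (nat_lit 0x0) (Nat.mul (nat_lit 43) (Nat.land i (nat_lit 511)))) (nat_lit 8796093022207)
noncomputable def MR_519 (i : Nat) : Nat := Nat.land (Nat.shiftRight (nat_lit 0x0) (Nat.mul (nat_lit 43) (Nat.land i (nat_lit 511)))) (nat_lit 8796093022207)
noncomputable def MR_520 (i : Nat) : Nat := Nat.land (Nat.shiftRight (nat_lit 0x0) (Nat.mul (nat_lit 43) (Nat.land i (nat_lit 511)))) (nat_lit 8796093022207)
noncomputable def MR_521 (i : Nat) : Nat := Nat.land (Nat.shiftRight (nat_lit 0x0) (Nat.mul (nat_lit 43) (Nat.land i (nat_lit 511)))) (nat_lit 8796093022207)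
noncomputable def MR_522 (i : Nat) : Nat := Nat.land (Nat.shiftRight (nat_lit 0x0) (Nat.mul (nat_lit 43) (Nat.land i (nat_lit 511)))) (nat_lit 8796093022207)
noncomputable def MR_523 (i : Nat) : Nat := Nat.land (Nat.shiftRight (nat_lit 0x0) (Nat.mul (nat_lit 43) (Nat.land i (nat_lit 511)))) (nat_lit 8796093022207)
noncomputable def MR_524 (i : Nat) : Nat := Nat.land (Nat.shiftRight (nat_lit 0x0) (Nat.mul (nat_lit 43) (Nat.land i (nat_lit 511)))) (nat_lit 8796093022207)
noncomputable def MR_525 (i : Nat) : Nat := Nat.land (Nat.shiftRight (nat_lit 0x0) (Nat.mul (nat_lit 43) (Nat.land i (nat_lit 511)))) (nat_lit 8796093022207)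
noncomputable def MR_526 (i : Nat) : Nat := Nat.land (Nat.shiftRight (nat_lit 0x0) (Nat.mul (nat_lit 43) (Nat.land i (nat_lit 511)))) (nat_lit 8796093022207)
noncomputable def MR_527 (i : Nat) : Nat := Nat.land (Nat.shiftRight (nat_lit 0x0) (Nat.mul (nat_lit 43) (Nat.land i (nat_lit 511)))) (nat_lit 8796093022207)
noncomputable def MR_528 (i : Nat) : Nat := Nat.land (Nat.shiftRight (nat_lit 0x0) (Nat.mul (nat_lit 43) (Nat.land i (nat_lit 511)))) (nat_lit 8796093022207)
noncomputable def MR_529 (i : Nat) : Nat := Nat.land (Nat.shiftRight (nat_lit 0x0) (Nat.mul (nat_lit 43) (Nat.land i (nat_lit 511)))) (nat_lit 8796093022207)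
noncomputable def MR_530 (i : Nat) : Nat := Nat.land (Nat.shiftRight (nat_lit 0x0) (Nat.mul (nat_lit 43) (Nat.land i (nat_lit 511)))) (nat_lit 8796093022207)
noncomputable def MR_531 (i : Nat) : Nat := Nat.land (Nat.shiftRight (nat_lit 0x0) (Nat.mul (nat_lit 43) (Nat.land i (nat_lit 511)))) (nat_lit 8796093022207)
noncomputable def MR_532 (i : Nat) : Nat := Nat.land (Nat.shiftRight (nat_lit 0x0) (Nat.mul (nat_lit 43) (Nat.land i (nat_lit 511)))) (nat_lit 8796093022207)
noncomputable def MR_533 (i : Nat) : Nat := Nat.land (Nat.shiftRight (nat_lit 0x0) (Nat.mul (nat_lit 43) (Nat.land i (nat_lit 511)))) (nat_lit 8796093022207)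
noncomputable def MR_534 (i : Nat) : Nat := Nat.land (Nat.shiftRight (nat_lit 0x0) (Nat.mul (nat_lit 43) (Nat.land i (nat_lit 511)))) (nat_lit 8796093022207)
noncomputable def MR_535 (i : Nat) : Nat := Nat.land (Nat.shiftRight (nat_lit 0x0) (Nat.mul (nat_lit 43) (Nat.land i (nat_lit 511)))) (nat_lit 8796093022207)
noncomputable def MR_536 (i : Nat) : Nat := Nat.land (Nat.shiftRight (nat_lit 0x0) (Nat.mul (nat_lit 43) (Nat.land i (nat_lit 511)))) (nat_lit 8796093022207)
noncomputable def MR_537 (i : Nat) : Nat := Nat.land (Nat.shiftRight (nat_lit 0x0) (Nat.mul (nat_lit 43) (Nat.land i (nat_lit 511)))) (nat_lit 8796093022207)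
noncomputable def MR_538 (i : Nat) : Nat := Nat.land (Nat.shiftRight (nat_lit 0x0) (Nat.mul (nat_lit 43) (Nat.land i (nat_lit 511)))) (nat_lit 8796093022207)
noncomputable def MR_539 (i : Nat) : Nat := Nat.land (Nat.shiftRight (nat_lit 0x0) (Nat.mul (nat_lit 43) (Nat.land i (nat_lit 511)))) (nat_lit 8796093022207)
noncomputable def MR_540 (i : Nat) : Nat := Nat.land (Nat.shiftRight (nat_lit 0x0) (Nat.mul (nat_lit 43) (Nat.land i (nat_lit 511)))) (nat_lit 8796093022207)
noncomputable def MR_541 (i : Nat) : Nat := Nat.land (Nat.shiftRight (nat_lit 0x0) (Nat.mul (nat_lit 43) (Nat.land i (nat_lit 511)))) (nat_lit 8796093022207)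
noncomputable def MR_542 (i : Nat) : Nat := Nat.land (Nat.shiftRight (nat_lit 0x0) (Nat.mul (nat_lit 43) (Nat.land i (nat_lit 511)))) (nat_lit 8796093022207)
noncomputable def MR_543 (i : Nat) : Nat := Nat.land (Nat.shiftRight (nat_lit 0x0) (Nat.mul (nat_lit 43) (Nat.land i (nat_lit 511)))) (nat_lit 8796093022207)
noncomputable def MR_544 (i : Nat) : Nat := Nat.land (Nat.shiftRight (nat_lit 0x0) (Nat.mul (nat_lit 43) (Nat.land i (nat_lit 511)))) (nat_lit 8796093022207)
noncomputable def MR_545 (i : Nat) : Nat := Nat.land (Nat.shiftRight (nat_lit 0x0) (Nat.mul (nat_lit 43) (Nat.land i (nat_lit 511)))) (nat_lit 8796093022207)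
noncomputable def MR_546 (i : Nat) : Nat := Nat.land (Nat.shiftRight (nat_lit 0x0) (Nat.mul (nat_lit 43) (Nat.land i (nat_lit 511)))) (nat_lit 8796093022207)
noncomputable def MR_547 (i : Nat) : Nat := Nat.land (Nat.shiftRight (nat_lit 0x0) (Nat.mul (nat_lit 43) (Nat.land i (nat_lit 511)))) (nat_lit 8796093022207)
noncomputable def MR_548 (i : Nat) : Nat := Nat.land (Nat.shiftRight (nat_lit 0x0) (Nat.mul (nat_lit 43) (Nat.land i (nat_lit 511)))) (nat_lit 8796093022207)
noncomputable def MR_549 (i : Nat) : Nat := Nat.land (Nat.shiftRight (nat_lit 0x0) (Nat.mul (nat_lit 43) (Nat.land i (nat_lit 511)))) (nat_lit 8796093022207)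
noncomputable def MR_550 (i : Nat) : Nat := Nat.land (Nat.shiftRight (nat_lit 0x0) (Nat.mul (nat_lit 43) (Nat.land i (nat_lit 511)))) (nat_lit 8796093022207)
noncomputable def MR_551 (i : Nat) : Nat := Nat.land (Nat.shiftRight (nat_lit 0x0) (Nat.mul (nat_lit 43) (Nat.land i (nat_lit 511)))) (nat_lit 8796093022207)
noncomputable def MR_552 (i : Nat) : Nat := Nat.land (Nat.shiftRight (nat_lit 0x0) (Nat.mul (nat_lit 43) (Nat.land i (nat_lit 511)))) (nat_lit 8796093022207)
noncomputable def MR_553 (i : Nat) : Nat := Nat.land (Nat.shiftRight (nat_lit 0x0) (Nat.mul (nat_lit 43) (Nat.land i (nat_lit 511)))) (nat_lit 8796093022207)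
noncomputable def MR_554 (i : Nat) : Nat := Nat.land (Nat.shiftRight (nat_lit 0x0) (Nat.mul (nat_lit 43) (Nat.land i (nat_lit 511)))) (nat_lit 8796093022207)
noncomputable def MR_555 (i : Nat) : Nat := Nat.land (Nat.shiftRight (nat_lit 0x0) (Nat.mul (nat_lit 43) (Nat.land i (nat_lit 511)))) (nat_lit 8796093022207)
noncomputable def MR_556 (i : Nat) : Nat := Nat.land (Nat.shiftRight (nat_lit 0x0) (Nat.mul (nat_lit 43) (Nat.land i (nat_lit 511)))) (nat_lit 8796093022207)
noncomputable def MR_557 (i : Nat) : Nat := Nat.land (Nat.shiftRight (nat_lit 0x0) (Nat.mul (nat_lit 43) (Nat.land i (nat_lit 511)))) (nat_lit 8796093022207)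
noncomputable def MR_558 (i : Nat) : Nat := Nat.land (Nat.shiftRight (nat_lit 0x0) (Nat.mul (nat_lit 43) (Nat.land i (nat_lit 511)))) (nat_lit 8796093022207)
noncomputable def MR_559 (i : Nat) : Nat := Nat.land (Nat.shiftRight (nat_lit 0x0) (Nat.mul (nat_lit 43) (Nat.land i (nat_lit 511)))) (nat_lit 8796093022207)
noncomputable def MR_560 (i : Nat) : Nat := Nat.land (Nat.shiftRight (nat_lit 0x0) (Nat.mul (nat_lit 43) (Nat.land i (nat_lit 511)))) (nat_lit 8796093022207)
noncomputable def MR_561 (i : Nat) : Nat := Nat.land (Nat.shiftRight (nat_lit 0x0) (Nat.mul (nat_lit 43) (Nat.land i (nat_lit 511)))) (nat_lit 8796093022207)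
noncomputable def MR_562 (i : Nat) : Nat := Nat.land (Nat.shiftRight (nat_lit 0x0) (Nat.mul (nat_lit 43) (Nat.land i (nat_lit 511)))) (nat_lit 8796093022207)
noncomputable def MR_563 (i : Nat) : Nat := Nat.land (Nat.shiftRight (nat_lit 0x0) (Nat.mul (nat_lit 43) (Nat.land i (nat_lit 511)))) (nat_lit 8796093022207)
noncomputable def MR_564 (i : Nat) : Nat := Nat.land (Nat.shiftRight (nat_lit 0x0) (Nat.mul (nat_lit 43) (Nat.land i (nat_lit 511)))) (nat_lit 8796093022207)
noncomputable def MR_565 (i : Nat) : Nat := Nat.land (Nat.shiftRight (nat_lit 0x0) (Nat.mul (nat_lit 43) (Nat.land i (nat_lit 511)))) (nat_lit 8796093022207)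
noncomputable def MR_566 (i : Nat) : Nat := Nat.land (Nat.shiftRight (nat_lit 0x0) (Nat.mul (nat_lit 43) (Nat.land i (nat_lit 511)))) (nat_lit 8796093022207)
noncomputable def MR_567 (i : Nat) : Nat := Nat.land (Nat.shiftRight (nat_lit 0x0) (Nat.mul (nat_lit 43) (Nat.land i (nat_lit 511)))) (nat_lit 8796093022207)
noncomputable def MR_568 (i : Nat) : Nat := Nat.land (Nat.shiftRight (nat_lit 0x0) (Nat.mul (nat_lit 43) (Nat.land i (nat_lit 511)))) (nat_lit 8796093022207)
noncomputable def MR_569 (i : Nat) : Nat := Nat.land (Nat.shiftRight (nat_lit 0x0) (Nat.mul (nat_lit 43) (Nat.land i (nat_lit 511)))) (nat_lit 8796093022207)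
noncomputable def MR_570 (i : Nat) : Nat := Nat.land (Nat.shiftRight (nat_lit 0x0) (Nat.mul (nat_lit 43) (Nat.land i (nat_lit 511)))) (nat_lit 8796093022207)
noncomputable def MR_571 (i : Nat) : Nat := Nat.land (Nat.shiftRight (nat_lit 0x0) (Nat.mul (nat_lit 43) (Nat.land i (nat_lit 511)))) (nat_lit 8796093022207)
noncomputable def MR_572 (i : Nat) : Nat := Nat.land (Nat.shiftRight (nat_lit 0x0) (Nat.mul (nat_lit 43) (Nat.land i (nat_lit 511)))) (nat_lit 8796093022207)
noncomputable def MR_573 (i : Nat) : Nat := Nat.land (Nat.shiftRight (nat_lit 0x0) (Nat.mul (nat_lit 43) (Nat.land i (nat_lit 511)))) (nat_lit 8796093022207)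
noncomputable def MR_574 (i : Nat) : Nat := Nat.land (Nat.shiftRight (nat_lit 0x0) (Nat.mul (nat_lit 43) (Nat.land i (nat_lit 511)))) (nat_lit 8796093022207)
noncomputable def MR_575 (i : Nat) : Nat := Nat.land (Nat.shiftRight (nat_lit 0x0) (Nat.mul (nat_lit 43) (Nat.land i (nat_lit 511)))) (nat_lit 8796093022207)
noncomputable def MR_576 (i : Nat) : Nat := Nat.land (Nat.shiftRight (nat_lit 0x0) (Nat.mul (nat_lit 43) (Nat.land i (nat_lit 511)))) (nat_lit 8796093022207)
noncomputable def MR_577 (i : Nat) : Nat := Nat.land (Nat.shiftRight (nat_lit 0x0) (Nat.mul (nat_lit 43) (Nat.land i (nat_lit 511)))) (nat_lit 8796093022207)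
noncomputable def MR_578 (i : Nat) : Nat := Nat.land (Nat.shiftRight (nat_lit 0x0) (Nat.mul (nat_lit 43) (Nat.land i (nat_lit 511)))) (nat_lit 8796093022207)
noncomputable def MR_579 (i : Nat) : Nat := Nat.land (Nat.shiftRight (nat_lit 0x0) (Nat.mul (nat_lit 43) (Nat.land i (nat_lit 511)))) (nat_lit 8796093022207)
noncomputable def MR_580 (i : Nat) : Nat := Nat.land (Nat.shiftRight (nat_lit 0x0) (Nat.mul (nat_lit 43) (Nat.land i (nat_lit 511)))) (nat_lit 8796093022207)
noncomputable def MR_581 (i : Nat) : Nat := Nat.land (Nat.shiftRight (nat_lit 0x0) (Nat.mul (nat_lit 43) (Nat.land i (nat_lit 511)))) (nat_lit 8796093022207)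
noncomputable def MR_582 (i : Nat) : Nat := Nat.land (Nat.shiftRight (nat_lit 0x0) (Nat.mul (nat_lit 43) (Nat.land i (nat_lit 511)))) (nat_lit 8796093022207)
noncomputable def MR_583 (i : Nat) : Nat := Nat.land (Nat.shiftRight (nat_lit 0x0) (Nat.mul (nat_lit 43) (Nat.land i (nat_lit 511)))) (nat_lit 8796093022207)
noncomputable def MR_584 (i : Nat) : Nat := Nat.land (Nat.shiftRight (nat_lit 0x0) (Nat.mul (nat_lit 43) (Nat.land i (nat_lit 511)))) (nat_lit 8796093022207)
noncomputable def MR_585 (i : Nat) : Nat := Nat.land (Nat.shiftRight (nat_lit 0x0) (Nat.mul (nat_lit 43) (Nat.land i (nat_lit 511)))) (nat_lit 8796093022207)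
noncomputable def MR_586 (i : Nat) : Nat := Nat.land (Nat.shiftRight (nat_lit 0x0) (Nat.mul (nat_lit 43) (Nat.land i (nat_lit 511)))) (nat_lit 8796093022207)
noncomputable def MR_587 (i : Nat) : Nat := Nat.land (Nat.shiftRight (nat_lit 0x0) (Nat.mul (nat_lit 43) (Nat.land i (nat_lit 511)))) (nat_lit 8796093022207)
noncomputable def MR_588 (i : Nat) : Nat := Nat.land (Nat.shiftRight (nat_lit 0x0) (Nat.mul (nat_lit 43) (Nat.land i (nat_lit 511)))) (nat_lit 8796093022207)
noncomputable def MR_589 (i : Nat) : Nat := Nat.land (Nat.shiftRight (nat_lit 0x0) (Nat.mul (nat_lit 43) (Nat.land i (nat_lit 511)))) (nat_lit 8796093022207)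
noncomputable def MR_590 (i : Nat) : Nat := Nat.land (Nat.shiftRight (nat_lit 0x0) (Nat.mul (nat_lit 43) (Nat.land i (nat_lit 511)))) (nat_lit 8796093022207)
noncomputable def MR_591 (i : Nat) : Nat := Nat.land (Nat.shiftRight (nat_lit 0x0) (Nat.mul (nat_lit 43) (Nat.land i (nat_lit 511)))) (nat_lit 8796093022207)
noncomputable def MR_592 (i : Nat) : Nat := Nat.land (Nat.shiftRight (nat_lit 0x0) (Nat.mul (nat_lit 43) (Nat.land i (nat_lit 511)))) (nat_lit 8796093022207)
noncomputable def MR_593 (i : Nat) : Nat := Nat.land (Nat.shiftRight (nat_lit 0x0) (Nat.mul (nat_lit 43) (Nat.land i (nat_lit 511)))) (nat_lit 8796093022207)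
noncomputable def MR_594 (i : Nat) : Nat := Nat.land (Nat.shiftRight (nat_lit 0x0) (Nat.mul (nat_lit 43) (Nat.land i (nat_lit 511)))) (nat_lit 8796093022207)
noncomputable def MR_595 (i : Nat) : Nat := Nat.land (Nat.shiftRight (nat_lit 0x0) (Nat.mul (nat_lit 43) (Nat.land i (nat_lit 511)))) (nat_lit 8796093022207)
noncomputable def MR_596 (i : Nat) : Nat := Nat.land (Nat.shiftRight (nat_lit 0x0) (Nat.mul (nat_lit 43) (Nat.land i (nat_lit 511)))) (nat_lit 8796093022207)
noncomputable def MR_597 (i : Nat) : Nat := Nat.land (Nat.shiftRight (nat_lit 0x0) (Nat.mul (nat_lit 43) (Nat.land i (nat_lit 511)))) (nat_lit 8796093022207)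
noncomputable def MR_598 (i : Nat) : Nat := Nat.land (Nat.shiftRight (nat_lit 0x0) (Nat.mul (nat_lit 43) (Nat.land i (nat_lit 511)))) (nat_lit 8796093022207)
noncomputable def MR_599 (i : Nat) : Nat := Nat.land (Nat.shiftRight (nat_lit 0x0) (Nat.mul (nat_lit 43) (Nat.land i (nat_lit 511)))) (nat_lit 8796093022207)
noncomputable def MR_600 (i : Nat) : Nat := Nat.land (Nat.shiftRight (nat_lit 0x0) (Nat.mul (nat_lit 43) (Nat.land i (nat_lit 511)))) (nat_lit 8796093022207)
noncomputable def MR_n1 (i : Nat) : Nat := Bool.rec (motive := fun _ => Nat) (MR_0 i) (MR_1 i) (Nat.ble (nat_lit 512) i)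
noncomputable def MR_n2 (i : Nat) : Nat := Bool.rec (motive := fun _ => Nat) (MR_2 i) (MR_3 i) (Nat.ble (nat_lit 1536) i)
noncomputable def MR_n3 (i : Nat) : Nat := Bool.rec (motive := fun _ => Nat) (MR_n1 i) (MR_n2 i) (Nat.ble (nat_lit 1024) i)
noncomputable def MR_n4 (i : Nat) : Nat := Bool.rec (motive := fun _ => Nat) (MR_4 i) (MR_5 i) (Nat.ble (nat_lit 2560) i)
noncomputable def MR_n5 (i : Nat) : Nat := Bool.rec (motive := fun _ => Nat) (MR_6 i) (MR_7 i) (Nat.ble (nat_lit 3584) i)
noncomputable def MR_n6 (i : Nat) : Nat := Bool.rec (motive := fun _ => Nat) (MR_n4 i) (MR_n5 i) (Nat.ble (nat_lit 3072) i)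
noncomputable def MR_n7 (i : Nat) : Nat := Bool.rec (motive := fun _ => Nat) (MR_n3 i) (MR_n6 i) (Nat.ble (nat_lit 2048) i)
noncomputable def MR_n8 (i : Nat) : Nat := Bool.rec (motive := fun _ => Nat) (MR_8 i) (MR_9 i) (Nat.ble (nat_lit 4608) i)
noncomputable def MR_n9 (i : Nat) : Nat := Bool.rec (motive := fun _ => Nat) (MR_10 i) (MR_11 i) (Nat.ble (nat_lit 5632) i)
noncomputable def MR_n10 (i : Nat) : Nat := Bool.rec (motive := fun _ => Nat) (MR_n8 i) (MR_n9 i) (Nat.ble (nat_lit 5120) i)
noncomputable def MR_n11 (i : Nat) : Nat := Bool.rec (motive := fun _ => Nat) (MR_12 i) (MR_13 i) (Nat.ble (nat_lit 6656) i)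
noncomputable def MR_n12 (i : Nat) : Nat := Bool.rec (motive := fun _ => Nat) (MR_14 i) (MR_15 i) (Nat.ble (nat_lit 7680) i)
noncomputable def MR_n13 (i : Nat) : Nat := Bool.rec (motive := fun _ => Nat) (MR_n11 i) (MR_n12 i) (Nat.ble (nat_lit 7168) i)
noncomputable def MR_n14 (i : Nat) : Nat := Bool.rec (motive := fun _ => Nat) (MR_n10 i) (MR_n13 i) (Nat.ble (nat_lit 6144) i)
noncomputable def MR_n15 (i : Nat) : Nat := Bool.rec (motive := fun _ => Nat) (MR_n7 i) (MR_n14 i) (Nat.ble (nat_lit 4096) i)
noncomputable def MR_n16 (i : Nat) : Nat := Bool.rec (motive := fun _ => Nat) (MR_16 i) (MR_17 i) (Nat.ble (nat_lit 8704) i)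
noncomputable def MR_n17 (i : Nat) : Nat := Bool.rec (motive := fun _ => Nat) (MR_18 i) (MR_19 i) (Nat.ble (nat_lit 9728) i)
noncomputable def MR_n18 (i : Nat) : Nat := Bool.rec (motive := fun _ => Nat) (MR_n16 i) (MR_n17 i) (Nat.ble (nat_lit 9216) i)
noncomputable def MR_n19 (i : Nat) : Nat := Bool.rec (motive := fun _ => Nat) (MR_20 i) (MR_21 i) (Nat.ble (nat_lit 10752) i)
noncomputable def MR_n20 (i : Nat) : Nat := Bool.rec (motive := fun _ => Nat) (MR_22 i) (MR_23 i) (Nat.ble (nat_lit 11776) i)
noncomputable def MR_n21 (i : Nat) : Nat := Bool.rec (motive := fun _ => Nat) (MR_n19 i) (MR_n20 i) (Nat.ble (nat_lit 11264) i)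
noncomputable def MR_n22 (i : Nat) : Nat := Bool.rec (motive := fun _ => Nat) (MR_n18 i) (MR_n21 i) (Nat.ble (nat_lit 10240) i)
noncomputable def MR_n23 (i : Nat) : Nat := Bool.rec (motive := fun _ => Nat) (MR_24 i) (MR_25 i) (Nat.ble (nat_lit 12800) i)
noncomputable def MR_n24 (i : Nat) : Nat := Bool.rec (motive := fun _ => Nat) (MR_26 i) (MR_27 i) (Nat.ble (nat_lit 13824) i)
noncomputable def MR_n25 (i : Nat) : Nat := Bool.rec (motive := fun _ => Nat) (MR_n23 i) (MR_n24 i) (Nat.ble (nat_lit 13312) i)
noncomputable def MR_n26 (i : Nat) : Nat := Bool.rec (motive := fun _ => Nat) (MR_28 i) (MR_29 i) (Nat.ble (nat_lit 14848) i)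
noncomputable def MR_n27 (i : Nat) : Nat := Bool.rec (motive := fun _ => Nat) (MR_30 i) (MR_31 i) (Nat.ble (nat_lit 15872) i)
noncomputable def MR_n28 (i : Nat) : Nat := Bool.rec (motive := fun _ => Nat) (MR_n26 i) (MR_n27 i) (Nat.ble (nat_lit 15360) i)
noncomputable def MR_n29 (i : Nat) : Nat := Bool.rec (motive := fun _ => Nat) (MR_n25 i) (MR_n28 i) (Nat.ble (nat_lit 14336) i)
noncomputable def MR_n30 (i : Nat) : Nat := Bool.rec (motive := fun _ => Nat) (MR_n22 i) (MR_n29 i) (Nat.ble (nat_lit 12288) i)
noncomputable def MR_n31 (i : Nat) : Nat := Bool.rec (motive := fun _ => Nat) (MR_n15 i) (MR_n30 i) (Nat.ble (nat_lit 8192) i)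
noncomputable def MR_n32 (i : Nat) : Nat := Bool.rec (motive := fun _ => Nat) (MR_32 i) (MR_33 i) (Nat.ble (nat_lit 16896) i)
noncomputable def MR_n33 (i : Nat) : Nat := Bool.rec (motive := fun _ => Nat) (MR_34 i) (MR_35 i) (Nat.ble (nat_lit 17920) i)
noncomputable def MR_n34 (i : Nat) : Nat := Bool.rec (motive := fun _ => Nat) (MR_n32 i) (MR_n33 i) (Nat.ble (nat_lit 17408) i)
noncomputable def MR_n35 (i : Nat) : Nat := Bool.rec (motive := fun _ => Nat) (MR_36 i) (MR_37 i) (Nat.ble (nat_lit 18944) i)
noncomputable def MR_n36 (i : Nat) : Nat := Bool.rec (motive := fun _ => Nat) (MR_38 i) (MR_39 i) (Nat.ble (nat_lit 19968) i)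
noncomputable def MR_n37 (i : Nat) : Nat := Bool.rec (motive := fun _ => Nat) (MR_n35 i) (MR_n36 i) (Nat.ble (nat_lit 19456) i)
noncomputable def MR_n38 (i : Nat) : Nat := Bool.rec (motive := fun _ => Nat) (MR_n34 i) (MR_n37 i) (Nat.ble (nat_lit 18432) i)
noncomputable def MR_n39 (i : Nat) : Nat := Bool.rec (motive := fun _ => Nat) (MR_40 i) (MR_41 i) (Nat.ble (nat_lit 20992) i)
noncomputable def MR_n40 (i : Nat) : Nat := Bool.rec (motive := fun _ => Nat) (MR_42 i) (MR_43 i) (Nat.ble (nat_lit 22016) i)
noncomputable def MR_n41 (i : Nat) : Nat := Bool.rec (motive := fun _ => Nat) (MR_n39 i) (MR_n40 i) (Nat.ble (nat_lit 21504) i)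
noncomputable def MR_n42 (i : Nat) : Nat := Bool.rec (motive := fun _ => Nat) (MR_44 i) (MR_45 i) (Nat.ble (nat_lit 23040) i)
noncomputable def MR_n43 (i : Nat) : Nat := Bool.rec (motive := fun _ => Nat) (MR_46 i) (MR_47 i) (Nat.ble (nat_lit 24064) i)
noncomputable def MR_n44 (i : Nat) : Nat := Bool.rec (motive := fun _ => Nat) (MR_n42 i) (MR_n43 i) (Nat.ble (nat_lit 23552) i)
noncomputable def MR_n45 (i : Nat) : Nat := Bool.rec (motive := fun _ => Nat) (MR_n41 i) (MR_n44 i) (Nat.ble (nat_lit 22528) i)
noncomputable def MR_n46 (i : Nat) : Nat := Bool.rec (motive := fun _ => Nat) (MR_n38 i) (MR_n45 i) (Nat.ble (nat_lit 20480) i)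
noncomputable def MR_n47 (i : Nat) : Nat := Bool.rec (motive := fun _ => Nat) (MR_48 i) (MR_49 i) (Nat.ble (nat_lit 25088) i)
noncomputable def MR_n48 (i : Nat) : Nat := Bool.rec (motive := fun _ => Nat) (MR_50 i) (MR_51 i) (Nat.ble (nat_lit 26112) i)
noncomputable def MR_n49 (i : Nat) : Nat := Bool.rec (motive := fun _ => Nat) (MR_n47 i) (MR_n48 i) (Nat.ble (nat_lit 25600) i)
noncomputable def MR_n50 (i : Nat) : Nat := Bool.rec (motive := fun _ => Nat) (MR_52 i) (MR_53 i) (Nat.ble (nat_lit 27136) i)
noncomputable def MR_n51 (i : Nat) : Nat := Bool.rec (motive := fun _ => Nat) (MR_54 i) (MR_55 i) (Nat.ble (nat_lit 28160) i)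
noncomputable def MR_n52 (i : Nat) : Nat := Bool.rec (motive := fun _ => Nat) (MR_n50 i) (MR_n51 i) (Nat.ble (nat_lit 27648) i)
noncomputable def MR_n53 (i : Nat) : Nat := Bool.rec (motive := fun _ => Nat) (MR_n49 i) (MR_n52 i) (Nat.ble (nat_lit 26624) i)
noncomputable def MR_n54 (i : Nat) : Nat := Bool.rec (motive := fun _ => Nat) (MR_56 i) (MR_57 i) (Nat.ble (nat_lit 29184) i)
noncomputable def MR_n55 (i : Nat) : Nat := Bool.rec (motive := fun _ => Nat) (MR_58 i) (MR_59 i) (Nat.ble (nat_lit 30208) i)
noncomputable def MR_n56 (i : Nat) : Nat := Bool.rec (motive := fun _ => Nat) (MR_n54 i) (MR_n55 i) (Nat.ble (nat_lit 29696) i)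
noncomputable def MR_n57 (i : Nat) : Nat := Bool.rec (motive := fun _ => Nat) (MR_60 i) (MR_61 i) (Nat.ble (nat_lit 31232) i)
noncomputable def MR_n58 (i : Nat) : Nat := Bool.rec (motive := fun _ => Nat) (MR_62 i) (MR_63 i) (Nat.ble (nat_lit 32256) i)
noncomputable def MR_n59 (i : Nat) : Nat := Bool.rec (motive := fun _ => Nat) (MR_n57 i) (MR_n58 i) (Nat.ble (nat_lit 31744) i)
noncomputable def MR_n60 (i : Nat) : Nat := Bool.rec (motive := fun _ => Nat) (MR_n56 i) (MR_n59 i) (Nat.ble (nat_lit 30720) i)
noncomputable def MR_n61 (i : Nat) : Nat := Bool.rec (motive := fun _ => Nat) (MR_n53 i) (MR_n60 i) (Nat.ble (nat_lit 28672) i)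
noncomputable def MR_n62 (i : Nat) : Nat := Bool.rec (motive := fun _ => Nat) (MR_n46 i) (MR_n61 i) (Nat.ble (nat_lit 24576) i)
noncomputable def MR_n63 (i : Nat) : Nat := Bool.rec (motive := fun _ => Nat) (MR_n31 i) (MR_n62 i) (Nat.ble (nat_lit 16384) i)
noncomputable def MR_n64 (i : Nat) : Nat := Bool.rec (motive := fun _ => Nat) (MR_64 i) (MR_65 i) (Nat.ble (nat_lit 33280) i)
noncomputable def MR_n65 (i : Nat) : Nat := Bool.rec (motive := fun _ => Nat) (MR_66 i) (MR_67 i) (Nat.ble (nat_lit 34304) i)
noncomputable def MR_n66 (i : Nat) : Nat := Bool.rec (motive := fun _ => Nat) (MR_n64 i) (MR_n65 i) (Nat.ble (nat_lit 33792) i)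
noncomputable def MR_n67 (i : Nat) : Nat := Bool.rec (motive := fun _ => Nat) (MR_68 i) (MR_69 i) (Nat.ble (nat_lit 35328) i)
noncomputable def MR_n68 (i : Nat) : Nat := Bool.rec (motive := fun _ => Nat) (MR_70 i) (MR_71 i) (Nat.ble (nat_lit 36352) i)
noncomputable def MR_n69 (i : Nat) : Nat := Bool.rec (motive := fun _ => Nat) (MR_n67 i) (MR_n68 i) (Nat.ble (nat_lit 35840) i)
noncomputable def MR_n70 (i : Nat) : Nat := Bool.rec (motive := fun _ => Nat) (MR_n66 i) (MR_n69 i) (Nat.ble (nat_lit 34816) i)
noncomputable def MR_n71 (i : Nat) : Nat := Bool.rec (motive := fun _ => Nat) (MR_72 i) (MR_73 i) (Nat.ble (nat_lit 37376) i)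
noncomputable def MR_n72 (i : Nat) : Nat := Bool.rec (motive := fun _ => Nat) (MR_74 i) (MR_75 i) (Nat.ble (nat_lit 38400) i)
noncomputable def MR_n73 (i : Nat) : Nat := Bool.rec (motive := fun _ => Nat) (MR_n71 i) (MR_n72 i) (Nat.ble (nat_lit 37888) i)
noncomputable def MR_n74 (i : Nat) : Nat := Bool.rec (motive := fun _ => Nat) (MR_76 i) (MR_77 i) (Nat.ble (nat_lit 39424) i)
noncomputable def MR_n75 (i : Nat) : Nat := Bool.rec (motive := fun _ => Nat) (MR_78 i) (MR_79 i) (Nat.ble (nat_lit 40448) i)
noncomputable def MR_n76 (i : Nat) : Nat := Bool.rec (motive := fun _ => Nat) (MR_n74 i) (MR_n75 i) (Nat.ble (nat_lit 39936) i)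
noncomputable def MR_n77 (i : Nat) : Nat := Bool.rec (motive := fun _ => Nat) (MR_n73 i) (MR_n76 i) (Nat.ble (nat_lit 38912) i)
noncomputable def MR_n78 (i : Nat) : Nat := Bool.rec (motive := fun _ => Nat) (MR_n70 i) (MR_n77 i) (Nat.ble (nat_lit 36864) i)
noncomputable def MR_n79 (i : Nat) : Nat := Bool.rec (motive := fun _ => Nat) (MR_80 i) (MR_81 i) (Nat.ble (nat_lit 41472) i)
noncomputable def MR_n80 (i : Nat) : Nat := Bool.rec (motive := fun _ => Nat) (MR_82 i) (MR_83 i) (Nat.ble (nat_lit 42496) i)
noncomputable def MR_n81 (i : Nat) : Nat := Bool.rec (motive := fun _ => Nat) (MR_n79 i) (MR_n80 i) (Nat.ble (nat_lit 41984) i)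
noncomputable def MR_n82 (i : Nat) : Nat := Bool.rec (motive := fun _ => Nat) (MR_84 i) (MR_85 i) (Nat.ble (nat_lit 43520) i)
noncomputable def MR_n83 (i : Nat) : Nat := Bool.rec (motive := fun _ => Nat) (MR_86 i) (MR_87 i) (Nat.ble (nat_lit 44544) i)
noncomputable def MR_n84 (i : Nat) : Nat := Bool.rec (motive := fun _ => Nat) (MR_n82 i) (MR_n83 i) (Nat.ble (nat_lit 44032) i)
noncomputable def MR_n85 (i : Nat) : Nat := Bool.rec (motive := fun _ => Nat) (MR_n81 i) (MR_n84 i) (Nat.ble (nat_lit 43008) i)
noncomputable def MR_n86 (i : Nat) : Nat := Bool.rec (motive := fun _ => Nat) (MR_88 i) (MR_89 i) (Nat.ble (nat_lit 45568) i)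
noncomputable def MR_n87 (i : Nat) : Nat := Bool.rec (motive := fun _ => Nat) (MR_90 i) (MR_91 i) (Nat.ble (nat_lit 46592) i)
noncomputable def MR_n88 (i : Nat) : Nat := Bool.rec (motive := fun _ => Nat) (MR_n86 i) (MR_n87 i) (Nat.ble (nat_lit 46080) i)
noncomputable def MR_n89 (i : Nat) : Nat := Bool.rec (motive := fun _ => Nat) (MR_92 i) (MR_93 i) (Nat.ble (nat_lit 47616) i)
noncomputable def MR_n90 (i : Nat) : Nat := Bool.rec (motive := fun _ => Nat) (MR_94 i) (MR_95 i) (Nat.ble (nat_lit 48640) i)
noncomputable def MR_n91 (i : Nat) : Nat := Bool.rec (motive := fun _ => Nat) (MR_n89 i) (MR_n90 i) (Nat.ble (nat_lit 48128) i)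
noncomputable def MR_n92 (i : Nat) : Nat := Bool.rec (motive := fun _ => Nat) (MR_n88 i) (MR_n91 i) (Nat.ble (nat_lit 47104) i)
noncomputable def MR_n93 (i : Nat) : Nat := Bool.rec (motive := fun _ => Nat) (MR_n85 i) (MR_n92 i) (Nat.ble (nat_lit 45056) i)
noncomputable def MR_n94 (i : Nat) : Nat := Bool.rec (motive := fun _ => Nat) (MR_n78 i) (MR_n93 i) (Nat.ble (nat_lit 40960) i)
noncomputable def MR_n95 (i : Nat) : Nat := Bool.rec (motive := fun _ => Nat) (MR_96 i) (MR_97 i) (Nat.ble (nat_lit 49664) i)
noncomputable def MR_n96 (i : Nat) : Nat := Bool.rec (motive := fun _ => Nat) (MR_98 i) (MR_99 i) (Nat.ble (nat_lit 50688) i)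
noncomputable def MR_n97 (i : Nat) : Nat := Bool.rec (motive := fun _ => Nat) (MR_n95 i) (MR_n96 i) (Nat.ble (nat_lit 50176) i)
noncomputable def MR_n98 (i : Nat) : Nat := Bool.rec (motive := fun _ => Nat) (MR_100 i) (MR_101 i) (Nat.ble (nat_lit 51712) i)
noncomputable def MR_n99 (i : Nat) : Nat := Bool.rec (motive := fun _ => Nat) (MR_102 i) (MR_103 i) (Nat.ble (nat_lit 52736) i)
noncomputable def MR_n100 (i : Nat) : Nat := Bool.rec (motive := fun _ => Nat) (MR_n98 i) (MR_n99 i) (Nat.ble (nat_lit 52224) i)
noncomputable def MR_n101 (i : Nat) : Nat := Bool.rec (motive := fun _ => Nat) (MR_n97 i) (MR_n100 i) (Nat.ble (nat_lit 51200) i)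
noncomputable def MR_n102 (i : Nat) : Nat := Bool.rec (motive := fun _ => Nat) (MR_104 i) (MR_105 i) (Nat.ble (nat_lit 53760) i)
noncomputable def MR_n103 (i : Nat) : Nat := Bool.rec (motive := fun _ => Nat) (MR_106 i) (MR_107 i) (Nat.ble (nat_lit 54784) i)
noncomputable def MR_n104 (i : Nat) : Nat := Bool.rec (motive := fun _ => Nat) (MR_n102 i) (MR_n103 i) (Nat.ble (nat_lit 54272) i)
noncomputable def MR_n105 (i : Nat) : Nat := Bool.rec (motive := fun _ => Nat) (MR_108 i) (MR_109 i) (Nat.ble (nat_lit 55808) i)
noncomputable def MR_n106 (i : Nat) : Nat := Bool.rec (motive := fun _ => Nat) (MR_110 i) (MR_111 i) (Nat.ble (nat_lit 56832) i)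
noncomputable def MR_n107 (i : Nat) : Nat := Bool.rec (motive := fun _ => Nat) (MR_n105 i) (MR_n106 i) (Nat.ble (nat_lit 56320) i)
noncomputable def MR_n108 (i : Nat) : Nat := Bool.rec (motive := fun _ => Nat) (MR_n104 i) (MR_n107 i) (Nat.ble (nat_lit 55296) i)
noncomputable def MR_n109 (i : Nat) : Nat := Bool.rec (motive := fun _ => Nat) (MR_n101 i) (MR_n108 i) (Nat.ble (nat_lit 53248) i)
noncomputable def MR_n110 (i : Nat) : Nat := Bool.rec (motive := fun _ => Nat) (MR_112 i) (MR_113 i) (Nat.ble (nat_lit 57856) i)
noncomputable def MR_n111 (i : Nat) : Nat := Bool.rec (motive := fun _ => Nat) (MR_114 i) (MR_115 i) (Nat.ble (nat_lit 58880) i)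
noncomputable def MR_n112 (i : Nat) : Nat := Bool.rec (motive := fun _ => Nat) (MR_n110 i) (MR_n111 i) (Nat.ble (nat_lit 58368) i)
noncomputable def MR_n113 (i : Nat) : Nat := Bool.rec (motive := fun _ => Nat) (MR_116 i) (MR_117 i) (Nat.ble (nat_lit 59904) i)
noncomputable def MR_n114 (i : Nat) : Nat := Bool.rec (motive := fun _ => Nat) (MR_118 i) (MR_119 i) (Nat.ble (nat_lit 60928) i)
noncomputable def MR_n115 (i : Nat) : Nat := Bool.rec (motive := fun _ => Nat) (MR_n113 i) (MR_n114 i) (Nat.ble (nat_lit 60416) i)
noncomputable def MR_n116 (i : Nat) : Nat := Bool.rec (motive := fun _ => Nat) (MR_n112 i) (MR_n115 i) (Nat.ble (nat_lit 59392) i)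
noncomputable def MR_n117 (i : Nat) : Nat := Bool.rec (motive := fun _ => Nat) (MR_120 i) (MR_121 i) (Nat.ble (nat_lit 61952) i)
noncomputable def MR_n118 (i : Nat) : Nat := Bool.rec (motive := fun _ => Nat) (MR_122 i) (MR_123 i) (Nat.ble (nat_lit 62976) i)
noncomputable def MR_n119 (i : Nat) : Nat := Bool.rec (motive := fun _ => Nat) (MR_n117 i) (MR_n118 i) (Nat.ble (nat_lit 62464) i)
noncomputable def MR_n120 (i : Nat) : Nat := Bool.rec (motive := fun _ => Nat) (MR_124 i) (MR_125 i) (Nat.ble (nat_lit 64000) i)
noncomputable def MR_n121 (i : Nat) : Nat := Bool.rec (motive := fun _ => Nat) (MR_126 i) (MR_127 i) (Nat.ble (nat_lit 65024) i)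
noncomputable def MR_n122 (i : Nat) : Nat := Bool.rec (motive := fun _ => Nat) (MR_n120 i) (MR_n121 i) (Nat.ble (nat_lit 64512) i)
noncomputable def MR_n123 (i : Nat) : Nat := Bool.rec (motive := fun _ => Nat) (MR_n119 i) (MR_n122 i) (Nat.ble (nat_lit 63488) i)
noncomputable def MR_n124 (i : Nat) : Nat := Bool.rec (motive := fun _ => Nat) (MR_n116 i) (MR_n123 i) (Nat.ble (nat_lit 61440) i)
noncomputable def MR_n125 (i : Nat) : Nat := Bool.rec (motive := fun _ => Nat) (MR_n109 i) (MR_n124 i) (Nat.ble (nat_lit 57344) i)
noncomputable def MR_n126 (i : Nat) : Nat := Bool.rec (motive := fun _ => Nat) (MR_n94 i) (MR_n125 i) (Nat.ble (nat_lit 49152) i)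
noncomputable def MR_n127 (i : Nat) : Nat := Bool.rec (motive := fun _ => Nat) (MR_n63 i) (MR_n126 i) (Nat.ble (nat_lit 32768) i)
noncomputable def MR_n128 (i : Nat) : Nat := Bool.rec (motive := fun _ => Nat) (MR_128 i) (MR_129 i) (Nat.ble (nat_lit 66048) i)
noncomputable def MR_n129 (i : Nat) : Nat := Bool.rec (motive := fun _ => Nat) (MR_130 i) (MR_131 i) (Nat.ble (nat_lit 67072) i)
noncomputable def MR_n130 (i : Nat) : Nat := Bool.rec (motive := fun _ => Nat) (MR_n128 i) (MR_n129 i) (Nat.ble (nat_lit 66560) i)
noncomputable def MR_n131 (i : Nat) : Nat := Bool.rec (motive := fun _ => Nat) (MR_132 i) (MR_133 i) (Nat.ble (nat_lit 68096) i)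
noncomputable def MR_n132 (i : Nat) : Nat := Bool.rec (motive := fun _ => Nat) (MR_134 i) (MR_135 i) (Nat.ble (nat_lit 69120) i)
noncomputable def MR_n133 (i : Nat) : Nat := Bool.rec (motive := fun _ => Nat) (MR_n131 i) (MR_n132 i) (Nat.ble (nat_lit 68608) i)
noncomputable def MR_n134 (i : Nat) : Nat := Bool.rec (motive := fun _ => Nat) (MR_n130 i) (MR_n133 i) (Nat.ble (nat_lit 67584) i)
noncomputable def MR_n135 (i : Nat) : Nat := Bool.rec (motive := fun _ => Nat) (MR_136 i) (MR_137 i) (Nat.ble (nat_lit 70144) i)
noncomputable def MR_n136 (i : Nat) : Nat := Bool.rec (motive := fun _ => Nat) (MR_138 i) (MR_139 i) (Nat.ble (nat_lit 71168) i)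
noncomputable def MR_n137 (i : Nat) : Nat := Bool.rec (motive := fun _ => Nat) (MR_n135 i) (MR_n136 i) (Nat.ble (nat_lit 70656) i)
noncomputable def MR_n138 (i : Nat) : Nat := Bool.rec (motive := fun _ => Nat) (MR_140 i) (MR_141 i) (Nat.ble (nat_lit 72192) i)
noncomputable def MR_n139 (i : Nat) : Nat := Bool.rec (motive := fun _ => Nat) (MR_142 i) (MR_143 i) (Nat.ble (nat_lit 73216) i)
noncomputable def MR_n140 (i : Nat) : Nat := Bool.rec (motive := fun _ => Nat) (MR_n138 i) (MR_n139 i) (Nat.ble (nat_lit 72704) i)
noncomputable def MR_n141 (i : Nat) : Nat := Bool.rec (motive := fun _ => Nat) (MR_n137 i) (MR_n140 i) (Nat.ble (nat_lit 71680) i)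
noncomputable def MR_n142 (i : Nat) : Nat := Bool.rec (motive := fun _ => Nat) (MR_n134 i) (MR_n141 i) (Nat.ble (nat_lit 69632) i)
noncomputable def MR_n143 (i : Nat) : Nat := Bool.rec (motive := fun _ => Nat) (MR_144 i) (MR_145 i) (Nat.ble (nat_lit 74240) i)
noncomputable def MR_n144 (i : Nat) : Nat := Bool.rec (motive := fun _ => Nat) (MR_146 i) (MR_147 i) (Nat.ble (nat_lit 75264) i)
noncomputable def MR_n145 (i : Nat) : Nat := Bool.rec (motive := fun _ => Nat) (MR_n143 i) (MR_n144 i) (Nat.ble (nat_lit 74752) i)
noncomputable def MR_n146 (i : Nat) : Nat := Bool.rec (motive := fun _ => Nat) (MR_148 i) (MR_149 i) (Nat.ble (nat_lit 76288) i)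
noncomputable def MR_n147 (i : Nat) : Nat := Bool.rec (motive := fun _ => Nat) (MR_150 i) (MR_151 i) (Nat.ble (nat_lit 77312) i)
noncomputable def MR_n148 (i : Nat) : Nat := Bool.rec (motive := fun _ => Nat) (MR_n146 i) (MR_n147 i) (Nat.ble (nat_lit 76800) i)
noncomputable def MR_n149 (i : Nat) : Nat := Bool.rec (motive := fun _ => Nat) (MR_n145 i) (MR_n148 i) (Nat.ble (nat_lit 75776) i)
noncomputable def MR_n150 (i : Nat) : Nat := Bool.rec (motive := fun _ => Nat) (MR_152 i) (MR_153 i) (Nat.ble (nat_lit 78336) i)
noncomputable def MR_n151 (i : Nat) : Nat := Bool.rec (motive := fun _ => Nat) (MR_154 i) (MR_155 i) (Nat.ble (nat_lit 79360) i)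
noncomputable def MR_n152 (i : Nat) : Nat := Bool.rec (motive := fun _ => Nat) (MR_n150 i) (MR_n151 i) (Nat.ble (nat_lit 78848) i)
noncomputable def MR_n153 (i : Nat) : Nat := Bool.rec (motive := fun _ => Nat) (MR_156 i) (MR_157 i) (Nat.ble (nat_lit 80384) i)
noncomputable def MR_n154 (i : Nat) : Nat := Bool.rec (motive := fun _ => Nat) (MR_158 i) (MR_159 i) (Nat.ble (nat_lit 81408) i)
noncomputable def MR_n155 (i : Nat) : Nat := Bool.rec (motive := fun _ => Nat) (MR_n153 i) (MR_n154 i) (Nat.ble (nat_lit 80896) i)
noncomputable def MR_n156 (i : Nat) : Nat := Bool.rec (motive := fun _ => Nat) (MR_n152 i) (MR_n155 i) (Nat.ble (nat_lit 79872) i)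
noncomputable def MR_n157 (i : Nat) : Nat := Bool.rec (motive := fun _ => Nat) (MR_n149 i) (MR_n156 i) (Nat.ble (nat_lit 77824) i)
noncomputable def MR_n158 (i : Nat) : Nat := Bool.rec (motive := fun _ => Nat) (MR_n142 i) (MR_n157 i) (Nat.ble (nat_lit 73728) i)
noncomputable def MR_n159 (i : Nat) : Nat := Bool.rec (motive := fun _ => Nat) (MR_160 i) (MR_161 i) (Nat.ble (nat_lit 82432) i)
noncomputable def MR_n160 (i : Nat) : Nat := Bool.rec (motive := fun _ => Nat) (MR_162 i) (MR_163 i) (Nat.ble (nat_lit 83456) i)
noncomputable def MR_n161 (i : Nat) : Nat := Bool.rec (motive := fun _ => Nat) (MR_n159 i) (MR_n160 i) (Nat.ble (nat_lit 82944) i)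
noncomputable def MR_n162 (i : Nat) : Nat := Bool.rec (motive := fun _ => Nat) (MR_164 i) (MR_165 i) (Nat.ble (nat_lit 84480) i)
noncomputable def MR_n163 (i : Nat) : Nat := Bool.rec (motive := fun _ => Nat) (MR_166 i) (MR_167 i) (Nat.ble (nat_lit 85504) i)
noncomputable def MR_n164 (i : Nat) : Nat := Bool.rec (motive := fun _ => Nat) (MR_n162 i) (MR_n163 i) (Nat.ble (nat_lit 84992) i)
noncomputable def MR_n165 (i : Nat) : Nat := Bool.rec (motive := fun _ => Nat) (MR_n161 i) (MR_n164 i) (Nat.ble (nat_lit 83968) i)
noncomputable def MR_n166 (i : Nat) : Nat := Bool.rec (motive := fun _ => Nat) (MR_168 i) (MR_169 i) (Nat.ble (nat_lit 86528) i)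
noncomputable def MR_n167 (i : Nat) : Nat := Bool.rec (motive := fun _ => Nat) (MR_170 i) (MR_171 i) (Nat.ble (nat_lit 87552) i)
noncomputable def MR_n168 (i : Nat) : Nat := Bool.rec (motive := fun _ => Nat) (MR_n166 i) (MR_n167 i) (Nat.ble (nat_lit 87040) i)
noncomputable def MR_n169 (i : Nat) : Nat := Bool.rec (motive := fun _ => Nat) (MR_172 i) (MR_173 i) (Nat.ble (nat_lit 88576) i)
noncomputable def MR_n170 (i : Nat) : Nat := Bool.rec (motive := fun _ => Nat) (MR_174 i) (MR_175 i) (Nat.ble (nat_lit 89600) i)
noncomputable def MR_n171 (i : Nat) : Nat := Bool.rec (motive := fun _ => Nat) (MR_n169 i) (MR_n170 i) (Nat.ble (nat_lit 89088) i)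
noncomputable def MR_n172 (i : Nat) : Nat := Bool.rec (motive := fun _ => Nat) (MR_n168 i) (MR_n171 i) (Nat.ble (nat_lit 88064) i)
noncomputable def MR_n173 (i : Nat) : Nat := Bool.rec (motive := fun _ => Nat) (MR_n165 i) (MR_n172 i) (Nat.ble (nat_lit 86016) i)
noncomputable def MR_n174 (i : Nat) : Nat := Bool.rec (motive := fun _ => Nat) (MR_176 i) (MR_177 i) (Nat.ble (nat_lit 90624) i)
noncomputable def MR_n175 (i : Nat) : Nat := Bool.rec (motive := fun _ => Nat) (MR_178 i) (MR_179 i) (Nat.ble (nat_lit 91648) i)
noncomputable def MR_n176 (i : Nat) : Nat := Bool.rec (motive := fun _ => Nat) (MR_n174 i) (MR_n175 i) (Nat.ble (nat_lit 91136) i)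
noncomputable def MR_n177 (i : Nat) : Nat := Bool.rec (motive := fun _ => Nat) (MR_180 i) (MR_181 i) (Nat.ble (nat_lit 92672) i)
noncomputable def MR_n178 (i : Nat) : Nat := Bool.rec (motive := fun _ => Nat) (MR_182 i) (MR_183 i) (Nat.ble (nat_lit 93696) i)
noncomputable def MR_n179 (i : Nat) : Nat := Bool.rec (motive := fun _ => Nat) (MR_n177 i) (MR_n178 i) (Nat.ble (nat_lit 93184) i)
noncomputable def MR_n180 (i : Nat) : Nat := Bool.rec (motive := fun _ => Nat) (MR_n176 i) (MR_n179 i) (Nat.ble (nat_lit 92160) i)
noncomputable def MR_n181 (i : Nat) : Nat := Bool.rec (motive := fun _ => Nat) (MR_184 i) (MR_185 i) (Nat.ble (nat_lit 94720) i)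
noncomputable def MR_n182 (i : Nat) : Nat := Bool.rec (motive := fun _ => Nat) (MR_186 i) (MR_187 i) (Nat.ble (nat_lit 95744) i)
noncomputable def MR_n183 (i : Nat) : Nat := Bool.rec (motive := fun _ => Nat) (MR_n181 i) (MR_n182 i) (Nat.ble (nat_lit 95232) i)
noncomputable def MR_n184 (i : Nat) : Nat := Bool.rec (motive := fun _ => Nat) (MR_188 i) (MR_189 i) (Nat.ble (nat_lit 96768) i)
noncomputable def MR_n185 (i : Nat) : Nat := Bool.rec (motive := fun _ => Nat) (MR_190 i) (MR_191 i) (Nat.ble (nat_lit 97792) i)
noncomputable def MR_n186 (i : Nat) : Nat := Bool.rec (motive := fun _ => Nat) (MR_n184 i) (MR_n185 i) (Nat.ble (nat_lit 97280) i)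
noncomputable def MR_n187 (i : Nat) : Nat := Bool.rec (motive := fun _ => Nat) (MR_n183 i) (MR_n186 i) (Nat.ble (nat_lit 96256) i)
noncomputable def MR_n188 (i : Nat) : Nat := Bool.rec (motive := fun _ => Nat) (MR_n180 i) (MR_n187 i) (Nat.ble (nat_lit 94208) i)
noncomputable def MR_n189 (i : Nat) : Nat := Bool.rec (motive := fun _ => Nat) (MR_n173 i) (MR_n188 i) (Nat.ble (nat_lit 90112) i)
noncomputable def MR_n190 (i : Nat) : Nat := Bool.rec (motive := fun _ => Nat) (MR_n158 i) (MR_n189 i) (Nat.ble (nat_lit 81920) i)
noncomputable def MR_n191 (i : Nat) : Nat := Bool.rec (motive := fun _ => Nat) (MR_192 i) (MR_193 i) (Nat.ble (nat_lit 98816) i)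
noncomputable def MR_n192 (i : Nat) : Nat := Bool.rec (motive := fun _ => Nat) (MR_194 i) (MR_195 i) (Nat.ble (nat_lit 99840) i)
noncomputable def MR_n193 (i : Nat) : Nat := Bool.rec (motive := fun _ => Nat) (MR_n191 i) (MR_n192 i) (Nat.ble (nat_lit 99328) i)
noncomputable def MR_n194 (i : Nat) : Nat := Bool.rec (motive := fun _ => Nat) (MR_196 i) (MR_197 i) (Nat.ble (nat_lit 100864) i)
noncomputable def MR_n195 (i : Nat) : Nat := Bool.rec (motive := fun _ => Nat) (MR_198 i) (MR_199 i) (Nat.ble (nat_lit 101888) i)
noncomputable def MR_n196 (i : Nat) : Nat := Bool.rec (motive := fun _ => Nat) (MR_n194 i) (MR_n195 i) (Nat.ble (nat_lit 101376) i)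
noncomputable def MR_n197 (i : Nat) : Nat := Bool.rec (motive := fun _ => Nat) (MR_n193 i) (MR_n196 i) (Nat.ble (nat_lit 100352) i)
noncomputable def MR_n198 (i : Nat) : Nat := Bool.rec (motive := fun _ => Nat) (MR_200 i) (MR_201 i) (Nat.ble (nat_lit 102912) i)
noncomputable def MR_n199 (i : Nat) : Nat := Bool.rec (motive := fun _ => Nat) (MR_202 i) (MR_203 i) (Nat.ble (nat_lit 103936) i)
noncomputable def MR_n200 (i : Nat) : Nat := Bool.rec (motive := fun _ => Nat) (MR_n198 i) (MR_n199 i) (Nat.ble (nat_lit 103424) i)
noncomputable def MR_n201 (i : Nat) : Nat := Bool.rec (motive := fun _ => Nat) (MR_204 i) (MR_205 i) (Nat.ble (nat_lit 104960) i)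
noncomputable def MR_n202 (i : Nat) : Nat := Bool.rec (motive := fun _ => Nat) (MR_206 i) (MR_207 i) (Nat.ble (nat_lit 105984) i)
noncomputable def MR_n203 (i : Nat) : Nat := Bool.rec (motive := fun _ => Nat) (MR_n201 i) (MR_n202 i) (Nat.ble (nat_lit 105472) i)
noncomputable def MR_n204 (i : Nat) : Nat := Bool.rec (motive := fun _ => Nat) (MR_n200 i) (MR_n203 i) (Nat.ble (nat_lit 104448) i)
noncomputable def MR_n205 (i : Nat) : Nat := Bool.rec (motive := fun _ => Nat) (MR_n197 i) (MR_n204 i) (Nat.ble (nat_lit 102400) i)
noncomputable def MR_n206 (i : Nat) : Nat := Bool.rec (motive := fun _ => Nat) (MR_208 i) (MR_209 i) (Nat.ble (nat_lit 107008) i)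
noncomputable def MR_n207 (i : Nat) : Nat := Bool.rec (motive := fun _ => Nat) (MR_210 i) (MR_211 i) (Nat.ble (nat_lit 108032) i)
noncomputable def MR_n208 (i : Nat) : Nat := Bool.rec (motive := fun _ => Nat) (MR_n206 i) (MR_n207 i) (Nat.ble (nat_lit 107520) i)
noncomputable def MR_n209 (i : Nat) : Nat := Bool.rec (motive := fun _ => Nat) (MR_212 i) (MR_213 i) (Nat.ble (nat_lit 109056) i)
noncomputable def MR_n210 (i : Nat) : Nat := Bool.rec (motive := fun _ => Nat) (MR_214 i) (MR_215 i) (Nat.ble (nat_lit 110080) i)
noncomputable def MR_n211 (i : Nat) : Nat := Bool.rec (motive := fun _ => Nat) (MR_n209 i) (MR_n210 i) (Nat.ble (nat_lit 109568) i)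
noncomputable def MR_n212 (i : Nat) : Nat := Bool.rec (motive := fun _ => Nat) (MR_n208 i) (MR_n211 i) (Nat.ble (nat_lit 108544) i)
noncomputable def MR_n213 (i : Nat) : Nat := Bool.rec (motive := fun _ => Nat) (MR_216 i) (MR_217 i) (Nat.ble (nat_lit 111104) i)
noncomputable def MR_n214 (i : Nat) : Nat := Bool.rec (motive := fun _ => Nat) (MR_218 i) (MR_219 i) (Nat.ble (nat_lit 112128) i)
noncomputable def MR_n215 (i : Nat) : Nat := Bool.rec (motive := fun _ => Nat) (MR_n213 i) (MR_n214 i) (Nat.ble (nat_lit 111616) i)
noncomputable def MR_n216 (i : Nat) : Nat := Bool.rec (motive := fun _ => Nat) (MR_220 i) (MR_221 i) (Nat.ble (nat_lit 113152) i)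
noncomputable def MR_n217 (i : Nat) : Nat := Bool.rec (motive := fun _ => Nat) (MR_222 i) (MR_223 i) (Nat.ble (nat_lit 114176) i)
noncomputable def MR_n218 (i : Nat) : Nat := Bool.rec (motive := fun _ => Nat) (MR_n216 i) (MR_n217 i) (Nat.ble (nat_lit 113664) i)
noncomputable def MR_n219 (i : Nat) : Nat := Bool.rec (motive := fun _ => Nat) (MR_n215 i) (MR_n218 i) (Nat.ble (nat_lit 112640) i)
noncomputable def MR_n220 (i : Nat) : Nat := Bool.rec (motive := fun _ => Nat) (MR_n212 i) (MR_n219 i) (Nat.ble (nat_lit 110592) i)
noncomputable def MR_n221 (i : Nat) : Nat := Bool.rec (motive := fun _ => Nat) (MR_n205 i) (MR_n220 i) (Nat.ble (nat_lit 106496) i)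
noncomputable def MR_n222 (i : Nat) : Nat := Bool.rec (motive := fun _ => Nat) (MR_224 i) (MR_225 i) (Nat.ble (nat_lit 115200) i)
noncomputable def MR_n223 (i : Nat) : Nat := Bool.rec (motive := fun _ => Nat) (MR_226 i) (MR_227 i) (Nat.ble (nat_lit 116224) i)
noncomputable def MR_n224 (i : Nat) : Nat := Bool.rec (motive := fun _ => Nat) (MR_n222 i) (MR_n223 i) (Nat.ble (nat_lit 115712) i)
noncomputable def MR_n225 (i : Nat) : Nat := Bool.rec (motive := fun _ => Nat) (MR_228 i) (MR_229 i) (Nat.ble (nat_lit 117248) i)
noncomputable def MR_n226 (i : Nat) : Nat := Bool.rec (motive := fun _ => Nat) (MR_230 i) (MR_231 i) (Nat.ble (nat_lit 118272) i)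
noncomputable def MR_n227 (i : Nat) : Nat := Bool.rec (motive := fun _ => Nat) (MR_n225 i) (MR_n226 i) (Nat.ble (nat_lit 117760) i)
noncomputable def MR_n228 (i : Nat) : Nat := Bool.rec (motive := fun _ => Nat) (MR_n224 i) (MR_n227 i) (Nat.ble (nat_lit 116736) i)
noncomputable def MR_n229 (i : Nat) : Nat := Bool.rec (motive := fun _ => Nat) (MR_232 i) (MR_233 i) (Nat.ble (nat_lit 119296) i)
noncomputable def MR_n230 (i : Nat) : Nat := Bool.rec (motive := fun _ => Nat) (MR_234 i) (MR_235 i) (Nat.ble (nat_lit 120320) i)
noncomputable def MR_n231 (i : Nat) : Nat := Bool.rec (motive := fun _ => Nat) (MR_n229 i) (MR_n230 i) (Nat.ble (nat_lit 119808) i)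
noncomputable def MR_n232 (i : Nat) : Nat := Bool.rec (motive := fun _ => Nat) (MR_236 i) (MR_237 i) (Nat.ble (nat_lit 121344) i)
noncomputable def MR_n233 (i : Nat) : Nat := Bool.rec (motive := fun _ => Nat) (MR_238 i) (MR_239 i) (Nat.ble (nat_lit 122368) i)
noncomputable def MR_n234 (i : Nat) : Nat := Bool.rec (motive := fun _ => Nat) (MR_n232 i) (MR_n233 i) (Nat.ble (nat_lit 121856) i)
noncomputable def MR_n235 (i : Nat) : Nat := Bool.rec (motive := fun _ => Nat) (MR_n231 i) (MR_n234 i) (Nat.ble (nat_lit 120832) i)
noncomputable def MR_n236 (i : Nat) : Nat := Bool.rec (motive := fun _ => Nat) (MR_n228 i) (MR_n235 i) (Nat.ble (nat_lit 118784) i)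
noncomputable def MR_n237 (i : Nat) : Nat := Bool.rec (motive := fun _ => Nat) (MR_240 i) (MR_241 i) (Nat.ble (nat_lit 123392) i)
noncomputable def MR_n238 (i : Nat) : Nat := Bool.rec (motive := fun _ => Nat) (MR_242 i) (MR_243 i) (Nat.ble (nat_lit 124416) i)
noncomputable def MR_n239 (i : Nat) : Nat := Bool.rec (motive := fun _ => Nat) (MR_n237 i) (MR_n238 i) (Nat.ble (nat_lit 123904) i)
noncomputable def MR_n240 (i : Nat) : Nat := Bool.rec (motive := fun _ => Nat) (MR_244 i) (MR_245 i) (Nat.ble (nat_lit 125440) i)
noncomputable def MR_n241 (i : Nat) : Nat := Bool.rec (motive := fun _ => Nat) (MR_246 i) (MR_247 i) (Nat.ble (nat_lit 126464) i)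
noncomputable def MR_n242 (i : Nat) : Nat := Bool.rec (motive := fun _ => Nat) (MR_n240 i) (MR_n241 i) (Nat.ble (nat_lit 125952) i)
noncomputable def MR_n243 (i : Nat) : Nat := Bool.rec (motive := fun _ => Nat) (MR_n239 i) (MR_n242 i) (Nat.ble (nat_lit 124928) i)
noncomputable def MR_n244 (i : Nat) : Nat := Bool.rec (motive := fun _ => Nat) (MR_248 i) (MR_249 i) (Nat.ble (nat_lit 127488) i)
noncomputable def MR_n245 (i : Nat) : Nat := Bool.rec (motive := fun _ => Nat) (MR_250 i) (MR_251 i) (Nat.ble (nat_lit 128512) i)
noncomputable def MR_n246 (i : Nat) : Nat := Bool.rec (motive := fun _ => Nat) (MR_n244 i) (MR_n245 i) (Nat.ble (nat_lit 128000) i)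
noncomputable def MR_n247 (i : Nat) : Nat := Bool.rec (motive := fun _ => Nat) (MR_252 i) (MR_253 i) (Nat.ble (nat_lit 129536) i)
noncomputable def MR_n248 (i : Nat) : Nat := Bool.rec (motive := fun _ => Nat) (MR_254 i) (MR_255 i) (Nat.ble (nat_lit 130560) i)
noncomputable def MR_n249 (i : Nat) : Nat := Bool.rec (motive := fun _ => Nat) (MR_n247 i) (MR_n248 i) (Nat.ble (nat_lit 130048) i)
noncomputable def MR_n250 (i : Nat) : Nat := Bool.rec (motive := fun _ => Nat) (MR_n246 i) (MR_n249 i) (Nat.ble (nat_lit 129024) i)
noncomputable def MR_n251 (i : Nat) : Nat := Bool.rec (motive := fun _ => Nat) (MR_n243 i) (MR_n250 i) (Nat.ble (nat_lit 126976) i)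
noncomputable def MR_n252 (i : Nat) : Nat := Bool.rec (motive := fun _ => Nat) (MR_n236 i) (MR_n251 i) (Nat.ble (nat_lit 122880) i)
noncomputable def MR_n253 (i : Nat) : Nat := Bool.rec (motive := fun _ => Nat) (MR_n221 i) (MR_n252 i) (Nat.ble (nat_lit 114688) i)
noncomputable def MR_n254 (i : Nat) : Nat := Bool.rec (motive := fun _ => Nat) (MR_n190 i) (MR_n253 i) (Nat.ble (nat_lit 98304) i)
noncomputable def MR_n255 (i : Nat) : Nat := Bool.rec (motive := fun _ => Nat) (MR_n127 i) (MR_n254 i) (Nat.ble (nat_lit 65536) i)
noncomputable def MR_n256 (i : Nat) : Nat := Bool.rec (motive := fun _ => Nat) (MR_256 i) (MR_257 i) (Nat.ble (nat_lit 131584) i)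
noncomputable def MR_n257 (i : Nat) : Nat := Bool.rec (motive := fun _ => Nat) (MR_258 i) (MR_259 i) (Nat.ble (nat_lit 132608) i)
noncomputable def MR_n258 (i : Nat) : Nat := Bool.rec (motive := fun _ => Nat) (MR_n256 i) (MR_n257 i) (Nat.ble (nat_lit 132096) i)
noncomputable def MR_n259 (i : Nat) : Nat := Bool.rec (motive := fun _ => Nat) (MR_260 i) (MR_261 i) (Nat.ble (nat_lit 133632) i)
noncomputable def MR_n260 (i : Nat) : Nat := Bool.rec (motive := fun _ => Nat) (MR_262 i) (MR_263 i) (Nat.ble (nat_lit 134656) i)
noncomputable def MR_n261 (i : Nat) : Nat := Bool.rec (motive := fun _ => Nat) (MR_n259 i) (MR_n260 i) (Nat.ble (nat_lit 134144) i)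
noncomputable def MR_n262 (i : Nat) : Nat := Bool.rec (motive := fun _ => Nat) (MR_n258 i) (MR_n261 i) (Nat.ble (nat_lit 133120) i)
noncomputable def MR_n263 (i : Nat) : Nat := Bool.rec (motive := fun _ => Nat) (MR_264 i) (MR_265 i) (Nat.ble (nat_lit 135680) i)
noncomputable def MR_n264 (i : Nat) : Nat := Bool.rec (motive := fun _ => Nat) (MR_266 i) (MR_267 i) (Nat.ble (nat_lit 136704) i)
noncomputable def MR_n265 (i : Nat) : Nat := Bool.rec (motive := fun _ => Nat) (MR_n263 i) (MR_n264 i) (Nat.ble (nat_lit 136192) i)
noncomputable def MR_n266 (i : Nat) : Nat := Bool.rec (motive := fun _ => Nat) (MR_268 i) (MR_269 i) (Nat.ble (nat_lit 137728) i)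
noncomputable def MR_n267 (i : Nat) : Nat := Bool.rec (motive := fun _ => Nat) (MR_270 i) (MR_271 i) (Nat.ble (nat_lit 138752) i)
noncomputable def MR_n268 (i : Nat) : Nat := Bool.rec (motive := fun _ => Nat) (MR_n266 i) (MR_n267 i) (Nat.ble (nat_lit 138240) i)
noncomputable def MR_n269 (i : Nat) : Nat := Bool.rec (motive := fun _ => Nat) (MR_n265 i) (MR_n268 i) (Nat.ble (nat_lit 137216) i)
noncomputable def MR_n270 (i : Nat) : Nat := Bool.rec (motive := fun _ => Nat) (MR_n262 i) (MR_n269 i) (Nat.ble (nat_lit 135168) i)
noncomputable def MR_n271 (i : Nat) : Nat := Bool.rec (motive := fun _ => Nat) (MR_272 i) (MR_273 i) (Nat.ble (nat_lit 139776) i)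
noncomputable def MR_n272 (i : Nat) : Nat := Bool.rec (motive := fun _ => Nat) (MR_274 i) (MR_275 i) (Nat.ble (nat_lit 140800) i)
noncomputable def MR_n273 (i : Nat) : Nat := Bool.rec (motive := fun _ => Nat) (MR_n271 i) (MR_n272 i) (Nat.ble (nat_lit 140288) i)
noncomputable def MR_n274 (i : Nat) : Nat := Bool.rec (motive := fun _ => Nat) (MR_276 i) (MR_277 i) (Nat.ble (nat_lit 141824) i)
noncomputable def MR_n275 (i : Nat) : Nat := Bool.rec (motive := fun _ => Nat) (MR_278 i) (MR_279 i) (Nat.ble (nat_lit 142848) i)
noncomputable def MR_n276 (i : Nat) : Nat := Bool.rec (motive := fun _ => Nat) (MR_n274 i) (MR_n275 i) (Nat.ble (nat_lit 142336) i)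
noncomputable def MR_n277 (i : Nat) : Nat := Bool.rec (motive := fun _ => Nat) (MR_n273 i) (MR_n276 i) (Nat.ble (nat_lit 141312) i)
noncomputable def MR_n278 (i : Nat) : Nat := Bool.rec (motive := fun _ => Nat) (MR_280 i) (MR_281 i) (Nat.ble (nat_lit 143872) i)
noncomputable def MR_n279 (i : Nat) : Nat := Bool.rec (motive := fun _ => Nat) (MR_282 i) (MR_283 i) (Nat.ble (nat_lit 144896) i)
noncomputable def MR_n280 (i : Nat) : Nat := Bool.rec (motive := fun _ => Nat) (MR_n278 i) (MR_n279 i) (Nat.ble (nat_lit 144384) i)
noncomputable def MR_n281 (i : Nat) : Nat := Bool.rec (motive := fun _ => Nat) (MR_284 i) (MR_285 i) (Nat.ble (nat_lit 145920) i)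
noncomputable def MR_n282 (i : Nat) : Nat := Bool.rec (motive := fun _ => Nat) (MR_286 i) (MR_287 i) (Nat.ble (nat_lit 146944) i)
noncomputable def MR_n283 (i : Nat) : Nat := Bool.rec (motive := fun _ => Nat) (MR_n281 i) (MR_n282 i) (Nat.ble (nat_lit 146432) i)
noncomputable def MR_n284 (i : Nat) : Nat := Bool.rec (motive := fun _ => Nat) (MR_n280 i) (MR_n283 i) (Nat.ble (nat_lit 145408) i)
noncomputable def MR_n285 (i : Nat) : Nat := Bool.rec (motive := fun _ => Nat) (MR_n277 i) (MR_n284 i) (Nat.ble (nat_lit 143360) i)
noncomputable def MR_n286 (i : Nat) : Nat := Bool.rec (motive := fun _ => Nat) (MR_n270 i) (MR_n285 i) (Nat.ble (nat_lit 139264) i)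
noncomputable def MR_n287 (i : Nat) : Nat := Bool.rec (motive := fun _ => Nat) (MR_288 i) (MR_289 i) (Nat.ble (nat_lit 147968) i)
noncomputable def MR_n288 (i : Nat) : Nat := Bool.rec (motive := fun _ => Nat) (MR_290 i) (MR_291 i) (Nat.ble (nat_lit 148992) i)
noncomputable def MR_n289 (i : Nat) : Nat := Bool.rec (motive := fun _ => Nat) (MR_n287 i) (MR_n288 i) (Nat.ble (nat_lit 148480) i)
noncomputable def MR_n290 (i : Nat) : Nat := Bool.rec (motive := fun _ => Nat) (MR_292 i) (MR_293 i) (Nat.ble (nat_lit 150016) i)
noncomputable def MR_n291 (i : Nat) : Nat := Bool.rec (motive := fun _ => Nat) (MR_294 i) (MR_295 i) (Nat.ble (nat_lit 151040) i)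
noncomputable def MR_n292 (i : Nat) : Nat := Bool.rec (motive := fun _ => Nat) (MR_n290 i) (MR_n291 i) (Nat.ble (nat_lit 150528) i)
noncomputable def MR_n293 (i : Nat) : Nat := Bool.rec (motive := fun _ => Nat) (MR_n289 i) (MR_n292 i) (Nat.ble (nat_lit 149504) i)
noncomputable def MR_n294 (i : Nat) : Nat := Bool.rec (motive := fun _ => Nat) (MR_296 i) (MR_297 i) (Nat.ble (nat_lit 152064) i)
noncomputable def MR_n295 (i : Nat) : Nat := Bool.rec (motive := fun _ => Nat) (MR_298 i) (MR_299 i) (Nat.ble (nat_lit 153088) i)
noncomputable def MR_n296 (i : Nat) : Nat := Bool.rec (motive := fun _ => Nat) (MR_n294 i) (MR_n295 i) (Nat.ble (nat_lit 152576) i)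
noncomputable def MR_n297 (i : Nat) : Nat := Bool.rec (motive := fun _ => Nat) (MR_300 i) (MR_301 i) (Nat.ble (nat_lit 154112) i)
noncomputable def MR_n298 (i : Nat) : Nat := Bool.rec (motive := fun _ => Nat) (MR_302 i) (MR_303 i) (Nat.ble (nat_lit 155136) i)
noncomputable def MR_n299 (i : Nat) : Nat := Bool.rec (motive := fun _ => Nat) (MR_n297 i) (MR_n298 i) (Nat.ble (nat_lit 154624) i)
noncomputable def MR_n300 (i : Nat) : Nat := Bool.rec (motive := fun _ => Nat) (MR_n296 i) (MR_n299 i) (Nat.ble (nat_lit 153600) i)
noncomputable def MR_n301 (i : Nat) : Nat := Bool.rec (motive := fun _ => Nat) (MR_n293 i) (MR_n300 i) (Nat.ble (nat_lit 151552) i)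
noncomputable def MR_n302 (i : Nat) : Nat := Bool.rec (motive := fun _ => Nat) (MR_304 i) (MR_305 i) (Nat.ble (nat_lit 156160) i)
noncomputable def MR_n303 (i : Nat) : Nat := Bool.rec (motive := fun _ => Nat) (MR_306 i) (MR_307 i) (Nat.ble (nat_lit 157184) i)
noncomputable def MR_n304 (i : Nat) : Nat := Bool.rec (motive := fun _ => Nat) (MR_n302 i) (MR_n303 i) (Nat.ble (nat_lit 156672) i)
noncomputable def MR_n305 (i : Nat) : Nat := Bool.rec (motive := fun _ => Nat) (MR_308 i) (MR_309 i) (Nat.ble (nat_lit 158208) i)
noncomputable def MR_n306 (i : Nat) : Nat := Bool.rec (motive := fun _ => Nat) (MR_310 i) (MR_311 i) (Nat.ble (nat_lit 159232) i)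
noncomputable def MR_n307 (i : Nat) : Nat := Bool.rec (motive := fun _ => Nat) (MR_n305 i) (MR_n306 i) (Nat.ble (nat_lit 158720) i)
noncomputable def MR_n308 (i : Nat) : Nat := Bool.rec (motive := fun _ => Nat) (MR_n304 i) (MR_n307 i) (Nat.ble (nat_lit 157696) i)
noncomputable def MR_n309 (i : Nat) : Nat := Bool.rec (motive := fun _ => Nat) (MR_312 i) (MR_313 i) (Nat.ble (nat_lit 160256) i)
noncomputable def MR_n310 (i : Nat) : Nat := Bool.rec (motive := fun _ => Nat) (MR_314 i) (MR_315 i) (Nat.ble (nat_lit 161280) i)
noncomputable def MR_n311 (i : Nat) : Nat := Bool.rec (motive := fun _ => Nat) (MR_n309 i) (MR_n310 i) (Nat.ble (nat_lit 160768) i)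
noncomputable def MR_n312 (i : Nat) : Nat := Bool.rec (motive := fun _ => Nat) (MR_316 i) (MR_317 i) (Nat.ble (nat_lit 162304) i)
noncomputable def MR_n313 (i : Nat) : Nat := Bool.rec (motive := fun _ => Nat) (MR_318 i) (MR_319 i) (Nat.ble (nat_lit 163328) i)
noncomputable def MR_n314 (i : Nat) : Nat := Bool.rec (motive := fun _ => Nat) (MR_n312 i) (MR_n313 i) (Nat.ble (nat_lit 162816) i)
noncomputable def MR_n315 (i : Nat) : Nat := Bool.rec (motive := fun _ => Nat) (MR_n311 i) (MR_n314 i) (Nat.ble (nat_lit 161792) i)
noncomputable def MR_n316 (i : Nat) : Nat := Bool.rec (motive := fun _ => Nat) (MR_n308 i) (MR_n315 i) (Nat.ble (nat_lit 159744) i)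
noncomputable def MR_n317 (i : Nat) : Nat := Bool.rec (motive := fun _ => Nat) (MR_n301 i) (MR_n316 i) (Nat.ble (nat_lit 155648) i)
noncomputable def MR_n318 (i : Nat) : Nat := Bool.rec (motive := fun _ => Nat) (MR_n286 i) (MR_n317 i) (Nat.ble (nat_lit 147456) i)
noncomputable def MR_n319 (i : Nat) : Nat := Bool.rec (motive := fun _ => Nat) (MR_320 i) (MR_321 i) (Nat.ble (nat_lit 164352) i)
noncomputable def MR_n320 (i : Nat) : Nat := Bool.rec (motive := fun _ => Nat) (MR_322 i) (MR_323 i) (Nat.ble (nat_lit 165376) i)
noncomputable def MR_n321 (i : Nat) : Nat := Bool.rec (motive := fun _ => Nat) (MR_n319 i) (MR_n320 i) (Nat.ble (nat_lit 164864) i)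
noncomputable def MR_n322 (i : Nat) : Nat := Bool.rec (motive := fun _ => Nat) (MR_324 i) (MR_325 i) (Nat.ble (nat_lit 166400) i)
noncomputable def MR_n323 (i : Nat) : Nat := Bool.rec (motive := fun _ => Nat) (MR_326 i) (MR_327 i) (Nat.ble (nat_lit 167424) i)
noncomputable def MR_n324 (i : Nat) : Nat := Bool.rec (motive := fun _ => Nat) (MR_n322 i) (MR_n323 i) (Nat.ble (nat_lit 166912) i)
noncomputable def MR_n325 (i : Nat) : Nat := Bool.rec (motive := fun _ => Nat) (MR_n321 i) (MR_n324 i) (Nat.ble (nat_lit 165888) i)
noncomputable def MR_n326 (i : Nat) : Nat := Bool.rec (motive := fun _ => Nat) (MR_328 i) (MR_329 i) (Nat.ble (nat_lit 168448) i)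
noncomputable def MR_n327 (i : Nat) : Nat := Bool.rec (motive := fun _ => Nat) (MR_330 i) (MR_331 i) (Nat.ble (nat_lit 169472) i)
noncomputable def MR_n328 (i : Nat) : Nat := Bool.rec (motive := fun _ => Nat) (MR_n326 i) (MR_n327 i) (Nat.ble (nat_lit 168960) i)
noncomputable def MR_n329 (i : Nat) : Nat := Bool.rec (motive := fun _ => Nat) (MR_332 i) (MR_333 i) (Nat.ble (nat_lit 170496) i)
noncomputable def MR_n330 (i : Nat) : Nat := Bool.rec (motive := fun _ => Nat) (MR_334 i) (MR_335 i) (Nat.ble (nat_lit 171520) i)
noncomputable def MR_n331 (i : Nat) : Nat := Bool.rec (motive := fun _ => Nat) (MR_n329 i) (MR_n330 i) (Nat.ble (nat_lit 171008) i)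
noncomputable def MR_n332 (i : Nat) : Nat := Bool.rec (motive := fun _ => Nat) (MR_n328 i) (MR_n331 i) (Nat.ble (nat_lit 169984) i)
noncomputable def MR_n333 (i : Nat) : Nat := Bool.rec (motive := fun _ => Nat) (MR_n325 i) (MR_n332 i) (Nat.ble (nat_lit 167936) i)
noncomputable def MR_n334 (i : Nat) : Nat := Bool.rec (motive := fun _ => Nat) (MR_336 i) (MR_337 i) (Nat.ble (nat_lit 172544) i)
noncomputable def MR_n335 (i : Nat) : Nat := Bool.rec (motive := fun _ => Nat) (MR_338 i) (MR_339 i) (Nat.ble (nat_lit 173568) i)
noncomputable def MR_n336 (i : Nat) : Nat := Bool.rec (motive := fun _ => Nat) (MR_n334 i) (MR_n335 i) (Nat.ble (nat_lit 173056) i)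
noncomputable def MR_n337 (i : Nat) : Nat := Bool.rec (motive := fun _ => Nat) (MR_340 i) (MR_341 i) (Nat.ble (nat_lit 174592) i)
noncomputable def MR_n338 (i : Nat) : Nat := Bool.rec (motive := fun _ => Nat) (MR_342 i) (MR_343 i) (Nat.ble (nat_lit 175616) i)
noncomputable def MR_n339 (i : Nat) : Nat := Bool.rec (motive := fun _ => Nat) (MR_n337 i) (MR_n338 i) (Nat.ble (nat_lit 175104) i)
noncomputable def MR_n340 (i : Nat) : Nat := Bool.rec (motive := fun _ => Nat) (MR_n336 i) (MR_n339 i) (Nat.ble (nat_lit 174080) i)
noncomputable def MR_n341 (i : Nat) : Nat := Bool.rec (motive := fun _ => Nat) (MR_344 i) (MR_345 i) (Nat.ble (nat_lit 176640) i)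
noncomputable def MR_n342 (i : Nat) : Nat := Bool.rec (motive := fun _ => Nat) (MR_346 i) (MR_347 i) (Nat.ble (nat_lit 177664) i)
noncomputable def MR_n343 (i : Nat) : Nat := Bool.rec (motive := fun _ => Nat) (MR_n341 i) (MR_n342 i) (Nat.ble (nat_lit 177152) i)
noncomputable def MR_n344 (i : Nat) : Nat := Bool.rec (motive := fun _ => Nat) (MR_348 i) (MR_349 i) (Nat.ble (nat_lit 178688) i)
noncomputable def MR_n345 (i : Nat) : Nat := Bool.rec (motive := fun _ => Nat) (MR_350 i) (MR_351 i) (Nat.ble (nat_lit 179712) i)
noncomputable def MR_n346 (i : Nat) : Nat := Bool.rec (motive := fun _ => Nat) (MR_n344 i) (MR_n345 i) (Nat.ble (nat_lit 179200) i)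
noncomputable def MR_n347 (i : Nat) : Nat := Bool.rec (motive := fun _ => Nat) (MR_n343 i) (MR_n346 i) (Nat.ble (nat_lit 178176) i)
noncomputable def MR_n348 (i : Nat) : Nat := Bool.rec (motive := fun _ => Nat) (MR_n340 i) (MR_n347 i) (Nat.ble (nat_lit 176128) i)
noncomputable def MR_n349 (i : Nat) : Nat := Bool.rec (motive := fun _ => Nat) (MR_n333 i) (MR_n348 i) (Nat.ble (nat_lit 172032) i)
noncomputable def MR_n350 (i : Nat) : Nat := Bool.rec (motive := fun _ => Nat) (MR_352 i) (MR_353 i) (Nat.ble (nat_lit 180736) i)
noncomputable def MR_n351 (i : Nat) : Nat := Bool.rec (motive := fun _ => Nat) (MR_354 i) (MR_355 i) (Nat.ble (nat_lit 181760) i)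
noncomputable def MR_n352 (i : Nat) : Nat := Bool.rec (motive := fun _ => Nat) (MR_n350 i) (MR_n351 i) (Nat.ble (nat_lit 181248) i)
noncomputable def MR_n353 (i : Nat) : Nat := Bool.rec (motive := fun _ => Nat) (MR_356 i) (MR_357 i) (Nat.ble (nat_lit 182784) i)
noncomputable def MR_n354 (i : Nat) : Nat := Bool.rec (motive := fun _ => Nat) (MR_358 i) (MR_359 i) (Nat.ble (nat_lit 183808) i)
noncomputable def MR_n355 (i : Nat) : Nat := Bool.rec (motive := fun _ => Nat) (MR_n353 i) (MR_n354 i) (Nat.ble (nat_lit 183296) i)
noncomputable def MR_n356 (i : Nat) : Nat := Bool.rec (motive := fun _ => Nat) (MR_n352 i) (MR_n355 i) (Nat.ble (nat_lit 182272) i)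
noncomputable def MR_n357 (i : Nat) : Nat := Bool.rec (motive := fun _ => Nat) (MR_360 i) (MR_361 i) (Nat.ble (nat_lit 184832) i)
noncomputable def MR_n358 (i : Nat) : Nat := Bool.rec (motive := fun _ => Nat) (MR_362 i) (MR_363 i) (Nat.ble (nat_lit 185856) i)
noncomputable def MR_n359 (i : Nat) : Nat := Bool.rec (motive := fun _ => Nat) (MR_n357 i) (MR_n358 i) (Nat.ble (nat_lit 185344) i)
noncomputable def MR_n360 (i : Nat) : Nat := Bool.rec (motive := fun _ => Nat) (MR_364 i) (MR_365 i) (Nat.ble (nat_lit 186880) i)
noncomputable def MR_n361 (i : Nat) : Nat := Bool.rec (motive := fun _ => Nat) (MR_366 i) (MR_367 i) (Nat.ble (nat_lit 187904) i)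
noncomputable def MR_n362 (i : Nat) : Nat := Bool.rec (motive := fun _ => Nat) (MR_n360 i) (MR_n361 i) (Nat.ble (nat_lit 187392) i)
noncomputable def MR_n363 (i : Nat) : Nat := Bool.rec (motive := fun _ => Nat) (MR_n359 i) (MR_n362 i) (Nat.ble (nat_lit 186368) i)
noncomputable def MR_n364 (i : Nat) : Nat := Bool.rec (motive := fun _ => Nat) (MR_n356 i) (MR_n363 i) (Nat.ble (nat_lit 184320) i)
noncomputable def MR_n365 (i : Nat) : Nat := Bool.rec (motive := fun _ => Nat) (MR_368 i) (MR_369 i) (Nat.ble (nat_lit 188928) i)
noncomputable def MR_n366 (i : Nat) : Nat := Bool.rec (motive := fun _ => Nat) (MR_370 i) (MR_371 i) (Nat.ble (nat_lit 189952) i)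
noncomputable def MR_n367 (i : Nat) : Nat := Bool.rec (motive := fun _ => Nat) (MR_n365 i) (MR_n366 i) (Nat.ble (nat_lit 189440) i)
noncomputable def MR_n368 (i : Nat) : Nat := Bool.rec (motive := fun _ => Nat) (MR_372 i) (MR_373 i) (Nat.ble (nat_lit 190976) i)
noncomputable def MR_n369 (i : Nat) : Nat := Bool.rec (motive := fun _ => Nat) (MR_374 i) (MR_375 i) (Nat.ble (nat_lit 192000) i)
noncomputable def MR_n370 (i : Nat) : Nat := Bool.rec (motive := fun _ => Nat) (MR_n368 i) (MR_n369 i) (Nat.ble (nat_lit 191488) i)
noncomputable def MR_n371 (i : Nat) : Nat := Bool.rec (motive := fun _ => Nat) (MR_n367 i) (MR_n370 i) (Nat.ble (nat_lit 190464) i)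
noncomputable def MR_n372 (i : Nat) : Nat := Bool.rec (motive := fun _ => Nat) (MR_376 i) (MR_377 i) (Nat.ble (nat_lit 193024) i)
noncomputable def MR_n373 (i : Nat) : Nat := Bool.rec (motive := fun _ => Nat) (MR_378 i) (MR_379 i) (Nat.ble (nat_lit 194048) i)
noncomputable def MR_n374 (i : Nat) : Nat := Bool.rec (motive := fun _ => Nat) (MR_n372 i) (MR_n373 i) (Nat.ble (nat_lit 193536) i)
noncomputable def MR_n375 (i : Nat) : Nat := Bool.rec (motive := fun _ => Nat) (MR_380 i) (MR_381 i) (Nat.ble (nat_lit 195072) i)
noncomputable def MR_n376 (i : Nat) : Nat := Bool.rec (motive := fun _ => Nat) (MR_382 i) (MR_383 i) (Nat.ble (nat_lit 196096) i)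
noncomputable def MR_n377 (i : Nat) : Nat := Bool.rec (motive := fun _ => Nat) (MR_n375 i) (MR_n376 i) (Nat.ble (nat_lit 195584) i)
noncomputable def MR_n378 (i : Nat) : Nat := Bool.rec (motive := fun _ => Nat) (MR_n374 i) (MR_n377 i) (Nat.ble (nat_lit 194560) i)
noncomputable def MR_n379 (i : Nat) : Nat := Bool.rec (motive := fun _ => Nat) (MR_n371 i) (MR_n378 i) (Nat.ble (nat_lit 192512) i)
noncomputable def MR_n380 (i : Nat) : Nat := Bool.rec (motive := fun _ => Nat) (MR_n364 i) (MR_n379 i) (Nat.ble (nat_lit 188416) i)
noncomputable def MR_n381 (i : Nat) : Nat := Bool.rec (motive := fun _ => Nat) (MR_n349 i) (MR_n380 i) (Nat.ble (nat_lit 180224) i)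
noncomputable def MR_n382 (i : Nat) : Nat := Bool.rec (motive := fun _ => Nat) (MR_n318 i) (MR_n381 i) (Nat.ble (nat_lit 163840) i)
noncomputable def MR_n383 (i : Nat) : Nat := Bool.rec (motive := fun _ => Nat) (MR_384 i) (MR_385 i) (Nat.ble (nat_lit 197120) i)
noncomputable def MR_n384 (i : Nat) : Nat := Bool.rec (motive := fun _ => Nat) (MR_386 i) (MR_387 i) (Nat.ble (nat_lit 198144) i)
noncomputable def MR_n385 (i : Nat) : Nat := Bool.rec (motive := fun _ => Nat) (MR_n383 i) (MR_n384 i) (Nat.ble (nat_lit 197632) i)
noncomputable def MR_n386 (i : Nat) : Nat := Bool.rec (motive := fun _ => Nat) (MR_388 i) (MR_389 i) (Nat.ble (nat_lit 199168) i)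
noncomputable def MR_n387 (i : Nat) : Nat := Bool.rec (motive := fun _ => Nat) (MR_390 i) (MR_391 i) (Nat.ble (nat_lit 200192) i)
noncomputable def MR_n388 (i : Nat) : Nat := Bool.rec (motive := fun _ => Nat) (MR_n386 i) (MR_n387 i) (Nat.ble (nat_lit 199680) i)
noncomputable def MR_n389 (i : Nat) : Nat := Bool.rec (motive := fun _ => Nat) (MR_n385 i) (MR_n388 i) (Nat.ble (nat_lit 198656) i)
noncomputable def MR_n390 (i : Nat) : Nat := Bool.rec (motive := fun _ => Nat) (MR_392 i) (MR_393 i) (Nat.ble (nat_lit 201216) i)
noncomputable def MR_n391 (i : Nat) : Nat := Bool.rec (motive := fun _ => Nat) (MR_394 i) (MR_395 i) (Nat.ble (nat_lit 202240) i)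
noncomputable def MR_n392 (i : Nat) : Nat := Bool.rec (motive := fun _ => Nat) (MR_n390 i) (MR_n391 i) (Nat.ble (nat_lit 201728) i)
noncomputable def MR_n393 (i : Nat) : Nat := Bool.rec (motive := fun _ => Nat) (MR_396 i) (MR_397 i) (Nat.ble (nat_lit 203264) i)
noncomputable def MR_n394 (i : Nat) : Nat := Bool.rec (motive := fun _ => Nat) (MR_398 i) (MR_399 i) (Nat.ble (nat_lit 204288) i)
noncomputable def MR_n395 (i : Nat) : Nat := Bool.rec (motive := fun _ => Nat) (MR_n393 i) (MR_n394 i) (Nat.ble (nat_lit 203776) i)
noncomputable def MR_n396 (i : Nat) : Nat := Bool.rec (motive := fun _ => Nat) (MR_n392 i) (MR_n395 i) (Nat.ble (nat_lit 202752) i)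
noncomputable def MR_n397 (i : Nat) : Nat := Bool.rec (motive := fun _ => Nat) (MR_n389 i) (MR_n396 i) (Nat.ble (nat_lit 200704) i)
noncomputable def MR_n398 (i : Nat) : Nat := Bool.rec (motive := fun _ => Nat) (MR_400 i) (MR_401 i) (Nat.ble (nat_lit 205312) i)
noncomputable def MR_n399 (i : Nat) : Nat := Bool.rec (motive := fun _ => Nat) (MR_402 i) (MR_403 i) (Nat.ble (nat_lit 206336) i)
noncomputable def MR_n400 (i : Nat) : Nat := Bool.rec (motive := fun _ => Nat) (MR_n398 i) (MR_n399 i) (Nat.ble (nat_lit 205824) i)
noncomputable def MR_n401 (i : Nat) : Nat := Bool.rec (motive := fun _ => Nat) (MR_404 i) (MR_405 i) (Nat.ble (nat_lit 207360) i)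
noncomputable def MR_n402 (i : Nat) : Nat := Bool.rec (motive := fun _ => Nat) (MR_406 i) (MR_407 i) (Nat.ble (nat_lit 208384) i)
noncomputable def MR_n403 (i : Nat) : Nat := Bool.rec (motive := fun _ => Nat) (MR_n401 i) (MR_n402 i) (Nat.ble (nat_lit 207872) i)
noncomputable def MR_n404 (i : Nat) : Nat := Bool.rec (motive := fun _ => Nat) (MR_n400 i) (MR_n403 i) (Nat.ble (nat_lit 206848) i)
noncomputable def MR_n405 (i : Nat) : Nat := Bool.rec (motive := fun _ => Nat) (MR_408 i) (MR_409 i) (Nat.ble (nat_lit 209408) i)
noncomputable def MR_n406 (i : Nat) : Nat := Bool.rec (motive := fun _ => Nat) (MR_410 i) (MR_411 i) (Nat.ble (nat_lit 210432) i)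
noncomputable def MR_n407 (i : Nat) : Nat := Bool.rec (motive := fun _ => Nat) (MR_n405 i) (MR_n406 i) (Nat.ble (nat_lit 209920) i)
noncomputable def MR_n408 (i : Nat) : Nat := Bool.rec (motive := fun _ => Nat) (MR_412 i) (MR_413 i) (Nat.ble (nat_lit 211456) i)
noncomputable def MR_n409 (i : Nat) : Nat := Bool.rec (motive := fun _ => Nat) (MR_414 i) (MR_415 i) (Nat.ble (nat_lit 212480) i)
noncomputable def MR_n410 (i : Nat) : Nat := Bool.rec (motive := fun _ => Nat) (MR_n408 i) (MR_n409 i) (Nat.ble (nat_lit 211968) i)
noncomputable def MR_n411 (i : Nat) : Nat := Bool.rec (motive := fun _ => Nat) (MR_n407 i) (MR_n410 i) (Nat.ble (nat_lit 210944) i)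
noncomputable def MR_n412 (i : Nat) : Nat := Bool.rec (motive := fun _ => Nat) (MR_n404 i) (MR_n411 i) (Nat.ble (nat_lit 208896) i)
noncomputable def MR_n413 (i : Nat) : Nat := Bool.rec (motive := fun _ => Nat) (MR_n397 i) (MR_n412 i) (Nat.ble (nat_lit 204800) i)
noncomputable def MR_n414 (i : Nat) : Nat := Bool.rec (motive := fun _ => Nat) (MR_416 i) (MR_417 i) (Nat.ble (nat_lit 213504) i)
noncomputable def MR_n415 (i : Nat) : Nat := Bool.rec (motive := fun _ => Nat) (MR_418 i) (MR_419 i) (Nat.ble (nat_lit 214528) i)
noncomputable def MR_n416 (i : Nat) : Nat := Bool.rec (motive := fun _ => Nat) (MR_n414 i) (MR_n415 i) (Nat.ble (nat_lit 214016) i)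
noncomputable def MR_n417 (i : Nat) : Nat := Bool.rec (motive := fun _ => Nat) (MR_420 i) (MR_421 i) (Nat.ble (nat_lit 215552) i)
noncomputable def MR_n418 (i : Nat) : Nat := Bool.rec (motive := fun _ => Nat) (MR_422 i) (MR_423 i) (Nat.ble (nat_lit 216576) i)
noncomputable def MR_n419 (i : Nat) : Nat := Bool.rec (motive := fun _ => Nat) (MR_n417 i) (MR_n418 i) (Nat.ble (nat_lit 216064) i)
noncomputable def MR_n420 (i : Nat) : Nat := Bool.rec (motive := fun _ => Nat) (MR_n416 i) (MR_n419 i) (Nat.ble (nat_lit 215040) i)
noncomputable def MR_n421 (i : Nat) : Nat := Bool.rec (motive := fun _ => Nat) (MR_424 i) (MR_425 i) (Nat.ble (nat_lit 217600) i)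
noncomputable def MR_n422 (i : Nat) : Nat := Bool.rec (motive := fun _ => Nat) (MR_426 i) (MR_427 i) (Nat.ble (nat_lit 218624) i)
noncomputable def MR_n423 (i : Nat) : Nat := Bool.rec (motive := fun _ => Nat) (MR_n421 i) (MR_n422 i) (Nat.ble (nat_lit 218112) i)
noncomputable def MR_n424 (i : Nat) : Nat := Bool.rec (motive := fun _ => Nat) (MR_428 i) (MR_429 i) (Nat.ble (nat_lit 219648) i)
noncomputable def MR_n425 (i : Nat) : Nat := Bool.rec (motive := fun _ => Nat) (MR_430 i) (MR_431 i) (Nat.ble (nat_lit 220672) i)
noncomputable def MR_n426 (i : Nat) : Nat := Bool.rec (motive := fun _ => Nat) (MR_n424 i) (MR_n425 i) (Nat.ble (nat_lit 220160) i)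
noncomputable def MR_n427 (i : Nat) : Nat := Bool.rec (motive := fun _ => Nat) (MR_n423 i) (MR_n426 i) (Nat.ble (nat_lit 219136) i)
noncomputable def MR_n428 (i : Nat) : Nat := Bool.rec (motive := fun _ => Nat) (MR_n420 i) (MR_n427 i) (Nat.ble (nat_lit 217088) i)
noncomputable def MR_n429 (i : Nat) : Nat := Bool.rec (motive := fun _ => Nat) (MR_432 i) (MR_433 i) (Nat.ble (nat_lit 221696) i)
noncomputable def MR_n430 (i : Nat) : Nat := Bool.rec (motive := fun _ => Nat) (MR_434 i) (MR_435 i) (Nat.ble (nat_lit 222720) i)
noncomputable def MR_n431 (i : Nat) : Nat := Bool.rec (motive := fun _ => Nat) (MR_n429 i) (MR_n430 i) (Nat.ble (nat_lit 222208) i)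
noncomputable def MR_n432 (i : Nat) : Nat := Bool.rec (motive := fun _ => Nat) (MR_436 i) (MR_437 i) (Nat.ble (nat_lit 223744) i)
noncomputable def MR_n433 (i : Nat) : Nat := Bool.rec (motive := fun _ => Nat) (MR_438 i) (MR_439 i) (Nat.ble (nat_lit 224768) i)
noncomputable def MR_n434 (i : Nat) : Nat := Bool.rec (motive := fun _ => Nat) (MR_n432 i) (MR_n433 i) (Nat.ble (nat_lit 224256) i)
noncomputable def MR_n435 (i : Nat) : Nat := Bool.rec (motive := fun _ => Nat) (MR_n431 i) (MR_n434 i) (Nat.ble (nat_lit 223232) i)
noncomputable def MR_n436 (i : Nat) : Nat := Bool.rec (motive := fun _ => Nat) (MR_440 i) (MR_441 i) (Nat.ble (nat_lit 225792) i)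
noncomputable def MR_n437 (i : Nat) : Nat := Bool.rec (motive := fun _ => Nat) (MR_442 i) (MR_443 i) (Nat.ble (nat_lit 226816) i)
noncomputable def MR_n438 (i : Nat) : Nat := Bool.rec (motive := fun _ => Nat) (MR_n436 i) (MR_n437 i) (Nat.ble (nat_lit 226304) i)
noncomputable def MR_n439 (i : Nat) : Nat := Bool.rec (motive := fun _ => Nat) (MR_444 i) (MR_445 i) (Nat.ble (nat_lit 227840) i)
noncomputable def MR_n440 (i : Nat) : Nat := Bool.rec (motive := fun _ => Nat) (MR_446 i) (MR_447 i) (Nat.ble (nat_lit 228864) i)
noncomputable def MR_n441 (i : Nat) : Nat := Bool.rec (motive := fun _ => Nat) (MR_n439 i) (MR_n440 i) (Nat.ble (nat_lit 228352) i)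
noncomputable def MR_n442 (i : Nat) : Nat := Bool.rec (motive := fun _ => Nat) (MR_n438 i) (MR_n441 i) (Nat.ble (nat_lit 227328) i)
noncomputable def MR_n443 (i : Nat) : Nat := Bool.rec (motive := fun _ => Nat) (MR_n435 i) (MR_n442 i) (Nat.ble (nat_lit 225280) i)
noncomputable def MR_n444 (i : Nat) : Nat := Bool.rec (motive := fun _ => Nat) (MR_n428 i) (MR_n443 i) (Nat.ble (nat_lit 221184) i)
noncomputable def MR_n445 (i : Nat) : Nat := Bool.rec (motive := fun _ => Nat) (MR_n413 i) (MR_n444 i) (Nat.ble (nat_lit 212992) i)
noncomputable def MR_n446 (i : Nat) : Nat := Bool.rec (motive := fun _ => Nat) (MR_448 i) (MR_449 i) (Nat.ble (nat_lit 229888) i)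
noncomputable def MR_n447 (i : Nat) : Nat := Bool.rec (motive := fun _ => Nat) (MR_450 i) (MR_451 i) (Nat.ble (nat_lit 230912) i)
noncomputable def MR_n448 (i : Nat) : Nat := Bool.rec (motive := fun _ => Nat) (MR_n446 i) (MR_n447 i) (Nat.ble (nat_lit 230400) i)
noncomputable def MR_n449 (i : Nat) : Nat := Bool.rec (motive := fun _ => Nat) (MR_452 i) (MR_453 i) (Nat.ble (nat_lit 231936) i)
noncomputable def MR_n450 (i : Nat) : Nat := Bool.rec (motive := fun _ => Nat) (MR_454 i) (MR_455 i) (Nat.ble (nat_lit 232960) i)
noncomputable def MR_n451 (i : Nat) : Nat := Bool.rec (motive := fun _ => Nat) (MR_n449 i) (MR_n450 i) (Nat.ble (nat_lit 232448) i)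
noncomputable def MR_n452 (i : Nat) : Nat := Bool.rec (motive := fun _ => Nat) (MR_n448 i) (MR_n451 i) (Nat.ble (nat_lit 231424) i)
noncomputable def MR_n453 (i : Nat) : Nat := Bool.rec (motive := fun _ => Nat) (MR_456 i) (MR_457 i) (Nat.ble (nat_lit 233984) i)
noncomputable def MR_n454 (i : Nat) : Nat := Bool.rec (motive := fun _ => Nat) (MR_458 i) (MR_459 i) (Nat.ble (nat_lit 235008) i)
noncomputable def MR_n455 (i : Nat) : Nat := Bool.rec (motive := fun _ => Nat) (MR_n453 i) (MR_n454 i) (Nat.ble (nat_lit 234496) i)
noncomputable def MR_n456 (i : Nat) : Nat := Bool.rec (motive := fun _ => Nat) (MR_460 i) (MR_461 i) (Nat.ble (nat_lit 236032) i)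
noncomputable def MR_n457 (i : Nat) : Nat := Bool.rec (motive := fun _ => Nat) (MR_462 i) (MR_463 i) (Nat.ble (nat_lit 237056) i)
noncomputable def MR_n458 (i : Nat) : Nat := Bool.rec (motive := fun _ => Nat) (MR_n456 i) (MR_n457 i) (Nat.ble (nat_lit 236544) i)
noncomputable def MR_n459 (i : Nat) : Nat := Bool.rec (motive := fun _ => Nat) (MR_n455 i) (MR_n458 i) (Nat.ble (nat_lit 235520) i)
noncomputable def MR_n460 (i : Nat) : Nat := Bool.rec (motive := fun _ => Nat) (MR_n452 i) (MR_n459 i) (Nat.ble (nat_lit 233472) i)
noncomputable def MR_n461 (i : Nat) : Nat := Bool.rec (motive := fun _ => Nat) (MR_464 i) (MR_465 i) (Nat.ble (nat_lit 238080) i)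
noncomputable def MR_n462 (i : Nat) : Nat := Bool.rec (motive := fun _ => Nat) (MR_466 i) (MR_467 i) (Nat.ble (nat_lit 239104) i)
noncomputable def MR_n463 (i : Nat) : Nat := Bool.rec (motive := fun _ => Nat) (MR_n461 i) (MR_n462 i) (Nat.ble (nat_lit 238592) i)
noncomputable def MR_n464 (i : Nat) : Nat := Bool.rec (motive := fun _ => Nat) (MR_468 i) (MR_469 i) (Nat.ble (nat_lit 240128) i)
noncomputable def MR_n465 (i : Nat) : Nat := Bool.rec (motive := fun _ => Nat) (MR_470 i) (MR_471 i) (Nat.ble (nat_lit 241152) i)
noncomputable def MR_n466 (i : Nat) : Nat := Bool.rec (motive := fun _ => Nat) (MR_n464 i) (MR_n465 i) (Nat.ble (nat_lit 240640) i)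
noncomputable def MR_n467 (i : Nat) : Nat := Bool.rec (motive := fun _ => Nat) (MR_n463 i) (MR_n466 i) (Nat.ble (nat_lit 239616) i)
noncomputable def MR_n468 (i : Nat) : Nat := Bool.rec (motive := fun _ => Nat) (MR_472 i) (MR_473 i) (Nat.ble (nat_lit 242176) i)
noncomputable def MR_n469 (i : Nat) : Nat := Bool.rec (motive := fun _ => Nat) (MR_474 i) (MR_475 i) (Nat.ble (nat_lit 243200) i)
noncomputable def MR_n470 (i : Nat) : Nat := Bool.rec (motive := fun _ => Nat) (MR_n468 i) (MR_n469 i) (Nat.ble (nat_lit 242688) i)
noncomputable def MR_n471 (i : Nat) : Nat := Bool.rec (motive := fun _ => Nat) (MR_476 i) (MR_477 i) (Nat.ble (nat_lit 244224) i)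
noncomputable def MR_n472 (i : Nat) : Nat := Bool.rec (motive := fun _ => Nat) (MR_478 i) (MR_479 i) (Nat.ble (nat_lit 245248) i)
noncomputable def MR_n473 (i : Nat) : Nat := Bool.rec (motive := fun _ => Nat) (MR_n471 i) (MR_n472 i) (Nat.ble (nat_lit 244736) i)
noncomputable def MR_n474 (i : Nat) : Nat := Bool.rec (motive := fun _ => Nat) (MR_n470 i) (MR_n473 i) (Nat.ble (nat_lit 243712) i)
noncomputable def MR_n475 (i : Nat) : Nat := Bool.rec (motive := fun _ => Nat) (MR_n467 i) (MR_n474 i) (Nat.ble (nat_lit 241664) i)
noncomputable def MR_n476 (i : Nat) : Nat := Bool.rec (motive := fun _ => Nat) (MR_n460 i) (MR_n475 i) (Nat.ble (nat_lit 237568) i)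
noncomputable def MR_n477 (i : Nat) : Nat := Bool.rec (motive := fun _ => Nat) (MR_480 i) (MR_481 i) (Nat.ble (nat_lit 246272) i)
noncomputable def MR_n478 (i : Nat) : Nat := Bool.rec (motive := fun _ => Nat) (MR_482 i) (MR_483 i) (Nat.ble (nat_lit 247296) i)
noncomputable def MR_n479 (i : Nat) : Nat := Bool.rec (motive := fun _ => Nat) (MR_n477 i) (MR_n478 i) (Nat.ble (nat_lit 246784) i)
noncomputable def MR_n480 (i : Nat) : Nat := Bool.rec (motive := fun _ => Nat) (MR_484 i) (MR_485 i) (Nat.ble (nat_lit 248320) i)
noncomputable def MR_n481 (i : Nat) : Nat := Bool.rec (motive := fun _ => Nat) (MR_486 i) (MR_487 i) (Nat.ble (nat_lit 249344) i)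
noncomputable def MR_n482 (i : Nat) : Nat := Bool.rec (motive := fun _ => Nat) (MR_n480 i) (MR_n481 i) (Nat.ble (nat_lit 248832) i)
noncomputable def MR_n483 (i : Nat) : Nat := Bool.rec (motive := fun _ => Nat) (MR_n479 i) (MR_n482 i) (Nat.ble (nat_lit 247808) i)
noncomputable def MR_n484 (i : Nat) : Nat := Bool.rec (motive := fun _ => Nat) (MR_488 i) (MR_489 i) (Nat.ble (nat_lit 250368) i)
noncomputable def MR_n485 (i : Nat) : Nat := Bool.rec (motive := fun _ => Nat) (MR_490 i) (MR_491 i) (Nat.ble (nat_lit 251392) i)
noncomputable def MR_n486 (i : Nat) : Nat := Bool.rec (motive := fun _ => Nat) (MR_n484 i) (MR_n485 i) (Nat.ble (nat_lit 250880) i)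
noncomputable def MR_n487 (i : Nat) : Nat := Bool.rec (motive := fun _ => Nat) (MR_492 i) (MR_493 i) (Nat.ble (nat_lit 252416) i)
noncomputable def MR_n488 (i : Nat) : Nat := Bool.rec (motive := fun _ => Nat) (MR_494 i) (MR_495 i) (Nat.ble (nat_lit 253440) i)
noncomputable def MR_n489 (i : Nat) : Nat := Bool.rec (motive := fun _ => Nat) (MR_n487 i) (MR_n488 i) (Nat.ble (nat_lit 252928) i)
noncomputable def MR_n490 (i : Nat) : Nat := Bool.rec (motive := fun _ => Nat) (MR_n486 i) (MR_n489 i) (Nat.ble (nat_lit 251904) i)
noncomputable def MR_n491 (i : Nat) : Nat := Bool.rec (motive := fun _ => Nat) (MR_n483 i) (MR_n490 i) (Nat.ble (nat_lit 249856) i)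
noncomputable def MR_n492 (i : Nat) : Nat := Bool.rec (motive := fun _ => Nat) (MR_496 i) (MR_497 i) (Nat.ble (nat_lit 254464) i)
noncomputable def MR_n493 (i : Nat) : Nat := Bool.rec (motive := fun _ => Nat) (MR_498 i) (MR_499 i) (Nat.ble (nat_lit 255488) i)
noncomputable def MR_n494 (i : Nat) : Nat := Bool.rec (motive := fun _ => Nat) (MR_n492 i) (MR_n493 i) (Nat.ble (nat_lit 254976) i)
noncomputable def MR_n495 (i : Nat) : Nat := Bool.rec (motive := fun _ => Nat) (MR_500 i) (MR_501 i) (Nat.ble (nat_lit 256512) i)
noncomputable def MR_n496 (i : Nat) : Nat := Bool.rec (motive := fun _ => Nat) (MR_502 i) (MR_503 i) (Nat.ble (nat_lit 257536) i)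
noncomputable def MR_n497 (i : Nat) : Nat := Bool.rec (motive := fun _ => Nat) (MR_n495 i) (MR_n496 i) (Nat.ble (nat_lit 257024) i)
noncomputable def MR_n498 (i : Nat) : Nat := Bool.rec (motive := fun _ => Nat) (MR_n494 i) (MR_n497 i) (Nat.ble (nat_lit 256000) i)
noncomputable def MR_n499 (i : Nat) : Nat := Bool.rec (motive := fun _ => Nat) (MR_504 i) (MR_505 i) (Nat.ble (nat_lit 258560) i)
noncomputable def MR_n500 (i : Nat) : Nat := Bool.rec (motive := fun _ => Nat) (MR_506 i) (MR_507 i) (Nat.ble (nat_lit 259584) i)
noncomputable def MR_n501 (i : Nat) : Nat := Bool.rec (motive := fun _ => Nat) (MR_n499 i) (MR_n500 i) (Nat.ble (nat_lit 259072) i)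
noncomputable def MR_n502 (i : Nat) : Nat := Bool.rec (motive := fun _ => Nat) (MR_508 i) (MR_509 i) (Nat.ble (nat_lit 260608) i)
noncomputable def MR_n503 (i : Nat) : Nat := Bool.rec (motive := fun _ => Nat) (MR_510 i) (MR_511 i) (Nat.ble (nat_lit 261632) i)
noncomputable def MR_n504 (i : Nat) : Nat := Bool.rec (motive := fun _ => Nat) (MR_n502 i) (MR_n503 i) (Nat.ble (nat_lit 261120) i)
noncomputable def MR_n505 (i : Nat) : Nat := Bool.rec (motive := fun _ => Nat) (MR_n501 i) (MR_n504 i) (Nat.ble (nat_lit 260096) i)
noncomputable def MR_n506 (i : Nat) : Nat := Bool.rec (motive := fun _ => Nat) (MR_n498 i) (MR_n505 i) (Nat.ble (nat_lit 258048) i)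
noncomputable def MR_n507 (i : Nat) : Nat := Bool.rec (motive := fun _ => Nat) (MR_n491 i) (MR_n506 i) (Nat.ble (nat_lit 253952) i)
noncomputable def MR_n508 (i : Nat) : Nat := Bool.rec (motive := fun _ => Nat) (MR_n476 i) (MR_n507 i) (Nat.ble (nat_lit 245760) i)
noncomputable def MR_n509 (i : Nat) : Nat := Bool.rec (motive := fun _ => Nat) (MR_n445 i) (MR_n508 i) (Nat.ble (nat_lit 229376) i)
noncomputable def MR_n510 (i : Nat) : Nat := Bool.rec (motive := fun _ => Nat) (MR_n382 i) (MR_n509 i) (Nat.ble (nat_lit 196608) i)
noncomputable def MR_n511 (i : Nat) : Nat := Bool.rec (motive := fun _ => Nat) (MR_n255 i) (MR_n510 i) (Nat.ble (nat_lit 131072) i)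
noncomputable def MR_n512 (i : Nat) : Nat := Bool.rec (motive := fun _ => Nat) (MR_512 i) (MR_513 i) (Nat.ble (nat_lit 262656) i)
noncomputable def MR_n513 (i : Nat) : Nat := Bool.rec (motive := fun _ => Nat) (MR_514 i) (MR_515 i) (Nat.ble (nat_lit 263680) i)
noncomputable def MR_n514 (i : Nat) : Nat := Bool.rec (motive := fun _ => Nat) (MR_n512 i) (MR_n513 i) (Nat.ble (nat_lit 263168) i)
noncomputable def MR_n515 (i : Nat) : Nat := Bool.rec (motive := fun _ => Nat) (MR_516 i) (MR_517 i) (Nat.ble (nat_lit 264704) i)
noncomputable def MR_n516 (i : Nat) : Nat := Bool.rec (motive := fun _ => Nat) (MR_518 i) (MR_519 i) (Nat.ble (nat_lit 265728) i)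
noncomputable def MR_n517 (i : Nat) : Nat := Bool.rec (motive := fun _ => Nat) (MR_n515 i) (MR_n516 i) (Nat.ble (nat_lit 265216) i)
noncomputable def MR_n518 (i : Nat) : Nat := Bool.rec (motive := fun _ => Nat) (MR_n514 i) (MR_n517 i) (Nat.ble (nat_lit 264192) i)
noncomputable def MR_n519 (i : Nat) : Nat := Bool.rec (motive := fun _ => Nat) (MR_520 i) (MR_521 i) (Nat.ble (nat_lit 266752) i)
noncomputable def MR_n520 (i : Nat) : Nat := Bool.rec (motive := fun _ => Nat) (MR_522 i) (MR_523 i) (Nat.ble (nat_lit 267776) i)
noncomputable def MR_n521 (i : Nat) : Nat := Bool.rec (motive := fun _ => Nat) (MR_n519 i) (MR_n520 i) (Nat.ble (nat_lit 267264) i)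
noncomputable def MR_n522 (i : Nat) : Nat := Bool.rec (motive := fun _ => Nat) (MR_524 i) (MR_525 i) (Nat.ble (nat_lit 268800) i)
noncomputable def MR_n523 (i : Nat) : Nat := Bool.rec (motive := fun _ => Nat) (MR_526 i) (MR_527 i) (Nat.ble (nat_lit 269824) i)
noncomputable def MR_n524 (i : Nat) : Nat := Bool.rec (motive := fun _ => Nat) (MR_n522 i) (MR_n523 i) (Nat.ble (nat_lit 269312) i)
noncomputable def MR_n525 (i : Nat) : Nat := Bool.rec (motive := fun _ => Nat) (MR_n521 i) (MR_n524 i) (Nat.ble (nat_lit 268288) i)
noncomputable def MR_n526 (i : Nat) : Nat := Bool.rec (motive := fun _ => Nat) (MR_n518 i) (MR_n525 i) (Nat.ble (nat_lit 266240) i)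
noncomputable def MR_n527 (i : Nat) : Nat := Bool.rec (motive := fun _ => Nat) (MR_528 i) (MR_529 i) (Nat.ble (nat_lit 270848) i)
noncomputable def MR_n528 (i : Nat) : Nat := Bool.rec (motive := fun _ => Nat) (MR_530 i) (MR_531 i) (Nat.ble (nat_lit 271872) i)
noncomputable def MR_n529 (i : Nat) : Nat := Bool.rec (motive := fun _ => Nat) (MR_n527 i) (MR_n528 i) (Nat.ble (nat_lit 271360) i)
noncomputable def MR_n530 (i : Nat) : Nat := Bool.rec (motive := fun _ => Nat) (MR_532 i) (MR_533 i) (Nat.ble (nat_lit 272896) i)
noncomputable def MR_n531 (i : Nat) : Nat := Bool.rec (motive := fun _ => Nat) (MR_534 i) (MR_535 i) (Nat.ble (nat_lit 273920) i)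
noncomputable def MR_n532 (i : Nat) : Nat := Bool.rec (motive := fun _ => Nat) (MR_n530 i) (MR_n531 i) (Nat.ble (nat_lit 273408) i)
noncomputable def MR_n533 (i : Nat) : Nat := Bool.rec (motive := fun _ => Nat) (MR_n529 i) (MR_n532 i) (Nat.ble (nat_lit 272384) i)
noncomputable def MR_n534 (i : Nat) : Nat := Bool.rec (motive := fun _ => Nat) (MR_536 i) (MR_537 i) (Nat.ble (nat_lit 274944) i)
noncomputable def MR_n535 (i : Nat) : Nat := Bool.rec (motive := fun _ => Nat) (MR_538 i) (MR_539 i) (Nat.ble (nat_lit 275968) i)
noncomputable def MR_n536 (i : Nat) : Nat := Bool.rec (motive := fun _ => Nat) (MR_n534 i) (MR_n535 i) (Nat.ble (nat_lit 275456) i)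
noncomputable def MR_n537 (i : Nat) : Nat := Bool.rec (motive := fun _ => Nat) (MR_540 i) (MR_541 i) (Nat.ble (nat_lit 276992) i)
noncomputable def MR_n538 (i : Nat) : Nat := Bool.rec (motive := fun _ => Nat) (MR_542 i) (MR_543 i) (Nat.ble (nat_lit 278016) i)
noncomputable def MR_n539 (i : Nat) : Nat := Bool.rec (motive := fun _ => Nat) (MR_n537 i) (MR_n538 i) (Nat.ble (nat_lit 277504) i)
noncomputable def MR_n540 (i : Nat) : Nat := Bool.rec (motive := fun _ => Nat) (MR_n536 i) (MR_n539 i) (Nat.ble (nat_lit 276480) i)
noncomputable def MR_n541 (i : Nat) : Nat := Bool.rec (motive := fun _ => Nat) (MR_n533 i) (MR_n540 i) (Nat.ble (nat_lit 274432) i)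
noncomputable def MR_n542 (i : Nat) : Nat := Bool.rec (motive := fun _ => Nat) (MR_n526 i) (MR_n541 i) (Nat.ble (nat_lit 270336) i)
noncomputable def MR_n543 (i : Nat) : Nat := Bool.rec (motive := fun _ => Nat) (MR_544 i) (MR_545 i) (Nat.ble (nat_lit 279040) i)
noncomputable def MR_n544 (i : Nat) : Nat := Bool.rec (motive := fun _ => Nat) (MR_546 i) (MR_547 i) (Nat.ble (nat_lit 280064) i)
noncomputable def MR_n545 (i : Nat) : Nat := Bool.rec (motive := fun _ => Nat) (MR_n543 i) (MR_n544 i) (Nat.ble (nat_lit 279552) i)
noncomputable def MR_n546 (i : Nat) : Nat := Bool.rec (motive := fun _ => Nat) (MR_548 i) (MR_549 i) (Nat.ble (nat_lit 281088) i)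
noncomputable def MR_n547 (i : Nat) : Nat := Bool.rec (motive := fun _ => Nat) (MR_550 i) (MR_551 i) (Nat.ble (nat_lit 282112) i)
noncomputable def MR_n548 (i : Nat) : Nat := Bool.rec (motive := fun _ => Nat) (MR_n546 i) (MR_n547 i) (Nat.ble (nat_lit 281600) i)
noncomputable def MR_n549 (i : Nat) : Nat := Bool.rec (motive := fun _ => Nat) (MR_n545 i) (MR_n548 i) (Nat.ble (nat_lit 280576) i)
noncomputable def MR_n550 (i : Nat) : Nat := Bool.rec (motive := fun _ => Nat) (MR_552 i) (MR_553 i) (Nat.ble (nat_lit 283136) i)
noncomputable def MR_n551 (i : Nat) : Nat := Bool.rec (motive := fun _ => Nat) (MR_554 i) (MR_555 i) (Nat.ble (nat_lit 284160) i)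
noncomputable def MR_n552 (i : Nat) : Nat := Bool.rec (motive := fun _ => Nat) (MR_n550 i) (MR_n551 i) (Nat.ble (nat_lit 283648) i)
noncomputable def MR_n553 (i : Nat) : Nat := Bool.rec (motive := fun _ => Nat) (MR_556 i) (MR_557 i) (Nat.ble (nat_lit 285184) i)
noncomputable def MR_n554 (i : Nat) : Nat := Bool.rec (motive := fun _ => Nat) (MR_558 i) (MR_559 i) (Nat.ble (nat_lit 286208) i)
noncomputable def MR_n555 (i : Nat) : Nat := Bool.rec (motive := fun _ => Nat) (MR_n553 i) (MR_n554 i) (Nat.ble (nat_lit 285696) i)
noncomputable def MR_n556 (i : Nat) : Nat := Bool.rec (motive := fun _ => Nat) (MR_n552 i) (MR_n555 i) (Nat.ble (nat_lit 284672) i)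
noncomputable def MR_n557 (i : Nat) : Nat := Bool.rec (motive := fun _ => Nat) (MR_n549 i) (MR_n556 i) (Nat.ble (nat_lit 282624) i)
noncomputable def MR_n558 (i : Nat) : Nat := Bool.rec (motive := fun _ => Nat) (MR_560 i) (MR_561 i) (Nat.ble (nat_lit 287232) i)
noncomputable def MR_n559 (i : Nat) : Nat := Bool.rec (motive := fun _ => Nat) (MR_562 i) (MR_563 i) (Nat.ble (nat_lit 288256) i)
noncomputable def MR_n560 (i : Nat) : Nat := Bool.rec (motive := fun _ => Nat) (MR_n558 i) (MR_n559 i) (Nat.ble (nat_lit 287744) i)
noncomputable def MR_n561 (i : Nat) : Nat := Bool.rec (motive := fun _ => Nat) (MR_564 i) (MR_565 i) (Nat.ble (nat_lit 289280) i)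
noncomputable def MR_n562 (i : Nat) : Nat := Bool.rec (motive := fun _ => Nat) (MR_566 i) (MR_567 i) (Nat.ble (nat_lit 290304) i)
noncomputable def MR_n563 (i : Nat) : Nat := Bool.rec (motive := fun _ => Nat) (MR_n561 i) (MR_n562 i) (Nat.ble (nat_lit 289792) i)
noncomputable def MR_n564 (i : Nat) : Nat := Bool.rec (motive := fun _ => Nat) (MR_n560 i) (MR_n563 i) (Nat.ble (nat_lit 288768) i)
noncomputable def MR_n565 (i : Nat) : Nat := Bool.rec (motive := fun _ => Nat) (MR_568 i) (MR_569 i) (Nat.ble (nat_lit 291328) i)
noncomputable def MR_n566 (i : Nat) : Nat := Bool.rec (motive := fun _ => Nat) (MR_570 i) (MR_571 i) (Nat.ble (nat_lit 292352) i)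
noncomputable def MR_n567 (i : Nat) : Nat := Bool.rec (motive := fun _ => Nat) (MR_n565 i) (MR_n566 i) (Nat.ble (nat_lit 291840) i)
noncomputable def MR_n568 (i : Nat) : Nat := Bool.rec (motive := fun _ => Nat) (MR_572 i) (MR_573 i) (Nat.ble (nat_lit 293376) i)
noncomputable def MR_n569 (i : Nat) : Nat := Bool.rec (motive := fun _ => Nat) (MR_574 i) (MR_575 i) (Nat.ble (nat_lit 294400) i)
noncomputable def MR_n570 (i : Nat) : Nat := Bool.rec (motive := fun _ => Nat) (MR_n568 i) (MR_n569 i) (Nat.ble (nat_lit 293888) i)
noncomputable def MR_n571 (i : Nat) : Nat := Bool.rec (motive := fun _ => Nat) (MR_n567 i) (MR_n570 i) (Nat.ble (nat_lit 292864) i)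
noncomputable def MR_n572 (i : Nat) : Nat := Bool.rec (motive := fun _ => Nat) (MR_n564 i) (MR_n571 i) (Nat.ble (nat_lit 290816) i)
noncomputable def MR_n573 (i : Nat) : Nat := Bool.rec (motive := fun _ => Nat) (MR_n557 i) (MR_n572 i) (Nat.ble (nat_lit 286720) i)
noncomputable def MR_n574 (i : Nat) : Nat := Bool.rec (motive := fun _ => Nat) (MR_n542 i) (MR_n573 i) (Nat.ble (nat_lit 278528) i)
noncomputable def MR_n575 (i : Nat) : Nat := Bool.rec (motive := fun _ => Nat) (MR_576 i) (MR_577 i) (Nat.ble (nat_lit 295424) i)
noncomputable def MR_n576 (i : Nat) : Nat := Bool.rec (motive := fun _ => Nat) (MR_578 i) (MR_579 i) (Nat.ble (nat_lit 296448) i)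
noncomputable def MR_n577 (i : Nat) : Nat := Bool.rec (motive := fun _ => Nat) (MR_n575 i) (MR_n576 i) (Nat.ble (nat_lit 295936) i)
noncomputable def MR_n578 (i : Nat) : Nat := Bool.rec (motive := fun _ => Nat) (MR_580 i) (MR_581 i) (Nat.ble (nat_lit 297472) i)
noncomputable def MR_n579 (i : Nat) : Nat := Bool.rec (motive := fun _ => Nat) (MR_582 i) (MR_583 i) (Nat.ble (nat_lit 298496) i)
noncomputable def MR_n580 (i : Nat) : Nat := Bool.rec (motive := fun _ => Nat) (MR_n578 i) (MR_n579 i) (Nat.ble (nat_lit 297984) i)
noncomputable def MR_n581 (i : Nat) : Nat := Bool.rec (motive := fun _ => Nat) (MR_n577 i) (MR_n580 i) (Nat.ble (nat_lit 296960) i)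
noncomputable def MR_n582 (i : Nat) : Nat := Bool.rec (motive := fun _ => Nat) (MR_584 i) (MR_585 i) (Nat.ble (nat_lit 299520) i)
noncomputable def MR_n583 (i : Nat) : Nat := Bool.rec (motive := fun _ => Nat) (MR_586 i) (MR_587 i) (Nat.ble (nat_lit 300544) i)
noncomputable def MR_n584 (i : Nat) : Nat := Bool.rec (motive := fun _ => Nat) (MR_n582 i) (MR_n583 i) (Nat.ble (nat_lit 300032) i)
noncomputable def MR_n585 (i : Nat) : Nat := Bool.rec (motive := fun _ => Nat) (MR_588 i) (MR_589 i) (Nat.ble (nat_lit 301568) i)
noncomputable def MR_n586 (i : Nat) : Nat := Bool.rec (motive := fun _ => Nat) (MR_590 i) (MR_591 i) (Nat.ble (nat_lit 302592) i)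
noncomputable def MR_n587 (i : Nat) : Nat := Bool.rec (motive := fun _ => Nat) (MR_n585 i) (MR_n586 i) (Nat.ble (nat_lit 302080) i)
noncomputable def MR_n588 (i : Nat) : Nat := Bool.rec (motive := fun _ => Nat) (MR_n584 i) (MR_n587 i) (Nat.ble (nat_lit 301056) i)
noncomputable def MR_n589 (i : Nat) : Nat := Bool.rec (motive := fun _ => Nat) (MR_n581 i) (MR_n588 i) (Nat.ble (nat_lit 299008) i)
noncomputable def MR_n590 (i : Nat) : Nat := Bool.rec (motive := fun _ => Nat) (MR_592 i) (MR_593 i) (Nat.ble (nat_lit 303616) i)
noncomputable def MR_n591 (i : Nat) : Nat := Bool.rec (motive := fun _ => Nat) (MR_594 i) (MR_595 i) (Nat.ble (nat_lit 304640) i)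
noncomputable def MR_n592 (i : Nat) : Nat := Bool.rec (motive := fun _ => Nat) (MR_n590 i) (MR_n591 i) (Nat.ble (nat_lit 304128) i)
noncomputable def MR_n593 (i : Nat) : Nat := Bool.rec (motive := fun _ => Nat) (MR_596 i) (MR_597 i) (Nat.ble (nat_lit 305664) i)
noncomputable def MR_n594 (i : Nat) : Nat := Bool.rec (motive := fun _ => Nat) (MR_598 i) (MR_599 i) (Nat.ble (nat_lit 306688) i)
noncomputable def MR_n595 (i : Nat) : Nat := Bool.rec (motive := fun _ => Nat) (MR_n593 i) (MR_n594 i) (Nat.ble (nat_lit 306176) i)
noncomputable def MR_n596 (i : Nat) : Nat := Bool.rec (motive := fun _ => Nat) (MR_n592 i) (MR_n595 i) (Nat.ble (nat_lit 305152) i)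
noncomputable def MR_n597 (i : Nat) : Nat := Bool.rec (motive := fun _ => Nat) (MR_n596 i) (MR_600 i) (Nat.ble (nat_lit 307200) i)
noncomputable def MR_n598 (i : Nat) : Nat := Bool.rec (motive := fun _ => Nat) (MR_n589 i) (MR_n597 i) (Nat.ble (nat_lit 303104) i)
noncomputable def MR_n599 (i : Nat) : Nat := Bool.rec (motive := fun _ => Nat) (MR_n574 i) (MR_n598 i) (Nat.ble (nat_lit 294912) i)
noncomputable def MR_n600 (i : Nat) : Nat := Bool.rec (motive := fun _ => Nat) (MR_n511 i) (MR_n599 i) (Nat.ble (nat_lit 262144) i)
noncomputable abbrev MR : Nat → Nat := MR_n600
end H35.TCF24A
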