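import Cfsg.Agent.Lib.H35.TCF24A.Chk
set_option Elab.async false
set_option autoImplicit false
set_option maxRecDepth 100000
set_option linter.all false
namespace H35.TCF24A
open H35.TC
theorem r_200 : allB chkP 10 204800 = true := by decide +kernel
theorem r_201 : allB chkP 10 205824 = true := by decide +kernel
theorem r_202 : allB chkP 10 206848 = true := by decide +kernel
theorem r_203 : allB chkP 10 207872 = true := by decide +kernel
theorem r_204 : allB chkP 10 208896 = true := by decide +kernel
theorem r_205 : allB chkP 10 209920 = true := by decide +kernel
theorem r_206 : allB chkP 10 210944 = true := by decide +kernel
theorem r_207 : allB chkP 10 211968 = true := by decide +kernel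
theorem r_208 : allB chkP 10 212992 = true := by decide +kernel
theorem r_209 : allB chkP 10 214016 = true := by decide +kernel
theorem r_210 : allB chkP 10 215040 = true := by decide +kernel
theorem r_211 : allB chkP 10 216064 = true := by decide +kernel
theorem r_212 : allB chkP 10 217088 = true := by decide +kernel
theorem r_213 : allB chkP 10 218112 = true := by decide +kernel
theorem r_214 : allB chkP 10 219136 = true := by decide +kernel
theorem r_215 : allB chkP 10 220160 = true := by decide +kernel
theorem r_216 : allB chkP 10 221184 = true := by decide +kernel
theorem r_217 : allB chkP 10 222208 = true := by decide +kernel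
theorem r_218 : allB chkP 10 223232 = true := by decide +kernel
theorem r_219 : allB chkP 10 224256 = true := by decide +kernel
end H35.TCF24A
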