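import Cfsg.Agent.Lib.H35.TCF24A.Chk
set_option Elab.async false
set_option autoImplicit false
set_option maxRecDepth 100000
set_option linter.all false
namespace H35.TCF24A
open H35.TC
theorem r_40 : allB chkP 10 40960 = true := by decide +kernel
theorem r_41 : allB chkP 10 41984 = true := by decide +kernel
theorem r_42 : allB chkP 10 43008 = true := by decide +kernel
theorem r_43 : allB chkP 10 44032 = true := by decide +kernel
theorem r_44 : allB chkP 10 45056 = true := by decide +kernel
theorem r_45 : allB chkP 10 46080 = true := by decide +kernel
theorem r_46 : allB chkP 10 47104 = true := by decide +kernel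
theorem r_47 : allB chkP 10 48128 = true := by decide +kernel
theorem r_48 : allB chkP 10 49152 = true := by decide +kernel
theorem r_49 : allB chkP 10 50176 = true := by decide +kernel
theorem r_50 : allB chkP 10 51200 = true := by decide +kernel
theorem r_51 : allB chkP 10 52224 = true := by decide +kernel
theorem r_52 : allB chkP 10 53248 = true := by decide +kernel
theorem r_53 : allB chkP 10 54272 = true := by decide +kernel
theorem r_54 : allB chkP 10 55296 = true := by decide +kernel
theorem r_55 : allB chkP 10 56320 = true := by decide +kernel
theorem r_56 : allB chkP 10 57344 = true := by decide +kernel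
theorem r_57 : allB chkP 10 58368 = true := by decide +kernel
theorem r_58 : allB chkP 10 59392 = true := by decide +kernel
theorem r_59 : allB chkP 10 60416 = true := by decide +kernel
end H35.TCF24A
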