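import Cfsg.Agent.Lib.H35.TCF24A.Chk
set_option Elab.async false
set_option autoImplicit false
set_option maxRecDepth 100000
set_option linter.all false
namespace H35.TCF24A
open H35.TC
theorem r_160 : allB chkP 10 163840 = true := by decide +kernel
theorem r_161 : allB chkP 10 164864 = true := by decide +kernel
theorem r_162 : allB chkP 10 165888 = true := by decide +kernel
theorem r_163 : allB chkP 10 166912 = true := by decide +kernel
theorem r_164 : allB chkP 10 167936 = true := by decide +kernel
theorem r_165 : allB chkP 10 168960 = true := by decide +kernel
theorem r_166 : allB chkP 10 169984 = true := by decide +kernel
theorem r_167 : allB chkP 10 171008 = true := by decide +kernel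
theorem r_168 : allB chkP 10 172032 = true := by decide +kernel
theorem r_169 : allB chkP 10 173056 = true := by decide +kernel
theorem r_170 : allB chkP 10 174080 = true := by decide +kernel
theorem r_171 : allB chkP 10 175104 = true := by decide +kernel
theorem r_172 : allB chkP 10 176128 = true := by decide +kernel
theorem r_173 : allB chkP 10 177152 = true := by decide +kernel
theorem r_174 : allB chkP 10 178176 = true := by decide +kernel
theorem r_175 : allB chkP 10 179200 = true := by decide +kernel
theorem r_176 : allB chkP 10 180224 = true := by decide +kernel
theorem r_177 : allB chkP 10 181248 = true := by decide +kernel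
theorem r_178 : allB chkP 10 182272 = true := by decide +kernel
theorem r_179 : allB chkP 10 183296 = true := by decide +kernel
end H35.TCF24A
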