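import Cfsg.Agent.Lib.H35.TCF24A.Chk
set_option Elab.async false
set_option autoImplicit false
set_option maxRecDepth 100000
set_option linter.all false
namespace H35.TCF24A
open H35.TC
theorem r_180 : allB chkP 10 184320 = true := by decide +kernel
theorem r_181 : allB chkP 10 185344 = true := by decide +kernel
theorem r_182 : allB chkP 10 186368 = true := by decide +kernel
theorem r_183 : allB chkP 10 187392 = true := by decide +kernel
theorem r_184 : allB chkP 10 188416 = true := by decide +kernel
theorem r_185 : allB chkP 10 189440 = true := by decide +kernel
theorem r_186 : allB chkP 10 190464 = true := by decide +kernel
theorem r_187 : allB chkP 10 191488 = true := by decide +kernel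
theorem r_188 : allB chkP 10 192512 = true := by decide +kernel
theorem r_189 : allB chkP 10 193536 = true := by decide +kernel
theorem r_190 : allB chkP 10 194560 = true := by decide +kernel
theorem r_191 : allB chkP 10 195584 = true := by decide +kernel
theorem r_192 : allB chkP 10 196608 = true := by decide +kernel
theorem r_193 : allB chkP 10 197632 = true := by decide +kernel
theorem r_194 : allB chkP 10 198656 = true := by decide +kernel
theorem r_195 : allB chkP 10 199680 = true := by decide +kernel
theorem r_196 : allB chkP 10 200704 = true := by decide +kernel
theorem r_197 : allB chkP 10 201728 = true := by decide +kernel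
theorem r_198 : allB chkP 10 202752 = true := by decide +kernel
theorem r_199 : allB chkP 10 203776 = true := by decide +kernel
end H35.TCF24A
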