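import Cfsg.Agent.Lib.H35.TCF24A.Chk
set_option Elab.async false
set_option autoImplicit false
set_option maxRecDepth 100000
set_option linter.all false
namespace H35.TCF24A
open H35.TC
theorem r_260 : allB chkP 10 266240 = true := by decide +kernel
theorem r_261 : allB chkP 10 267264 = true := by decide +kernel
theorem r_262 : allB chkP 10 268288 = true := by decide +kernel
theorem r_263 : allB chkP 10 269312 = true := by decide +kernel
theorem r_264 : allB chkP 10 270336 = true := by decide +kernel
theorem r_265 : allB chkP 10 271360 = true := by decide +kernel
theorem r_266 : allB chkP 10 272384 = true := by decide +kernel
theorem r_267 : allB chkP 10 273408 = true := by decide +kernel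
theorem r_268 : allB chkP 10 274432 = true := by decide +kernel
theorem r_269 : allB chkP 10 275456 = true := by decide +kernel
theorem r_270 : allB chkP 10 276480 = true := by decide +kernel
theorem r_271 : allB chkP 10 277504 = true := by decide +kernel
theorem r_272 : allB chkP 10 278528 = true := by decide +kernel
theorem r_273 : allB chkP 10 279552 = true := by decide +kernel
theorem r_274 : allB chkP 10 280576 = true := by decide +kernel
theorem r_275 : allB chkP 10 281600 = true := by decide +kernel
theorem r_276 : allB chkP 10 282624 = true := by decide +kernel
theorem r_277 : allB chkP 10 283648 = true := by decide +kernel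
theorem r_278 : allB chkP 10 284672 = true := by decide +kernel
theorem r_279 : allB chkP 10 285696 = true := by decide +kernel
end H35.TCF24A
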