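import Cfsg.Agent.Lib.H35.TCF24A.Chk
set_option autoImplicit false
set_option maxRecDepth 100000
set_option linter.all false
namespace H35.TCF24A
open H35.TC
section
variable {G : Type} [Group G] {g : Lt → G} {H : Subgroup G}
/-- the points of the nodes -/
noncomputable def cP (g : Lt → G) (H : Subgroup G) : ℕ → G ⧸ H := cc (fa g) lt P ((1 : G) : G ⧸ H)
theorem dp_l_0_s (hinv : ∀ x, g (inv x) = (g x)⁻¹) (hr : ∀ r ∈ rels, (r.map g).prod = 1) (hH : ∀ r ∈ subs, (r.map g).prod ∈ H)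
    (j u : ℕ) (hu : u < M) (h : dp_l_0 j u = true) : Good (fa g) T MG M (cP g H) Lt.l u := by
  unfold dp_l_0 at h
  rcases brec_true h with h | h
  · exact lF3_good (T := T) (x := Lt.l) (by decide) .e .l .e (hole_rel hinv hr (by decide +kernel)) h
  · exact lF3_good (T := T) (x := Lt.l) (by decide) .b .l .b (hole_rel hinv hr (by decide +kernel)) h
theorem dp_l_1_s (hinv : ∀ x, g (inv x) = (g x)⁻¹) (hr : ∀ r ∈ rels, (r.map g).prod = 1) (hH : ∀ r ∈ subs, (r.map g).prod ∈ H)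
    (j u : ℕ) (hu : u < M) (h : dp_l_1 j u = true) : Good (fa g) T MG M (cP g H) Lt.l u := by
  unfold dp_l_1 at h
  rcases brec_true h with h | h
  · exact lF3_good (T := T) (x := Lt.l) (by decide) .f .l .f (hole_rel hinv hr (by decide +kernel)) h
  · exact lF3_good (T := T) (x := Lt.l) (by decide) .g .l .g (hole_rel hinv hr (by decide +kernel)) h
theorem dp_l_2_s (hinv : ∀ x, g (inv x) = (g x)⁻¹) (hr : ∀ r ∈ rels, (r.map g).prod = 1) (hH : ∀ r ∈ subs, (r.map g).prod ∈ H)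
    (j u : ℕ) (hu : u < M) (h : dp_l_2 j u = true) : Good (fa g) T MG M (cP g H) Lt.l u := by
  unfold dp_l_2 at h
  rcases brec_true h with h | h
  · exact lF_good (T := T) (x := Lt.l) (by decide) [Lt.k, Lt.l, Lt.k, Lt.l, Lt.k] (hole_rel hinv hr (by decide +kernel)) h
  · exact lH_good (T := T) (x := Lt.l) (by decide) [] [] (by rw [show cP g H 0 = _ from cc_zero]; exact sub_rel hinv (hH _ (by decide))) h
theorem dp_l_3_s (hinv : ∀ x, g (inv x) = (g x)⁻¹) (hr : ∀ r ∈ rels, (r.map g).prod = 1) (hH : ∀ r ∈ subs, (r.map g).prod ∈ H)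
    (j u : ℕ) (hu : u < M) (h : dp_l_3 j u = true) : Good (fa g) T MG M (cP g H) Lt.l u := by
  unfold dp_l_3 at h
  rcases brec_true h with h | h
  · exact lS_good (T := T) (x := Lt.l) (by decide) hu [Lt.g, Lt.l, Lt.g] (hole_rel hinv hr (by decide +kernel)) h
  · exact lS_good (T := T) (x := Lt.l) (by decide) hu [Lt.e, Lt.l, Lt.e] (hole_rel hinv hr (by decide +kernel)) h
theorem dp_l_4_s (hinv : ∀ x, g (inv x) = (g x)⁻¹) (hr : ∀ r ∈ rels, (r.map g).prod = 1) (hH : ∀ r ∈ subs, (r.map g).prod ∈ H)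
    (j u : ℕ) (hu : u < M) (h : dp_l_4 j u = true) : Good (fa g) T MG M (cP g H) Lt.l u := by
  unfold dp_l_4 at h
  rcases brec_true h with h | h
  · exact lS_good (T := T) (x := Lt.l) (by decide) hu [Lt.h, Lt.l, Lt.h] (hole_rel hinv hr (by decide +kernel)) h
  · exact lS_good (T := T) (x := Lt.l) (by decide) hu [Lt.j, Lt.l, Lt.j] (hole_rel hinv hr (by decide +kernel)) h
theorem dp_l_5_s (hinv : ∀ x, g (inv x) = (g x)⁻¹) (hr : ∀ r ∈ rels, (r.map g).prod = 1) (hH : ∀ r ∈ subs, (r.map g).prod ∈ H)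
    (j u : ℕ) (hu : u < M) (h : dp_l_5 j u = true) : Good (fa g) T MG M (cP g H) Lt.l u := by
  unfold dp_l_5 at h
  rcases brec_true h with h | h
  · exact lS_good (T := T) (x := Lt.l) (by decide) hu [Lt.i, Lt.l, Lt.i] (hole_rel hinv hr (by decide +kernel)) h
  · exact dp_l_4_s hinv hr hH j u hu h
theorem dp_l_6_s (hinv : ∀ x, g (inv x) = (g x)⁻¹) (hr : ∀ r ∈ rels, (r.map g).prod = 1) (hH : ∀ r ∈ subs, (r.map g).prod ∈ H)
    (j u : ℕ) (hu : u < M) (h : dp_l_6 j u = true) : Good (fa g) T MG M (cP g H) Lt.l u := by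
  unfold dp_l_6 at h
  rcases brec_true h with h | h
  · exact dp_l_3_s hinv hr hH j u hu h
  · exact dp_l_5_s hinv hr hH j u hu h
theorem dp_l_7_s (hinv : ∀ x, g (inv x) = (g x)⁻¹) (hr : ∀ r ∈ rels, (r.map g).prod = 1) (hH : ∀ r ∈ subs, (r.map g).prod ∈ H)
    (j u : ℕ) (hu : u < M) (h : dp_l_7 j u = true) : Good (fa g) T MG M (cP g H) Lt.l u := by
  unfold dp_l_7 at h
  rcases brec_true h with h | h
  · exact dp_l_2_s hinv hr hH j u hu h
  · exact dp_l_6_s hinv hr hH j u hu h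
theorem dp_l_8_s (hinv : ∀ x, g (inv x) = (g x)⁻¹) (hr : ∀ r ∈ rels, (r.map g).prod = 1) (hH : ∀ r ∈ subs, (r.map g).prod ∈ H)
    (j u : ℕ) (hu : u < M) (h : dp_l_8 j u = true) : Good (fa g) T MG M (cP g H) Lt.l u := by
  unfold dp_l_8 at h
  rcases brec_true h with h | h
  · exact lS_good (T := T) (x := Lt.l) (by decide) hu [Lt.l] (hole_rel hinv hr (by decide +kernel)) h
  · exact dp_l_7_s hinv hr hH j u hu h
theorem dp_l_9_s (hinv : ∀ x, g (inv x) = (g x)⁻¹) (hr : ∀ r ∈ rels, (r.map g).prod = 1) (hH : ∀ r ∈ subs, (r.map g).prod ∈ H)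
    (j u : ℕ) (hu : u < M) (h : dp_l_9 j u = true) : Good (fa g) T MG M (cP g H) Lt.l u := by
  unfold dp_l_9 at h
  rcases brec_true h with h | h
  · exact lPar_good (T := T) (x := Lt.l) (x' := Lt.l) (by decide) rfl (inv_rel hinv _ _ rfl) h
  · exact dp_l_8_s hinv hr hH j u hu h
theorem dp_l_10_s (hinv : ∀ x, g (inv x) = (g x)⁻¹) (hr : ∀ r ∈ rels, (r.map g).prod = 1) (hH : ∀ r ∈ subs, (r.map g).prod ∈ H)
    (j u : ℕ) (hu : u < M) (h : dp_l_10 j u = true) : Good (fa g) T MG M (cP g H) Lt.l u := by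
  unfold dp_l_10 at h
  rcases brec_true h with h | h
  · exact lDef_good (T := T) (x := Lt.l) (by decide) rfl h
  · exact dp_l_9_s hinv hr hH j u hu h
theorem dp_l_11_s (hinv : ∀ x, g (inv x) = (g x)⁻¹) (hr : ∀ r ∈ rels, (r.map g).prod = 1) (hH : ∀ r ∈ subs, (r.map g).prod ∈ H)
    (j u : ℕ) (hu : u < M) (h : dp_l_11 j u = true) : Good (fa g) T MG M (cP g H) Lt.l u := by
  unfold dp_l_11 at h
  rcases brec_true h with h | h
  · exact lF3_good (T := T) (x := Lt.l) (by decide) .j .l .j (hole_rel hinv hr (by decide +kernel)) h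
  · exact dp_l_10_s hinv hr hH j u hu h
theorem dp_l_12_s (hinv : ∀ x, g (inv x) = (g x)⁻¹) (hr : ∀ r ∈ rels, (r.map g).prod = 1) (hH : ∀ r ∈ subs, (r.map g).prod ∈ H)
    (j u : ℕ) (hu : u < M) (h : dp_l_12 j u = true) : Good (fa g) T MG M (cP g H) Lt.l u := by
  unfold dp_l_12 at h
  rcases brec_true h with h | h
  · exact lF3_good (T := T) (x := Lt.l) (by decide) .a .l .a (hole_rel hinv hr (by decide +kernel)) h
  · exact dp_l_11_s hinv hr hH j u hu h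
theorem dp_l_13_s (hinv : ∀ x, g (inv x) = (g x)⁻¹) (hr : ∀ r ∈ rels, (r.map g).prod = 1) (hH : ∀ r ∈ subs, (r.map g).prod ∈ H)
    (j u : ℕ) (hu : u < M) (h : dp_l_13 j u = true) : Good (fa g) T MG M (cP g H) Lt.l u := by
  unfold dp_l_13 at h
  rcases brec_true h with h | h
  · exact dp_l_1_s hinv hr hH j u hu h
  · exact dp_l_12_s hinv hr hH j u hu h
theorem dp_l_14_s (hinv : ∀ x, g (inv x) = (g x)⁻¹) (hr : ∀ r ∈ rels, (r.map g).prod = 1) (hH : ∀ r ∈ subs, (r.map g).prod ∈ H)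
    (j u : ℕ) (hu : u < M) (h : dp_l_14 j u = true) : Good (fa g) T MG M (cP g H) Lt.l u := by
  unfold dp_l_14 at h
  rcases brec_true h with h | h
  · exact dp_l_0_s hinv hr hH j u hu h
  · exact dp_l_13_s hinv hr hH j u hu h
theorem dp_l_15_s (hinv : ∀ x, g (inv x) = (g x)⁻¹) (hr : ∀ r ∈ rels, (r.map g).prod = 1) (hH : ∀ r ∈ subs, (r.map g).prod ∈ H)
    (j u : ℕ) (hu : u < M) (h : dp_l_15 j u = true) : Good (fa g) T MG M (cP g H) Lt.l u := by
  unfold dp_l_15 at h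
  rcases brec_true h with h | h
  · rcases brec_true h with h | h
    · exact lF3_good (T := T) (x := Lt.l) (by decide) .d .l .d (hole_rel hinv hr (by decide +kernel)) h
    · rcases brec_true h with h | h
      · exact lF3_good (T := T) (x := Lt.l) (by decide) .i .l .i (hole_rel hinv hr (by decide +kernel)) h
      · exact lF3_good (T := T) (x := Lt.l) (by decide) .c .l .c (hole_rel hinv hr (by decide +kernel)) h
  · exact dp_l_14_s hinv hr hH j u hu h
theorem snd_l (hinv : ∀ x, g (inv x) = (g x)⁻¹) (hr : ∀ r ∈ rels, (r.map g).prod = 1) (hH : ∀ r ∈ subs, (r.map g).prod ∈ H)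
    (j u : ℕ) (hu : u < M) (h : disp_l j u = true) : Good (fa g) T MG M (cP g H) Lt.l u := by
  unfold disp_l at h
  rcases brec_true h with h | h
  · rcases brec_true h with h | h
    · exact lF1_good (T := T) (x := Lt.l) (by decide) .l (hole_rel hinv hr (by decide +kernel)) h
    · exact lF3_good (T := T) (x := Lt.l) (by decide) .h .l .h (hole_rel hinv hr (by decide +kernel)) h
  · exact dp_l_15_s hinv hr hH j u hu h
theorem snc_l (hinv : ∀ x, g (inv x) = (g x)⁻¹) (hr : ∀ r ∈ rels, (r.map g).prod = 1) (hH : ∀ r ∈ subs, (r.map g).prod ∈ H)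
    (j u : ℕ) (hu : u < M) (h : chk_l j u = true) : (T Lt.l u < A ∧ Good (fa g) T MG M (cP g H) Lt.l u) ∨ (A ≤ T Lt.l u ∧ MG u < A) := by
  unfold chk_l at h
  cases hb : Nat.ble A (T_l u) with
  | true => rw [hb] at h; exact Or.inr ⟨le_of_ble hb, le_of_ble h⟩
  | false => rw [hb] at h; exact Or.inl ⟨lt_of_ble_false hb, snd_l hinv hr hH j u hu h⟩
theorem dp_k_0_s (hinv : ∀ x, g (inv x) = (g x)⁻¹) (hr : ∀ r ∈ rels, (r.map g).prod = 1) (hH : ∀ r ∈ subs, (r.map g).prod ∈ H)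
    (j u : ℕ) (hu : u < M) (h : dp_k_0 j u = true) : Good (fa g) T MG M (cP g H) Lt.k u := by
  unfold dp_k_0 at h
  rcases brec_true h with h | h
  · exact lF3_good (T := T) (x := Lt.k) (by decide) .f .k .f (hole_rel hinv hr (by decide +kernel)) h
  · exact lF3_good (T := T) (x := Lt.k) (by decide) .c .k .c (hole_rel hinv hr (by decide +kernel)) h
theorem dp_k_1_s (hinv : ∀ x, g (inv x) = (g x)⁻¹) (hr : ∀ r ∈ rels, (r.map g).prod = 1) (hH : ∀ r ∈ subs, (r.map g).prod ∈ H)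
    (j u : ℕ) (hu : u < M) (h : dp_k_1 j u = true) : Good (fa g) T MG M (cP g H) Lt.k u := by
  unfold dp_k_1 at h
  rcases brec_true h with h | h
  · exact lS_good (T := T) (x := Lt.k) (by decide) hu [Lt.j, Lt.k, Lt.j] (hole_rel hinv hr (by decide +kernel)) h
  · exact lS_good (T := T) (x := Lt.k) (by decide) hu [Lt.i, Lt.k, Lt.i] (hole_rel hinv hr (by decide +kernel)) h
theorem dp_k_2_s (hinv : ∀ x, g (inv x) = (g x)⁻¹) (hr : ∀ r ∈ rels, (r.map g).prod = 1) (hH : ∀ r ∈ subs, (r.map g).prod ∈ H)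
    (j u : ℕ) (hu : u < M) (h : dp_k_2 j u = true) : Good (fa g) T MG M (cP g H) Lt.k u := by
  unfold dp_k_2 at h
  rcases brec_true h with h | h
  · exact lS_good (T := T) (x := Lt.k) (by decide) hu [Lt.h, Lt.k, Lt.h] (hole_rel hinv hr (by decide +kernel)) h
  · exact dp_k_1_s hinv hr hH j u hu h
theorem dp_k_3_s (hinv : ∀ x, g (inv x) = (g x)⁻¹) (hr : ∀ r ∈ rels, (r.map g).prod = 1) (hH : ∀ r ∈ subs, (r.map g).prod ∈ H)
    (j u : ℕ) (hu : u < M) (h : dp_k_3 j u = true) : Good (fa g) T MG M (cP g H) Lt.k u := by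
  unfold dp_k_3 at h
  rcases brec_true h with h | h
  · exact lS_good (T := T) (x := Lt.k) (by decide) hu [Lt.k] (hole_rel hinv hr (by decide +kernel)) h
  · exact dp_k_2_s hinv hr hH j u hu h
theorem dp_k_4_s (hinv : ∀ x, g (inv x) = (g x)⁻¹) (hr : ∀ r ∈ rels, (r.map g).prod = 1) (hH : ∀ r ∈ subs, (r.map g).prod ∈ H)
    (j u : ℕ) (hu : u < M) (h : dp_k_4 j u = true) : Good (fa g) T MG M (cP g H) Lt.k u := by
  unfold dp_k_4 at h
  rcases brec_true h with h | h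
  · exact lF_good (T := T) (x := Lt.k) (by decide) [Lt.a, Lt.k, Lt.a, Lt.k, Lt.a] (hole_rel hinv hr (by decide +kernel)) h
  · exact dp_k_3_s hinv hr hH j u hu h
theorem dp_k_5_s (hinv : ∀ x, g (inv x) = (g x)⁻¹) (hr : ∀ r ∈ rels, (r.map g).prod = 1) (hH : ∀ r ∈ subs, (r.map g).prod ∈ H)
    (j u : ℕ) (hu : u < M) (h : dp_k_5 j u = true) : Good (fa g) T MG M (cP g H) Lt.k u := by
  unfold dp_k_5 at h
  rcases brec_true h with h | h
  · exact lF_good (T := T) (x := Lt.k) (by decide) [Lt.l, Lt.k, Lt.l, Lt.k, Lt.l] (hole_rel hinv hr (by decide +kernel)) h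
  · exact dp_k_4_s hinv hr hH j u hu h
theorem dp_k_6_s (hinv : ∀ x, g (inv x) = (g x)⁻¹) (hr : ∀ r ∈ rels, (r.map g).prod = 1) (hH : ∀ r ∈ subs, (r.map g).prod ∈ H)
    (j u : ℕ) (hu : u < M) (h : dp_k_6 j u = true) : Good (fa g) T MG M (cP g H) Lt.k u := by
  unfold dp_k_6 at h
  rcases brec_true h with h | h
  · exact lPar_good (T := T) (x := Lt.k) (x' := Lt.k) (by decide) rfl (inv_rel hinv _ _ rfl) h
  · exact dp_k_5_s hinv hr hH j u hu h
theorem dp_k_7_s (hinv : ∀ x, g (inv x) = (g x)⁻¹) (hr : ∀ r ∈ rels, (r.map g).prod = 1) (hH : ∀ r ∈ subs, (r.map g).prod ∈ H)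
    (j u : ℕ) (hu : u < M) (h : dp_k_7 j u = true) : Good (fa g) T MG M (cP g H) Lt.k u := by
  unfold dp_k_7 at h
  rcases brec_true h with h | h
  · exact lDef_good (T := T) (x := Lt.k) (by decide) rfl h
  · exact dp_k_6_s hinv hr hH j u hu h
theorem dp_k_8_s (hinv : ∀ x, g (inv x) = (g x)⁻¹) (hr : ∀ r ∈ rels, (r.map g).prod = 1) (hH : ∀ r ∈ subs, (r.map g).prod ∈ H)
    (j u : ℕ) (hu : u < M) (h : dp_k_8 j u = true) : Good (fa g) T MG M (cP g H) Lt.k u := by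
  unfold dp_k_8 at h
  rcases brec_true h with h | h
  · exact lF3_good (T := T) (x := Lt.k) (by decide) .b .k .b (hole_rel hinv hr (by decide +kernel)) h
  · exact dp_k_7_s hinv hr hH j u hu h
theorem dp_k_9_s (hinv : ∀ x, g (inv x) = (g x)⁻¹) (hr : ∀ r ∈ rels, (r.map g).prod = 1) (hH : ∀ r ∈ subs, (r.map g).prod ∈ H)
    (j u : ℕ) (hu : u < M) (h : dp_k_9 j u = true) : Good (fa g) T MG M (cP g H) Lt.k u := by
  unfold dp_k_9 at h
  rcases brec_true h with h | h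
  · exact lF3_good (T := T) (x := Lt.k) (by decide) .j .k .j (hole_rel hinv hr (by decide +kernel)) h
  · exact dp_k_8_s hinv hr hH j u hu h
theorem dp_k_10_s (hinv : ∀ x, g (inv x) = (g x)⁻¹) (hr : ∀ r ∈ rels, (r.map g).prod = 1) (hH : ∀ r ∈ subs, (r.map g).prod ∈ H)
    (j u : ℕ) (hu : u < M) (h : dp_k_10 j u = true) : Good (fa g) T MG M (cP g H) Lt.k u := by
  unfold dp_k_10 at h
  rcases brec_true h with h | h
  · exact lF3_good (T := T) (x := Lt.k) (by decide) .g .k .g (hole_rel hinv hr (by decide +kernel)) h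
  · exact dp_k_9_s hinv hr hH j u hu h
theorem dp_k_11_s (hinv : ∀ x, g (inv x) = (g x)⁻¹) (hr : ∀ r ∈ rels, (r.map g).prod = 1) (hH : ∀ r ∈ subs, (r.map g).prod ∈ H)
    (j u : ℕ) (hu : u < M) (h : dp_k_11 j u = true) : Good (fa g) T MG M (cP g H) Lt.k u := by
  unfold dp_k_11 at h
  rcases brec_true h with h | h
  · exact dp_k_0_s hinv hr hH j u hu h
  · exact dp_k_10_s hinv hr hH j u hu h
theorem dp_k_12_s (hinv : ∀ x, g (inv x) = (g x)⁻¹) (hr : ∀ r ∈ rels, (r.map g).prod = 1) (hH : ∀ r ∈ subs, (r.map g).prod ∈ H)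
    (j u : ℕ) (hu : u < M) (h : dp_k_12 j u = true) : Good (fa g) T MG M (cP g H) Lt.k u := by
  unfold dp_k_12 at h
  rcases brec_true h with h | h
  · rcases brec_true h with h | h
    · exact lF3_good (T := T) (x := Lt.k) (by decide) .h .k .h (hole_rel hinv hr (by decide +kernel)) h
    · rcases brec_true h with h | h
      · exact lF3_good (T := T) (x := Lt.k) (by decide) .d .k .d (hole_rel hinv hr (by decide +kernel)) h
      · exact lF3_good (T := T) (x := Lt.k) (by decide) .e .k .e (hole_rel hinv hr (by decide +kernel)) h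
  · exact dp_k_11_s hinv hr hH j u hu h
theorem snd_k (hinv : ∀ x, g (inv x) = (g x)⁻¹) (hr : ∀ r ∈ rels, (r.map g).prod = 1) (hH : ∀ r ∈ subs, (r.map g).prod ∈ H)
    (j u : ℕ) (hu : u < M) (h : disp_k j u = true) : Good (fa g) T MG M (cP g H) Lt.k u := by
  unfold disp_k at h
  rcases brec_true h with h | h
  · rcases brec_true h with h | h
    · exact lF1_good (T := T) (x := Lt.k) (by decide) .k (hole_rel hinv hr (by decide +kernel)) h
    · exact lF3_good (T := T) (x := Lt.k) (by decide) .i .k .i (hole_rel hinv hr (by decide +kernel)) h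
  · exact dp_k_12_s hinv hr hH j u hu h
theorem snc_k (hinv : ∀ x, g (inv x) = (g x)⁻¹) (hr : ∀ r ∈ rels, (r.map g).prod = 1) (hH : ∀ r ∈ subs, (r.map g).prod ∈ H)
    (j u : ℕ) (hu : u < M) (h : chk_k j u = true) : (T Lt.k u < A ∧ Good (fa g) T MG M (cP g H) Lt.k u) ∨ (A ≤ T Lt.k u ∧ MG u < A) := by
  unfold chk_k at h
  cases hb : Nat.ble A (T_k u) with
  | true => rw [hb] at h; exact Or.inr ⟨le_of_ble hb, le_of_ble h⟩
  | false => rw [hb] at h; exact Or.inl ⟨lt_of_ble_false hb, snd_k hinv hr hH j u hu h⟩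
theorem dp_a_0_s (hinv : ∀ x, g (inv x) = (g x)⁻¹) (hr : ∀ r ∈ rels, (r.map g).prod = 1) (hH : ∀ r ∈ subs, (r.map g).prod ∈ H)
    (j u : ℕ) (hu : u < M) (h : dp_a_0 j u = true) : Good (fa g) T MG M (cP g H) Lt.a u := by
  unfold dp_a_0 at h
  rcases brec_true h with h | h
  · exact lF3_good (T := T) (x := Lt.a) (by decide) .f .a .f (hole_rel hinv hr (by decide +kernel)) h
  · exact lF3_good (T := T) (x := Lt.a) (by decide) .g .a .g (hole_rel hinv hr (by decide +kernel)) h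
theorem dp_a_1_s (hinv : ∀ x, g (inv x) = (g x)⁻¹) (hr : ∀ r ∈ rels, (r.map g).prod = 1) (hH : ∀ r ∈ subs, (r.map g).prod ∈ H)
    (j u : ℕ) (hu : u < M) (h : dp_a_1 j u = true) : Good (fa g) T MG M (cP g H) Lt.a u := by
  unfold dp_a_1 at h
  rcases brec_true h with h | h
  · exact lF3_good (T := T) (x := Lt.a) (by decide) .c .a .c (hole_rel hinv hr (by decide +kernel)) h
  · exact lF3_good (T := T) (x := Lt.a) (by decide) .j .a .j (hole_rel hinv hr (by decide +kernel)) h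
theorem dp_a_2_s (hinv : ∀ x, g (inv x) = (g x)⁻¹) (hr : ∀ r ∈ rels, (r.map g).prod = 1) (hH : ∀ r ∈ subs, (r.map g).prod ∈ H)
    (j u : ℕ) (hu : u < M) (h : dp_a_2 j u = true) : Good (fa g) T MG M (cP g H) Lt.a u := by
  unfold dp_a_2 at h
  rcases brec_true h with h | h
  · exact lF_good (T := T) (x := Lt.a) (by decide) [Lt.b, Lt.a, Lt.b, Lt.a, Lt.b] (hole_rel hinv hr (by decide +kernel)) h
  · exact lF_good (T := T) (x := Lt.a) (by decide) [Lt.k, Lt.a, Lt.k, Lt.a, Lt.k] (hole_rel hinv hr (by decide +kernel)) h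
theorem dp_a_3_s (hinv : ∀ x, g (inv x) = (g x)⁻¹) (hr : ∀ r ∈ rels, (r.map g).prod = 1) (hH : ∀ r ∈ subs, (r.map g).prod ∈ H)
    (j u : ℕ) (hu : u < M) (h : dp_a_3 j u = true) : Good (fa g) T MG M (cP g H) Lt.a u := by
  unfold dp_a_3 at h
  rcases brec_true h with h | h
  · exact lS_good (T := T) (x := Lt.a) (by decide) hu [Lt.i, Lt.a, Lt.i] (hole_rel hinv hr (by decide +kernel)) h
  · exact lS_good (T := T) (x := Lt.a) (by decide) hu [Lt.j, Lt.a, Lt.j] (hole_rel hinv hr (by decide +kernel)) h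
theorem dp_a_4_s (hinv : ∀ x, g (inv x) = (g x)⁻¹) (hr : ∀ r ∈ rels, (r.map g).prod = 1) (hH : ∀ r ∈ subs, (r.map g).prod ∈ H)
    (j u : ℕ) (hu : u < M) (h : dp_a_4 j u = true) : Good (fa g) T MG M (cP g H) Lt.a u := by
  unfold dp_a_4 at h
  rcases brec_true h with h | h
  · exact lS_good (T := T) (x := Lt.a) (by decide) hu [Lt.g, Lt.a, Lt.g] (hole_rel hinv hr (by decide +kernel)) h
  · exact lS_good (T := T) (x := Lt.a) (by decide) hu [Lt.e, Lt.a, Lt.e] (hole_rel hinv hr (by decide +kernel)) h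
theorem dp_a_5_s (hinv : ∀ x, g (inv x) = (g x)⁻¹) (hr : ∀ r ∈ rels, (r.map g).prod = 1) (hH : ∀ r ∈ subs, (r.map g).prod ∈ H)
    (j u : ℕ) (hu : u < M) (h : dp_a_5 j u = true) : Good (fa g) T MG M (cP g H) Lt.a u := by
  unfold dp_a_5 at h
  rcases brec_true h with h | h
  · exact lS_good (T := T) (x := Lt.a) (by decide) hu [Lt.d, Lt.a, Lt.d] (hole_rel hinv hr (by decide +kernel)) h
  · exact lH_good (T := T) (x := Lt.a) (by decide) [] [] (by rw [show cP g H 0 = _ from cc_zero]; exact sub_rel hinv (hH _ (by decide))) h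
theorem dp_a_6_s (hinv : ∀ x, g (inv x) = (g x)⁻¹) (hr : ∀ r ∈ rels, (r.map g).prod = 1) (hH : ∀ r ∈ subs, (r.map g).prod ∈ H)
    (j u : ℕ) (hu : u < M) (h : dp_a_6 j u = true) : Good (fa g) T MG M (cP g H) Lt.a u := by
  unfold dp_a_6 at h
  rcases brec_true h with h | h
  · exact lS_good (T := T) (x := Lt.a) (by decide) hu [Lt.c, Lt.a, Lt.c] (hole_rel hinv hr (by decide +kernel)) h
  · exact lF_good (T := T) (x := Lt.a) (by decide) [Lt.h, Lt.f, Lt.e, Lt.d, Lt.c, Lt.b, Lt.a, Lt.h, Lt.f, Lt.e, Lt.d, Lt.c, Lt.b, Lt.a, Lt.h, Lt.f, Lt.e, Lt.d, Lt.c, Lt.b, Lt.a, Lt.h, Lt.f, Lt.e, Lt.d, Lt.c, Lt.b, Lt.a, Lt.h, Lt.f, Lt.e, Lt.d, Lt.c, Lt.b, Lt.a, Lt.l, Lt.h, Lt.f, Lt.e, Lt.d, Lt.c, Lt.b, Lt.a, Lt.h, Lt.f, Lt.e, Lt.d, Lt.c, Lt.b, Lt.a, Lt.h, Lt.f, Lt.e, Lt.d, Lt.c, Lt.b, Lt.a, Lt.h, Lt.f, Lt.e, Lt.d, Lt.c, Lt.b] (hole_rel hinv hr (by decide +kernel)) h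
theorem dp_a_7_s (hinv : ∀ x, g (inv x) = (g x)⁻¹) (hr : ∀ r ∈ rels, (r.map g).prod = 1) (hH : ∀ r ∈ subs, (r.map g).prod ∈ H)
    (j u : ℕ) (hu : u < M) (h : dp_a_7 j u = true) : Good (fa g) T MG M (cP g H) Lt.a u := by
  unfold dp_a_7 at h
  rcases brec_true h with h | h
  · exact lS_good (T := T) (x := Lt.a) (by decide) hu [Lt.h, Lt.a, Lt.h] (hole_rel hinv hr (by decide +kernel)) h
  · exact dp_a_6_s hinv hr hH j u hu h
theorem dp_a_8_s (hinv : ∀ x, g (inv x) = (g x)⁻¹) (hr : ∀ r ∈ rels, (r.map g).prod = 1) (hH : ∀ r ∈ subs, (r.map g).prod ∈ H)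
    (j u : ℕ) (hu : u < M) (h : dp_a_8 j u = true) : Good (fa g) T MG M (cP g H) Lt.a u := by
  unfold dp_a_8 at h
  rcases brec_true h with h | h
  · exact dp_a_5_s hinv hr hH j u hu h
  · exact dp_a_7_s hinv hr hH j u hu h
theorem dp_a_9_s (hinv : ∀ x, g (inv x) = (g x)⁻¹) (hr : ∀ r ∈ rels, (r.map g).prod = 1) (hH : ∀ r ∈ subs, (r.map g).prod ∈ H)
    (j u : ℕ) (hu : u < M) (h : dp_a_9 j u = true) : Good (fa g) T MG M (cP g H) Lt.a u := by
  unfold dp_a_9 at h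
  rcases brec_true h with h | h
  · exact dp_a_4_s hinv hr hH j u hu h
  · exact dp_a_8_s hinv hr hH j u hu h
theorem dp_a_10_s (hinv : ∀ x, g (inv x) = (g x)⁻¹) (hr : ∀ r ∈ rels, (r.map g).prod = 1) (hH : ∀ r ∈ subs, (r.map g).prod ∈ H)
    (j u : ℕ) (hu : u < M) (h : dp_a_10 j u = true) : Good (fa g) T MG M (cP g H) Lt.a u := by
  unfold dp_a_10 at h
  rcases brec_true h with h | h
  · exact dp_a_3_s hinv hr hH j u hu h
  · exact dp_a_9_s hinv hr hH j u hu h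
theorem dp_a_11_s (hinv : ∀ x, g (inv x) = (g x)⁻¹) (hr : ∀ r ∈ rels, (r.map g).prod = 1) (hH : ∀ r ∈ subs, (r.map g).prod ∈ H)
    (j u : ℕ) (hu : u < M) (h : dp_a_11 j u = true) : Good (fa g) T MG M (cP g H) Lt.a u := by
  unfold dp_a_11 at h
  rcases brec_true h with h | h
  · exact lS_good (T := T) (x := Lt.a) (by decide) hu [Lt.a] (hole_rel hinv hr (by decide +kernel)) h
  · exact dp_a_10_s hinv hr hH j u hu h
theorem dp_a_12_s (hinv : ∀ x, g (inv x) = (g x)⁻¹) (hr : ∀ r ∈ rels, (r.map g).prod = 1) (hH : ∀ r ∈ subs, (r.map g).prod ∈ H)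
    (j u : ℕ) (hu : u < M) (h : dp_a_12 j u = true) : Good (fa g) T MG M (cP g H) Lt.a u := by
  unfold dp_a_12 at h
  rcases brec_true h with h | h
  · exact dp_a_2_s hinv hr hH j u hu h
  · exact dp_a_11_s hinv hr hH j u hu h
theorem dp_a_13_s (hinv : ∀ x, g (inv x) = (g x)⁻¹) (hr : ∀ r ∈ rels, (r.map g).prod = 1) (hH : ∀ r ∈ subs, (r.map g).prod ∈ H)
    (j u : ℕ) (hu : u < M) (h : dp_a_13 j u = true) : Good (fa g) T MG M (cP g H) Lt.a u := by
  unfold dp_a_13 at h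
  rcases brec_true h with h | h
  · exact lF3_good (T := T) (x := Lt.a) (by decide) .l .a .l (hole_rel hinv hr (by decide +kernel)) h
  · exact dp_a_12_s hinv hr hH j u hu h
theorem dp_a_14_s (hinv : ∀ x, g (inv x) = (g x)⁻¹) (hr : ∀ r ∈ rels, (r.map g).prod = 1) (hH : ∀ r ∈ subs, (r.map g).prod ∈ H)
    (j u : ℕ) (hu : u < M) (h : dp_a_14 j u = true) : Good (fa g) T MG M (cP g H) Lt.a u := by
  unfold dp_a_14 at h
  rcases brec_true h with h | h
  · exact lPar_good (T := T) (x := Lt.a) (x' := Lt.a) (by decide) rfl (inv_rel hinv _ _ rfl) h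
  · exact dp_a_13_s hinv hr hH j u hu h
theorem dp_a_15_s (hinv : ∀ x, g (inv x) = (g x)⁻¹) (hr : ∀ r ∈ rels, (r.map g).prod = 1) (hH : ∀ r ∈ subs, (r.map g).prod ∈ H)
    (j u : ℕ) (hu : u < M) (h : dp_a_15 j u = true) : Good (fa g) T MG M (cP g H) Lt.a u := by
  unfold dp_a_15 at h
  rcases brec_true h with h | h
  · exact lDef_good (T := T) (x := Lt.a) (by decide) rfl h
  · exact dp_a_14_s hinv hr hH j u hu h
theorem dp_a_16_s (hinv : ∀ x, g (inv x) = (g x)⁻¹) (hr : ∀ r ∈ rels, (r.map g).prod = 1) (hH : ∀ r ∈ subs, (r.map g).prod ∈ H)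
    (j u : ℕ) (hu : u < M) (h : dp_a_16 j u = true) : Good (fa g) T MG M (cP g H) Lt.a u := by
  unfold dp_a_16 at h
  rcases brec_true h with h | h
  · exact dp_a_1_s hinv hr hH j u hu h
  · exact dp_a_15_s hinv hr hH j u hu h
theorem dp_a_17_s (hinv : ∀ x, g (inv x) = (g x)⁻¹) (hr : ∀ r ∈ rels, (r.map g).prod = 1) (hH : ∀ r ∈ subs, (r.map g).prod ∈ H)
    (j u : ℕ) (hu : u < M) (h : dp_a_17 j u = true) : Good (fa g) T MG M (cP g H) Lt.a u := by
  unfold dp_a_17 at h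
  rcases brec_true h with h | h
  · exact dp_a_0_s hinv hr hH j u hu h
  · exact dp_a_16_s hinv hr hH j u hu h
theorem dp_a_18_s (hinv : ∀ x, g (inv x) = (g x)⁻¹) (hr : ∀ r ∈ rels, (r.map g).prod = 1) (hH : ∀ r ∈ subs, (r.map g).prod ∈ H)
    (j u : ℕ) (hu : u < M) (h : dp_a_18 j u = true) : Good (fa g) T MG M (cP g H) Lt.a u := by
  unfold dp_a_18 at h
  rcases brec_true h with h | h
  · rcases brec_true h with h | h
    · exact lF3_good (T := T) (x := Lt.a) (by decide) .h .a .h (hole_rel hinv hr (by decide +kernel)) h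
    · rcases brec_true h with h | h
      · exact lF3_good (T := T) (x := Lt.a) (by decide) .d .a .d (hole_rel hinv hr (by decide +kernel)) h
      · exact lF3_good (T := T) (x := Lt.a) (by decide) .e .a .e (hole_rel hinv hr (by decide +kernel)) h
  · exact dp_a_17_s hinv hr hH j u hu h
theorem snd_a (hinv : ∀ x, g (inv x) = (g x)⁻¹) (hr : ∀ r ∈ rels, (r.map g).prod = 1) (hH : ∀ r ∈ subs, (r.map g).prod ∈ H)
    (j u : ℕ) (hu : u < M) (h : disp_a j u = true) : Good (fa g) T MG M (cP g H) Lt.a u := by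
  unfold disp_a at h
  rcases brec_true h with h | h
  · rcases brec_true h with h | h
    · exact lF1_good (T := T) (x := Lt.a) (by decide) .a (hole_rel hinv hr (by decide +kernel)) h
    · exact lF3_good (T := T) (x := Lt.a) (by decide) .i .a .i (hole_rel hinv hr (by decide +kernel)) h
  · exact dp_a_18_s hinv hr hH j u hu h
theorem snc_a (hinv : ∀ x, g (inv x) = (g x)⁻¹) (hr : ∀ r ∈ rels, (r.map g).prod = 1) (hH : ∀ r ∈ subs, (r.map g).prod ∈ H)
    (j u : ℕ) (hu : u < M) (h : chk_a j u = true) : (T Lt.a u < A ∧ Good (fa g) T MG M (cP g H) Lt.a u) ∨ (A ≤ T Lt.a u ∧ MG u < A) := by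
  unfold chk_a at h
  cases hb : Nat.ble A (T_a u) with
  | true => rw [hb] at h; exact Or.inr ⟨le_of_ble hb, le_of_ble h⟩
  | false => rw [hb] at h; exact Or.inl ⟨lt_of_ble_false hb, snd_a hinv hr hH j u hu h⟩
theorem dp_b_0_s (hinv : ∀ x, g (inv x) = (g x)⁻¹) (hr : ∀ r ∈ rels, (r.map g).prod = 1) (hH : ∀ r ∈ subs, (r.map g).prod ∈ H)
    (j u : ℕ) (hu : u < M) (h : dp_b_0 j u = true) : Good (fa g) T MG M (cP g H) Lt.b u := by
  unfold dp_b_0 at h
  rcases brec_true h with h | h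
  · exact lF3_good (T := T) (x := Lt.b) (by decide) .d .b .d (hole_rel hinv hr (by decide +kernel)) h
  · exact lF3_good (T := T) (x := Lt.b) (by decide) .e .b .e (hole_rel hinv hr (by decide +kernel)) h
theorem dp_b_1_s (hinv : ∀ x, g (inv x) = (g x)⁻¹) (hr : ∀ r ∈ rels, (r.map g).prod = 1) (hH : ∀ r ∈ subs, (r.map g).prod ∈ H)
    (j u : ℕ) (hu : u < M) (h : dp_b_1 j u = true) : Good (fa g) T MG M (cP g H) Lt.b u := by
  unfold dp_b_1 at h
  rcases brec_true h with h | h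
  · exact lF3_good (T := T) (x := Lt.b) (by decide) .k .b .k (hole_rel hinv hr (by decide +kernel)) h
  · exact lF3_good (T := T) (x := Lt.b) (by decide) .f .b .f (hole_rel hinv hr (by decide +kernel)) h
theorem dp_b_2_s (hinv : ∀ x, g (inv x) = (g x)⁻¹) (hr : ∀ r ∈ rels, (r.map g).prod = 1) (hH : ∀ r ∈ subs, (r.map g).prod ∈ H)
    (j u : ℕ) (hu : u < M) (h : dp_b_2 j u = true) : Good (fa g) T MG M (cP g H) Lt.b u := by
  unfold dp_b_2 at h
  rcases brec_true h with h | h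
  · exact lDef_good (T := T) (x := Lt.b) (by decide) rfl h
  · exact lPar_good (T := T) (x := Lt.b) (x' := Lt.b) (by decide) rfl (inv_rel hinv _ _ rfl) h
theorem dp_b_3_s (hinv : ∀ x, g (inv x) = (g x)⁻¹) (hr : ∀ r ∈ rels, (r.map g).prod = 1) (hH : ∀ r ∈ subs, (r.map g).prod ∈ H)
    (j u : ℕ) (hu : u < M) (h : dp_b_3 j u = true) : Good (fa g) T MG M (cP g H) Lt.b u := by
  unfold dp_b_3 at h
  rcases brec_true h with h | h
  · exact lS_good (T := T) (x := Lt.b) (by decide) hu [Lt.b] (hole_rel hinv hr (by decide +kernel)) h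
  · exact lS_good (T := T) (x := Lt.b) (by decide) hu [Lt.i, Lt.b, Lt.i] (hole_rel hinv hr (by decide +kernel)) h
theorem dp_b_4_s (hinv : ∀ x, g (inv x) = (g x)⁻¹) (hr : ∀ r ∈ rels, (r.map g).prod = 1) (hH : ∀ r ∈ subs, (r.map g).prod ∈ H)
    (j u : ℕ) (hu : u < M) (h : dp_b_4 j u = true) : Good (fa g) T MG M (cP g H) Lt.b u := by
  unfold dp_b_4 at h
  rcases brec_true h with h | h
  · exact lS_good (T := T) (x := Lt.b) (by decide) hu [Lt.e, Lt.b, Lt.e] (hole_rel hinv hr (by decide +kernel)) h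
  · exact lS_good (T := T) (x := Lt.b) (by decide) hu [Lt.g, Lt.b, Lt.g] (hole_rel hinv hr (by decide +kernel)) h
theorem dp_b_5_s (hinv : ∀ x, g (inv x) = (g x)⁻¹) (hr : ∀ r ∈ rels, (r.map g).prod = 1) (hH : ∀ r ∈ subs, (r.map g).prod ∈ H)
    (j u : ℕ) (hu : u < M) (h : dp_b_5 j u = true) : Good (fa g) T MG M (cP g H) Lt.b u := by
  unfold dp_b_5 at h
  rcases brec_true h with h | h
  · exact lS_good (T := T) (x := Lt.b) (by decide) hu [Lt.j, Lt.b, Lt.j] (hole_rel hinv hr (by decide +kernel)) h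
  · exact dp_b_4_s hinv hr hH j u hu h
theorem dp_b_6_s (hinv : ∀ x, g (inv x) = (g x)⁻¹) (hr : ∀ r ∈ rels, (r.map g).prod = 1) (hH : ∀ r ∈ subs, (r.map g).prod ∈ H)
    (j u : ℕ) (hu : u < M) (h : dp_b_6 j u = true) : Good (fa g) T MG M (cP g H) Lt.b u := by
  unfold dp_b_6 at h
  rcases brec_true h with h | h
  · exact lS_good (T := T) (x := Lt.b) (by decide) hu [Lt.k, Lt.b, Lt.k] (hole_rel hinv hr (by decide +kernel)) h
  · exact lS_good (T := T) (x := Lt.b) (by decide) hu [Lt.d, Lt.b, Lt.d] (hole_rel hinv hr (by decide +kernel)) h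
theorem dp_b_7_s (hinv : ∀ x, g (inv x) = (g x)⁻¹) (hr : ∀ r ∈ rels, (r.map g).prod = 1) (hH : ∀ r ∈ subs, (r.map g).prod ∈ H)
    (j u : ℕ) (hu : u < M) (h : dp_b_7 j u = true) : Good (fa g) T MG M (cP g H) Lt.b u := by
  unfold dp_b_7 at h
  rcases brec_true h with h | h
  · exact lH_good (T := T) (x := Lt.b) (by decide) [] [] (by rw [show cP g H 0 = _ from cc_zero]; exact sub_rel hinv (hH _ (by decide))) h
  · exact lS_good (T := T) (x := Lt.b) (by decide) hu [Lt.h, Lt.b, Lt.h] (hole_rel hinv hr (by decide +kernel)) h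
theorem dp_b_8_s (hinv : ∀ x, g (inv x) = (g x)⁻¹) (hr : ∀ r ∈ rels, (r.map g).prod = 1) (hH : ∀ r ∈ subs, (r.map g).prod ∈ H)
    (j u : ℕ) (hu : u < M) (h : dp_b_8 j u = true) : Good (fa g) T MG M (cP g H) Lt.b u := by
  unfold dp_b_8 at h
  rcases brec_true h with h | h
  · exact lF_good (T := T) (x := Lt.b) (by decide) [Lt.a, Lt.h, Lt.f, Lt.e, Lt.d, Lt.c, Lt.b, Lt.a, Lt.h, Lt.f, Lt.e, Lt.d, Lt.c, Lt.b, Lt.a, Lt.h, Lt.f, Lt.e, Lt.d, Lt.c, Lt.b, Lt.a, Lt.h, Lt.f, Lt.e, Lt.d, Lt.c, Lt.b, Lt.a, Lt.h, Lt.f, Lt.e, Lt.d, Lt.c, Lt.b, Lt.a, Lt.l, Lt.h, Lt.f, Lt.e, Lt.d, Lt.c, Lt.b, Lt.a, Lt.h, Lt.f, Lt.e, Lt.d, Lt.c, Lt.b, Lt.a, Lt.h, Lt.f, Lt.e, Lt.d, Lt.c, Lt.b, Lt.a, Lt.h, Lt.f, Lt.e, Lt.d, Lt.c] (hole_rel hinv hr (by decide +kernel)) h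
  · exact lS_good (T := T) (x := Lt.b) (by decide) hu [Lt.l, Lt.b, Lt.l] (hole_rel hinv hr (by decide +kernel)) h
theorem dp_b_9_s (hinv : ∀ x, g (inv x) = (g x)⁻¹) (hr : ∀ r ∈ rels, (r.map g).prod = 1) (hH : ∀ r ∈ subs, (r.map g).prod ∈ H)
    (j u : ℕ) (hu : u < M) (h : dp_b_9 j u = true) : Good (fa g) T MG M (cP g H) Lt.b u := by
  unfold dp_b_9 at h
  rcases brec_true h with h | h
  · exact lS_good (T := T) (x := Lt.b) (by decide) hu [Lt.a, Lt.h, Lt.f, Lt.e, Lt.d, Lt.c, Lt.b, Lt.a, Lt.h, Lt.f, Lt.e, Lt.d, Lt.c, Lt.b, Lt.a, Lt.h, Lt.f, Lt.e, Lt.d, Lt.c, Lt.b, Lt.a, Lt.h, Lt.f, Lt.e, Lt.d, Lt.c, Lt.b, Lt.a, Lt.h, Lt.f, Lt.e, Lt.d, Lt.c, Lt.b, Lt.a, Lt.l, Lt.h, Lt.f, Lt.e, Lt.d, Lt.c, Lt.b, Lt.a, Lt.h, Lt.f, Lt.e, Lt.d, Lt.c, Lt.b, Lt.a, Lt.h, Lt.f, Lt.e, Lt.d, Lt.c, Lt.b, Lt.a, Lt.h, Lt.f, Lt.e, Lt.d, Lt.c] (hole_rel hinv hr (by decide +kernel)) h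
  · exact dp_b_8_s hinv hr hH j u hu h
theorem dp_b_10_s (hinv : ∀ x, g (inv x) = (g x)⁻¹) (hr : ∀ r ∈ rels, (r.map g).prod = 1) (hH : ∀ r ∈ subs, (r.map g).prod ∈ H)
    (j u : ℕ) (hu : u < M) (h : dp_b_10 j u = true) : Good (fa g) T MG M (cP g H) Lt.b u := by
  unfold dp_b_10 at h
  rcases brec_true h with h | h
  · exact dp_b_7_s hinv hr hH j u hu h
  · exact dp_b_9_s hinv hr hH j u hu h
theorem dp_b_11_s (hinv : ∀ x, g (inv x) = (g x)⁻¹) (hr : ∀ r ∈ rels, (r.map g).prod = 1) (hH : ∀ r ∈ subs, (r.map g).prod ∈ H)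
    (j u : ℕ) (hu : u < M) (h : dp_b_11 j u = true) : Good (fa g) T MG M (cP g H) Lt.b u := by
  unfold dp_b_11 at h
  rcases brec_true h with h | h
  · exact dp_b_6_s hinv hr hH j u hu h
  · exact dp_b_10_s hinv hr hH j u hu h
theorem dp_b_12_s (hinv : ∀ x, g (inv x) = (g x)⁻¹) (hr : ∀ r ∈ rels, (r.map g).prod = 1) (hH : ∀ r ∈ subs, (r.map g).prod ∈ H)
    (j u : ℕ) (hu : u < M) (h : dp_b_12 j u = true) : Good (fa g) T MG M (cP g H) Lt.b u := by
  unfold dp_b_12 at h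
  rcases brec_true h with h | h
  · exact dp_b_5_s hinv hr hH j u hu h
  · exact dp_b_11_s hinv hr hH j u hu h
theorem dp_b_13_s (hinv : ∀ x, g (inv x) = (g x)⁻¹) (hr : ∀ r ∈ rels, (r.map g).prod = 1) (hH : ∀ r ∈ subs, (r.map g).prod ∈ H)
    (j u : ℕ) (hu : u < M) (h : dp_b_13 j u = true) : Good (fa g) T MG M (cP g H) Lt.b u := by
  unfold dp_b_13 at h
  rcases brec_true h with h | h
  · exact dp_b_3_s hinv hr hH j u hu h
  · exact dp_b_12_s hinv hr hH j u hu h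
theorem dp_b_14_s (hinv : ∀ x, g (inv x) = (g x)⁻¹) (hr : ∀ r ∈ rels, (r.map g).prod = 1) (hH : ∀ r ∈ subs, (r.map g).prod ∈ H)
    (j u : ℕ) (hu : u < M) (h : dp_b_14 j u = true) : Good (fa g) T MG M (cP g H) Lt.b u := by
  unfold dp_b_14 at h
  rcases brec_true h with h | h
  · exact lF_good (T := T) (x := Lt.b) (by decide) [Lt.c, Lt.b, Lt.c, Lt.b, Lt.c] (hole_rel hinv hr (by decide +kernel)) h
  · exact dp_b_13_s hinv hr hH j u hu h
theorem dp_b_15_s (hinv : ∀ x, g (inv x) = (g x)⁻¹) (hr : ∀ r ∈ rels, (r.map g).prod = 1) (hH : ∀ r ∈ subs, (r.map g).prod ∈ H)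
    (j u : ℕ) (hu : u < M) (h : dp_b_15 j u = true) : Good (fa g) T MG M (cP g H) Lt.b u := by
  unfold dp_b_15 at h
  rcases brec_true h with h | h
  · exact lF_good (T := T) (x := Lt.b) (by decide) [Lt.a, Lt.b, Lt.a, Lt.b, Lt.a] (hole_rel hinv hr (by decide +kernel)) h
  · exact dp_b_14_s hinv hr hH j u hu h
theorem dp_b_16_s (hinv : ∀ x, g (inv x) = (g x)⁻¹) (hr : ∀ r ∈ rels, (r.map g).prod = 1) (hH : ∀ r ∈ subs, (r.map g).prod ∈ H)
    (j u : ℕ) (hu : u < M) (h : dp_b_16 j u = true) : Good (fa g) T MG M (cP g H) Lt.b u := by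
  unfold dp_b_16 at h
  rcases brec_true h with h | h
  · exact lF3_good (T := T) (x := Lt.b) (by decide) .j .b .j (hole_rel hinv hr (by decide +kernel)) h
  · exact dp_b_15_s hinv hr hH j u hu h
theorem dp_b_17_s (hinv : ∀ x, g (inv x) = (g x)⁻¹) (hr : ∀ r ∈ rels, (r.map g).prod = 1) (hH : ∀ r ∈ subs, (r.map g).prod ∈ H)
    (j u : ℕ) (hu : u < M) (h : dp_b_17 j u = true) : Good (fa g) T MG M (cP g H) Lt.b u := by
  unfold dp_b_17 at h
  rcases brec_true h with h | h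
  · exact lF3_good (T := T) (x := Lt.b) (by decide) .g .b .g (hole_rel hinv hr (by decide +kernel)) h
  · exact dp_b_16_s hinv hr hH j u hu h
theorem dp_b_18_s (hinv : ∀ x, g (inv x) = (g x)⁻¹) (hr : ∀ r ∈ rels, (r.map g).prod = 1) (hH : ∀ r ∈ subs, (r.map g).prod ∈ H)
    (j u : ℕ) (hu : u < M) (h : dp_b_18 j u = true) : Good (fa g) T MG M (cP g H) Lt.b u := by
  unfold dp_b_18 at h
  rcases brec_true h with h | h
  · exact dp_b_2_s hinv hr hH j u hu h
  · exact dp_b_17_s hinv hr hH j u hu h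
theorem dp_b_19_s (hinv : ∀ x, g (inv x) = (g x)⁻¹) (hr : ∀ r ∈ rels, (r.map g).prod = 1) (hH : ∀ r ∈ subs, (r.map g).prod ∈ H)
    (j u : ℕ) (hu : u < M) (h : dp_b_19 j u = true) : Good (fa g) T MG M (cP g H) Lt.b u := by
  unfold dp_b_19 at h
  rcases brec_true h with h | h
  · exact dp_b_1_s hinv hr hH j u hu h
  · exact dp_b_18_s hinv hr hH j u hu h
theorem snd_b (hinv : ∀ x, g (inv x) = (g x)⁻¹) (hr : ∀ r ∈ rels, (r.map g).prod = 1) (hH : ∀ r ∈ subs, (r.map g).prod ∈ H)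
    (j u : ℕ) (hu : u < M) (h : disp_b j u = true) : Good (fa g) T MG M (cP g H) Lt.b u := by
  unfold disp_b at h
  rcases brec_true h with h | h
  · rcases brec_true h with h | h
    · exact lF1_good (T := T) (x := Lt.b) (by decide) .b (hole_rel hinv hr (by decide +kernel)) h
    · exact lF3_good (T := T) (x := Lt.b) (by decide) .i .b .i (hole_rel hinv hr (by decide +kernel)) h
  · rcases brec_true h with h | h
    · rcases brec_true h with h | h
      · rcases brec_true h with h | h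
        · exact lF3_good (T := T) (x := Lt.b) (by decide) .h .b .h (hole_rel hinv hr (by decide +kernel)) h
        · exact lF3_good (T := T) (x := Lt.b) (by decide) .l .b .l (hole_rel hinv hr (by decide +kernel)) h
      · exact dp_b_0_s hinv hr hH j u hu h
    · exact dp_b_19_s hinv hr hH j u hu h
theorem snc_b (hinv : ∀ x, g (inv x) = (g x)⁻¹) (hr : ∀ r ∈ rels, (r.map g).prod = 1) (hH : ∀ r ∈ subs, (r.map g).prod ∈ H)
    (j u : ℕ) (hu : u < M) (h : chk_b j u = true) : (T Lt.b u < A ∧ Good (fa g) T MG M (cP g H) Lt.b u) ∨ (A ≤ T Lt.b u ∧ MG u < A) := by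
  unfold chk_b at h
  cases hb : Nat.ble A (T_b u) with
  | true => rw [hb] at h; exact Or.inr ⟨le_of_ble hb, le_of_ble h⟩
  | false => rw [hb] at h; exact Or.inl ⟨lt_of_ble_false hb, snd_b hinv hr hH j u hu h⟩
theorem dp_c_0_s (hinv : ∀ x, g (inv x) = (g x)⁻¹) (hr : ∀ r ∈ rels, (r.map g).prod = 1) (hH : ∀ r ∈ subs, (r.map g).prod ∈ H)
    (j u : ℕ) (hu : u < M) (h : dp_c_0 j u = true) : Good (fa g) T MG M (cP g H) Lt.c u := by
  unfold dp_c_0 at h
  rcases brec_true h with h | h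
  · exact lF3_good (T := T) (x := Lt.c) (by decide) .e .c .e (hole_rel hinv hr (by decide +kernel)) h
  · exact lF3_good (T := T) (x := Lt.c) (by decide) .f .c .f (hole_rel hinv hr (by decide +kernel)) h
theorem dp_c_1_s (hinv : ∀ x, g (inv x) = (g x)⁻¹) (hr : ∀ r ∈ rels, (r.map g).prod = 1) (hH : ∀ r ∈ subs, (r.map g).prod ∈ H)
    (j u : ℕ) (hu : u < M) (h : dp_c_1 j u = true) : Good (fa g) T MG M (cP g H) Lt.c u := by
  unfold dp_c_1 at h
  rcases brec_true h with h | h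
  · exact lS_good (T := T) (x := Lt.c) (by decide) hu [Lt.c] (hole_rel hinv hr (by decide +kernel)) h
  · exact lS_good (T := T) (x := Lt.c) (by decide) hu [Lt.i, Lt.c, Lt.i] (hole_rel hinv hr (by decide +kernel)) h
theorem dp_c_2_s (hinv : ∀ x, g (inv x) = (g x)⁻¹) (hr : ∀ r ∈ rels, (r.map g).prod = 1) (hH : ∀ r ∈ subs, (r.map g).prod ∈ H)
    (j u : ℕ) (hu : u < M) (h : dp_c_2 j u = true) : Good (fa g) T MG M (cP g H) Lt.c u := by
  unfold dp_c_2 at h
  rcases brec_true h with h | h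
  · exact lS_good (T := T) (x := Lt.c) (by decide) hu [Lt.a, Lt.c, Lt.a] (hole_rel hinv hr (by decide +kernel)) h
  · exact lS_good (T := T) (x := Lt.c) (by decide) hu [Lt.k, Lt.c, Lt.k] (hole_rel hinv hr (by decide +kernel)) h
theorem dp_c_3_s (hinv : ∀ x, g (inv x) = (g x)⁻¹) (hr : ∀ r ∈ rels, (r.map g).prod = 1) (hH : ∀ r ∈ subs, (r.map g).prod ∈ H)
    (j u : ℕ) (hu : u < M) (h : dp_c_3 j u = true) : Good (fa g) T MG M (cP g H) Lt.c u := by
  unfold dp_c_3 at h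
  rcases brec_true h with h | h
  · exact lS_good (T := T) (x := Lt.c) (by decide) hu [Lt.j, Lt.c, Lt.j] (hole_rel hinv hr (by decide +kernel)) h
  · exact dp_c_2_s hinv hr hH j u hu h
theorem dp_c_4_s (hinv : ∀ x, g (inv x) = (g x)⁻¹) (hr : ∀ r ∈ rels, (r.map g).prod = 1) (hH : ∀ r ∈ subs, (r.map g).prod ∈ H)
    (j u : ℕ) (hu : u < M) (h : dp_c_4 j u = true) : Good (fa g) T MG M (cP g H) Lt.c u := by
  unfold dp_c_4 at h
  rcases brec_true h with h | h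
  · exact lS_good (T := T) (x := Lt.c) (by decide) hu [Lt.f, Lt.c, Lt.f] (hole_rel hinv hr (by decide +kernel)) h
  · exact lH_good (T := T) (x := Lt.c) (by decide) [] [] (by rw [show cP g H 0 = _ from cc_zero]; exact sub_rel hinv (hH _ (by decide))) h
theorem dp_c_5_s (hinv : ∀ x, g (inv x) = (g x)⁻¹) (hr : ∀ r ∈ rels, (r.map g).prod = 1) (hH : ∀ r ∈ subs, (r.map g).prod ∈ H)
    (j u : ℕ) (hu : u < M) (h : dp_c_5 j u = true) : Good (fa g) T MG M (cP g H) Lt.c u := by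
  unfold dp_c_5 at h
  rcases brec_true h with h | h
  · exact lS_good (T := T) (x := Lt.c) (by decide) hu [Lt.g, Lt.c, Lt.g] (hole_rel hinv hr (by decide +kernel)) h
  · exact dp_c_4_s hinv hr hH j u hu h
theorem dp_c_6_s (hinv : ∀ x, g (inv x) = (g x)⁻¹) (hr : ∀ r ∈ rels, (r.map g).prod = 1) (hH : ∀ r ∈ subs, (r.map g).prod ∈ H)
    (j u : ℕ) (hu : u < M) (h : dp_c_6 j u = true) : Good (fa g) T MG M (cP g H) Lt.c u := by
  unfold dp_c_6 at h
  rcases brec_true h with h | h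
  · exact lS_good (T := T) (x := Lt.c) (by decide) hu [Lt.h, Lt.c, Lt.h] (hole_rel hinv hr (by decide +kernel)) h
  · exact lF_good (T := T) (x := Lt.c) (by decide) [Lt.b, Lt.a, Lt.h, Lt.f, Lt.e, Lt.d, Lt.c, Lt.b, Lt.a, Lt.h, Lt.f, Lt.e, Lt.d, Lt.c, Lt.b, Lt.a, Lt.h, Lt.f, Lt.e, Lt.d, Lt.c, Lt.b, Lt.a, Lt.l, Lt.h, Lt.f, Lt.e, Lt.d, Lt.c, Lt.b, Lt.a, Lt.h, Lt.f, Lt.e, Lt.d, Lt.c, Lt.b, Lt.a, Lt.h, Lt.f, Lt.e, Lt.d, Lt.c, Lt.b, Lt.a, Lt.h, Lt.f, Lt.e, Lt.d, Lt.c, Lt.b, Lt.a, Lt.h, Lt.f, Lt.e, Lt.d, Lt.c, Lt.b, Lt.a, Lt.h, Lt.f, Lt.e, Lt.d] (hole_rel hinv hr (by decide +kernel)) h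
theorem dp_c_7_s (hinv : ∀ x, g (inv x) = (g x)⁻¹) (hr : ∀ r ∈ rels, (r.map g).prod = 1) (hH : ∀ r ∈ subs, (r.map g).prod ∈ H)
    (j u : ℕ) (hu : u < M) (h : dp_c_7 j u = true) : Good (fa g) T MG M (cP g H) Lt.c u := by
  unfold dp_c_7 at h
  rcases brec_true h with h | h
  · exact lS_good (T := T) (x := Lt.c) (by decide) hu [Lt.e, Lt.c, Lt.e] (hole_rel hinv hr (by decide +kernel)) h
  · exact lS_good (T := T) (x := Lt.c) (by decide) hu [Lt.l, Lt.c, Lt.l] (hole_rel hinv hr (by decide +kernel)) h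
theorem dp_c_8_s (hinv : ∀ x, g (inv x) = (g x)⁻¹) (hr : ∀ r ∈ rels, (r.map g).prod = 1) (hH : ∀ r ∈ subs, (r.map g).prod ∈ H)
    (j u : ℕ) (hu : u < M) (h : dp_c_8 j u = true) : Good (fa g) T MG M (cP g H) Lt.c u := by
  unfold dp_c_8 at h
  rcases brec_true h with h | h
  · exact lF_good (T := T) (x := Lt.c) (by decide) [Lt.d, Lt.e, Lt.f, Lt.h, Lt.a, Lt.b, Lt.c, Lt.d, Lt.e, Lt.f, Lt.h, Lt.a, Lt.b, Lt.c, Lt.d, Lt.e, Lt.f, Lt.h, Lt.a, Lt.b, Lt.c, Lt.d, Lt.e, Lt.f, Lt.h, Lt.a, Lt.b, Lt.c, Lt.d, Lt.e, Lt.f, Lt.h, Lt.a, Lt.b, Lt.c, Lt.d, Lt.e, Lt.f, Lt.h, Lt.l, Lt.a, Lt.b, Lt.c, Lt.d, Lt.e, Lt.f, Lt.h, Lt.a, Lt.b, Lt.c, Lt.d, Lt.e, Lt.f, Lt.h, Lt.a, Lt.b, Lt.c, Lt.d, Lt.e, Lt.f, Lt.h, Lt.a, Lt.b] (hole_rel hinv hr (by decide +kernel)) h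
  · exact dp_c_7_s hinv hr hH j u hu h
theorem dp_c_9_s (hinv : ∀ x, g (inv x) = (g x)⁻¹) (hr : ∀ r ∈ rels, (r.map g).prod = 1) (hH : ∀ r ∈ subs, (r.map g).prod ∈ H)
    (j u : ℕ) (hu : u < M) (h : dp_c_9 j u = true) : Good (fa g) T MG M (cP g H) Lt.c u := by
  unfold dp_c_9 at h
  rcases brec_true h with h | h
  · exact dp_c_6_s hinv hr hH j u hu h
  · exact dp_c_8_s hinv hr hH j u hu h
theorem dp_c_10_s (hinv : ∀ x, g (inv x) = (g x)⁻¹) (hr : ∀ r ∈ rels, (r.map g).prod = 1) (hH : ∀ r ∈ subs, (r.map g).prod ∈ H)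
    (j u : ℕ) (hu : u < M) (h : dp_c_10 j u = true) : Good (fa g) T MG M (cP g H) Lt.c u := by
  unfold dp_c_10 at h
  rcases brec_true h with h | h
  · exact dp_c_5_s hinv hr hH j u hu h
  · exact dp_c_9_s hinv hr hH j u hu h
theorem dp_c_11_s (hinv : ∀ x, g (inv x) = (g x)⁻¹) (hr : ∀ r ∈ rels, (r.map g).prod = 1) (hH : ∀ r ∈ subs, (r.map g).prod ∈ H)
    (j u : ℕ) (hu : u < M) (h : dp_c_11 j u = true) : Good (fa g) T MG M (cP g H) Lt.c u := by
  unfold dp_c_11 at h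
  rcases brec_true h with h | h
  · exact dp_c_3_s hinv hr hH j u hu h
  · exact dp_c_10_s hinv hr hH j u hu h
theorem dp_c_12_s (hinv : ∀ x, g (inv x) = (g x)⁻¹) (hr : ∀ r ∈ rels, (r.map g).prod = 1) (hH : ∀ r ∈ subs, (r.map g).prod ∈ H)
    (j u : ℕ) (hu : u < M) (h : dp_c_12 j u = true) : Good (fa g) T MG M (cP g H) Lt.c u := by
  unfold dp_c_12 at h
  rcases brec_true h with h | h
  · exact dp_c_1_s hinv hr hH j u hu h
  · exact dp_c_11_s hinv hr hH j u hu h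
theorem dp_c_13_s (hinv : ∀ x, g (inv x) = (g x)⁻¹) (hr : ∀ r ∈ rels, (r.map g).prod = 1) (hH : ∀ r ∈ subs, (r.map g).prod ∈ H)
    (j u : ℕ) (hu : u < M) (h : dp_c_13 j u = true) : Good (fa g) T MG M (cP g H) Lt.c u := by
  unfold dp_c_13 at h
  rcases brec_true h with h | h
  · exact lF_good (T := T) (x := Lt.c) (by decide) [Lt.d, Lt.c, Lt.d, Lt.c, Lt.d] (hole_rel hinv hr (by decide +kernel)) h
  · exact dp_c_12_s hinv hr hH j u hu h
theorem dp_c_14_s (hinv : ∀ x, g (inv x) = (g x)⁻¹) (hr : ∀ r ∈ rels, (r.map g).prod = 1) (hH : ∀ r ∈ subs, (r.map g).prod ∈ H)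
    (j u : ℕ) (hu : u < M) (h : dp_c_14 j u = true) : Good (fa g) T MG M (cP g H) Lt.c u := by
  unfold dp_c_14 at h
  rcases brec_true h with h | h
  · exact lF_good (T := T) (x := Lt.c) (by decide) [Lt.b, Lt.c, Lt.b, Lt.c, Lt.b] (hole_rel hinv hr (by decide +kernel)) h
  · exact dp_c_13_s hinv hr hH j u hu h
theorem dp_c_15_s (hinv : ∀ x, g (inv x) = (g x)⁻¹) (hr : ∀ r ∈ rels, (r.map g).prod = 1) (hH : ∀ r ∈ subs, (r.map g).prod ∈ H)
    (j u : ℕ) (hu : u < M) (h : dp_c_15 j u = true) : Good (fa g) T MG M (cP g H) Lt.c u := by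
  unfold dp_c_15 at h
  rcases brec_true h with h | h
  · exact lF3_good (T := T) (x := Lt.c) (by decide) .j .c .j (hole_rel hinv hr (by decide +kernel)) h
  · exact dp_c_14_s hinv hr hH j u hu h
theorem dp_c_16_s (hinv : ∀ x, g (inv x) = (g x)⁻¹) (hr : ∀ r ∈ rels, (r.map g).prod = 1) (hH : ∀ r ∈ subs, (r.map g).prod ∈ H)
    (j u : ℕ) (hu : u < M) (h : dp_c_16 j u = true) : Good (fa g) T MG M (cP g H) Lt.c u := by
  unfold dp_c_16 at h
  rcases brec_true h with h | h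
  · exact lF3_good (T := T) (x := Lt.c) (by decide) .g .c .g (hole_rel hinv hr (by decide +kernel)) h
  · exact dp_c_15_s hinv hr hH j u hu h
theorem dp_c_17_s (hinv : ∀ x, g (inv x) = (g x)⁻¹) (hr : ∀ r ∈ rels, (r.map g).prod = 1) (hH : ∀ r ∈ subs, (r.map g).prod ∈ H)
    (j u : ℕ) (hu : u < M) (h : dp_c_17 j u = true) : Good (fa g) T MG M (cP g H) Lt.c u := by
  unfold dp_c_17 at h
  rcases brec_true h with h | h
  · exact dp_c_0_s hinv hr hH j u hu h
  · exact dp_c_16_s hinv hr hH j u hu h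
theorem dp_c_18_s (hinv : ∀ x, g (inv x) = (g x)⁻¹) (hr : ∀ r ∈ rels, (r.map g).prod = 1) (hH : ∀ r ∈ subs, (r.map g).prod ∈ H)
    (j u : ℕ) (hu : u < M) (h : dp_c_18 j u = true) : Good (fa g) T MG M (cP g H) Lt.c u := by
  unfold dp_c_18 at h
  rcases brec_true h with h | h
  · rcases brec_true h with h | h
    · exact lF3_good (T := T) (x := Lt.c) (by decide) .h .c .h (hole_rel hinv hr (by decide +kernel)) h
    · exact lF3_good (T := T) (x := Lt.c) (by decide) .l .c .l (hole_rel hinv hr (by decide +kernel)) h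
  · exact dp_c_17_s hinv hr hH j u hu h
theorem dp_c_19_s (hinv : ∀ x, g (inv x) = (g x)⁻¹) (hr : ∀ r ∈ rels, (r.map g).prod = 1) (hH : ∀ r ∈ subs, (r.map g).prod ∈ H)
    (j u : ℕ) (hu : u < M) (h : dp_c_19 j u = true) : Good (fa g) T MG M (cP g H) Lt.c u := by
  unfold dp_c_19 at h
  rcases brec_true h with h | h
  · rcases brec_true h with h | h
    · exact lPar_good (T := T) (x := Lt.c) (x' := Lt.c) (by decide) rfl (inv_rel hinv _ _ rfl) h
    · rcases brec_true h with h | h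
      · exact lF3_good (T := T) (x := Lt.c) (by decide) .a .c .a (hole_rel hinv hr (by decide +kernel)) h
      · exact lF3_good (T := T) (x := Lt.c) (by decide) .k .c .k (hole_rel hinv hr (by decide +kernel)) h
  · exact dp_c_18_s hinv hr hH j u hu h
theorem snd_c (hinv : ∀ x, g (inv x) = (g x)⁻¹) (hr : ∀ r ∈ rels, (r.map g).prod = 1) (hH : ∀ r ∈ subs, (r.map g).prod ∈ H)
    (j u : ℕ) (hu : u < M) (h : disp_c j u = true) : Good (fa g) T MG M (cP g H) Lt.c u := by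
  unfold disp_c at h
  rcases brec_true h with h | h
  · rcases brec_true h with h | h
    · exact lF1_good (T := T) (x := Lt.c) (by decide) .c (hole_rel hinv hr (by decide +kernel)) h
    · rcases brec_true h with h | h
      · exact lF3_good (T := T) (x := Lt.c) (by decide) .i .c .i (hole_rel hinv hr (by decide +kernel)) h
      · exact lDef_good (T := T) (x := Lt.c) (by decide) rfl h
  · exact dp_c_19_s hinv hr hH j u hu h
theorem snc_c (hinv : ∀ x, g (inv x) = (g x)⁻¹) (hr : ∀ r ∈ rels, (r.map g).prod = 1) (hH : ∀ r ∈ subs, (r.map g).prod ∈ H)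
    (j u : ℕ) (hu : u < M) (h : chk_c j u = true) : (T Lt.c u < A ∧ Good (fa g) T MG M (cP g H) Lt.c u) ∨ (A ≤ T Lt.c u ∧ MG u < A) := by
  unfold chk_c at h
  cases hb : Nat.ble A (T_c u) with
  | true => rw [hb] at h; exact Or.inr ⟨le_of_ble hb, le_of_ble h⟩
  | false => rw [hb] at h; exact Or.inl ⟨lt_of_ble_false hb, snd_c hinv hr hH j u hu h⟩
theorem dp_d_0_s (hinv : ∀ x, g (inv x) = (g x)⁻¹) (hr : ∀ r ∈ rels, (r.map g).prod = 1) (hH : ∀ r ∈ subs, (r.map g).prod ∈ H)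
    (j u : ℕ) (hu : u < M) (h : dp_d_0 j u = true) : Good (fa g) T MG M (cP g H) Lt.d u := by
  unfold dp_d_0 at h
  rcases brec_true h with h | h
  · exact lF3_good (T := T) (x := Lt.d) (by decide) .b .d .b (hole_rel hinv hr (by decide +kernel)) h
  · exact lF3_good (T := T) (x := Lt.d) (by decide) .f .d .f (hole_rel hinv hr (by decide +kernel)) h
theorem dp_d_1_s (hinv : ∀ x, g (inv x) = (g x)⁻¹) (hr : ∀ r ∈ rels, (r.map g).prod = 1) (hH : ∀ r ∈ subs, (r.map g).prod ∈ H)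
    (j u : ℕ) (hu : u < M) (h : dp_d_1 j u = true) : Good (fa g) T MG M (cP g H) Lt.d u := by
  unfold dp_d_1 at h
  rcases brec_true h with h | h
  · exact lS_good (T := T) (x := Lt.d) (by decide) hu [Lt.j, Lt.d, Lt.j] (hole_rel hinv hr (by decide +kernel)) h
  · exact lS_good (T := T) (x := Lt.d) (by decide) hu [Lt.i, Lt.d, Lt.i] (hole_rel hinv hr (by decide +kernel)) h
theorem dp_d_2_s (hinv : ∀ x, g (inv x) = (g x)⁻¹) (hr : ∀ r ∈ rels, (r.map g).prod = 1) (hH : ∀ r ∈ subs, (r.map g).prod ∈ H)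
    (j u : ℕ) (hu : u < M) (h : dp_d_2 j u = true) : Good (fa g) T MG M (cP g H) Lt.d u := by
  unfold dp_d_2 at h
  rcases brec_true h with h | h
  · exact lS_good (T := T) (x := Lt.d) (by decide) hu [Lt.k, Lt.d, Lt.k] (hole_rel hinv hr (by decide +kernel)) h
  · exact lS_good (T := T) (x := Lt.d) (by decide) hu [Lt.g, Lt.d, Lt.g] (hole_rel hinv hr (by decide +kernel)) h
theorem dp_d_3_s (hinv : ∀ x, g (inv x) = (g x)⁻¹) (hr : ∀ r ∈ rels, (r.map g).prod = 1) (hH : ∀ r ∈ subs, (r.map g).prod ∈ H)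
    (j u : ℕ) (hu : u < M) (h : dp_d_3 j u = true) : Good (fa g) T MG M (cP g H) Lt.d u := by
  unfold dp_d_3 at h
  rcases brec_true h with h | h
  · exact lS_good (T := T) (x := Lt.d) (by decide) hu [Lt.a, Lt.d, Lt.a] (hole_rel hinv hr (by decide +kernel)) h
  · exact lH_good (T := T) (x := Lt.d) (by decide) [] [] (by rw [show cP g H 0 = _ from cc_zero]; exact sub_rel hinv (hH _ (by decide))) h
theorem dp_d_4_s (hinv : ∀ x, g (inv x) = (g x)⁻¹) (hr : ∀ r ∈ rels, (r.map g).prod = 1) (hH : ∀ r ∈ subs, (r.map g).prod ∈ H)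
    (j u : ℕ) (hu : u < M) (h : dp_d_4 j u = true) : Good (fa g) T MG M (cP g H) Lt.d u := by
  unfold dp_d_4 at h
  rcases brec_true h with h | h
  · exact lF_good (T := T) (x := Lt.d) (by decide) [Lt.c, Lt.b, Lt.a, Lt.h, Lt.f, Lt.e, Lt.d, Lt.c, Lt.b, Lt.a, Lt.h, Lt.f, Lt.e, Lt.d, Lt.c, Lt.b, Lt.a, Lt.h, Lt.f, Lt.e, Lt.d, Lt.c, Lt.b, Lt.a, Lt.l, Lt.h, Lt.f, Lt.e, Lt.d, Lt.c, Lt.b, Lt.a, Lt.h, Lt.f, Lt.e, Lt.d, Lt.c, Lt.b, Lt.a, Lt.h, Lt.f, Lt.e, Lt.d, Lt.c, Lt.b, Lt.a, Lt.h, Lt.f, Lt.e, Lt.d, Lt.c, Lt.b, Lt.a, Lt.h, Lt.f, Lt.e, Lt.d, Lt.c, Lt.b, Lt.a, Lt.h, Lt.f, Lt.e] (hole_rel hinv hr (by decide +kernel)) h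
  · exact lS_good (T := T) (x := Lt.d) (by decide) hu [Lt.l, Lt.d, Lt.l] (hole_rel hinv hr (by decide +kernel)) h
theorem dp_d_5_s (hinv : ∀ x, g (inv x) = (g x)⁻¹) (hr : ∀ r ∈ rels, (r.map g).prod = 1) (hH : ∀ r ∈ subs, (r.map g).prod ∈ H)
    (j u : ℕ) (hu : u < M) (h : dp_d_5 j u = true) : Good (fa g) T MG M (cP g H) Lt.d u := by
  unfold dp_d_5 at h
  rcases brec_true h with h | h
  · exact lS_good (T := T) (x := Lt.d) (by decide) hu [Lt.e, Lt.f, Lt.d, Lt.h, Lt.i, Lt.d, Lt.c, Lt.b, Lt.d, Lt.e, Lt.f, Lt.d, Lt.h, Lt.i, Lt.d, Lt.c, Lt.b, Lt.d, Lt.e, Lt.f, Lt.d, Lt.h, Lt.i, Lt.d, Lt.c, Lt.b, Lt.d, Lt.e, Lt.f, Lt.d, Lt.h, Lt.i, Lt.d, Lt.c, Lt.b, Lt.d, Lt.e, Lt.f, Lt.d, Lt.h, Lt.i, Lt.d, Lt.c, Lt.b, Lt.d, Lt.e, Lt.f, Lt.d, Lt.h, Lt.i, Lt.d, Lt.c, Lt.b, Lt.d, Lt.e, Lt.f, Lt.d, Lt.h, Lt.i, Lt.d, Lt.c, Lt.b, Lt.d, Lt.e, Lt.f, Lt.d, Lt.h, Lt.i, Lt.d, Lt.c, Lt.b, Lt.d, Lt.e, Lt.f, Lt.d, Lt.h, Lt.i, Lt.d, Lt.c,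 Lt.b, Lt.d, Lt.e, Lt.f, Lt.d, Lt.h, Lt.i, Lt.d, Lt.c, Lt.b] (hole_rel hinv hr (by decide +kernel)) h
  · exact dp_d_4_s hinv hr hH j u hu h
theorem dp_d_6_s (hinv : ∀ x, g (inv x) = (g x)⁻¹) (hr : ∀ r ∈ rels, (r.map g).prod = 1) (hH : ∀ r ∈ subs, (r.map g).prod ∈ H)
    (j u : ℕ) (hu : u < M) (h : dp_d_6 j u = true) : Good (fa g) T MG M (cP g H) Lt.d u := by
  unfold dp_d_6 at h
  rcases brec_true h with h | h
  · exact dp_d_3_s hinv hr hH j u hu h
  · exact dp_d_5_s hinv hr hH j u hu h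
theorem dp_d_7_s (hinv : ∀ x, g (inv x) = (g x)⁻¹) (hr : ∀ r ∈ rels, (r.map g).prod = 1) (hH : ∀ r ∈ subs, (r.map g).prod ∈ H)
    (j u : ℕ) (hu : u < M) (h : dp_d_7 j u = true) : Good (fa g) T MG M (cP g H) Lt.d u := by
  unfold dp_d_7 at h
  rcases brec_true h with h | h
  · exact dp_d_2_s hinv hr hH j u hu h
  · exact dp_d_6_s hinv hr hH j u hu h
theorem dp_d_8_s (hinv : ∀ x, g (inv x) = (g x)⁻¹) (hr : ∀ r ∈ rels, (r.map g).prod = 1) (hH : ∀ r ∈ subs, (r.map g).prod ∈ H)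
    (j u : ℕ) (hu : u < M) (h : dp_d_8 j u = true) : Good (fa g) T MG M (cP g H) Lt.d u := by
  unfold dp_d_8 at h
  rcases brec_true h with h | h
  · exact dp_d_1_s hinv hr hH j u hu h
  · exact dp_d_7_s hinv hr hH j u hu h
theorem dp_d_9_s (hinv : ∀ x, g (inv x) = (g x)⁻¹) (hr : ∀ r ∈ rels, (r.map g).prod = 1) (hH : ∀ r ∈ subs, (r.map g).prod ∈ H)
    (j u : ℕ) (hu : u < M) (h : dp_d_9 j u = true) : Good (fa g) T MG M (cP g H) Lt.d u := by
  unfold dp_d_9 at h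
  rcases brec_true h with h | h
  · exact lS_good (T := T) (x := Lt.d) (by decide) hu [Lt.d] (hole_rel hinv hr (by decide +kernel)) h
  · exact dp_d_8_s hinv hr hH j u hu h
theorem dp_d_10_s (hinv : ∀ x, g (inv x) = (g x)⁻¹) (hr : ∀ r ∈ rels, (r.map g).prod = 1) (hH : ∀ r ∈ subs, (r.map g).prod ∈ H)
    (j u : ℕ) (hu : u < M) (h : dp_d_10 j u = true) : Good (fa g) T MG M (cP g H) Lt.d u := by
  unfold dp_d_10 at h
  rcases brec_true h with h | h
  · exact lF_good (T := T) (x := Lt.d) (by decide) [Lt.h, Lt.d, Lt.h, Lt.d, Lt.h] (hole_rel hinv hr (by decide +kernel)) h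
  · exact dp_d_9_s hinv hr hH j u hu h
theorem dp_d_11_s (hinv : ∀ x, g (inv x) = (g x)⁻¹) (hr : ∀ r ∈ rels, (r.map g).prod = 1) (hH : ∀ r ∈ subs, (r.map g).prod ∈ H)
    (j u : ℕ) (hu : u < M) (h : dp_d_11 j u = true) : Good (fa g) T MG M (cP g H) Lt.d u := by
  unfold dp_d_11 at h
  rcases brec_true h with h | h
  · exact lF_good (T := T) (x := Lt.d) (by decide) [Lt.e, Lt.d, Lt.e, Lt.d, Lt.e] (hole_rel hinv hr (by decide +kernel)) h
  · exact dp_d_10_s hinv hr hH j u hu h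
theorem dp_d_12_s (hinv : ∀ x, g (inv x) = (g x)⁻¹) (hr : ∀ r ∈ rels, (r.map g).prod = 1) (hH : ∀ r ∈ subs, (r.map g).prod ∈ H)
    (j u : ℕ) (hu : u < M) (h : dp_d_12 j u = true) : Good (fa g) T MG M (cP g H) Lt.d u := by
  unfold dp_d_12 at h
  rcases brec_true h with h | h
  · exact lF_good (T := T) (x := Lt.d) (by decide) [Lt.c, Lt.d, Lt.c, Lt.d, Lt.c] (hole_rel hinv hr (by decide +kernel)) h
  · exact dp_d_11_s hinv hr hH j u hu h
theorem dp_d_13_s (hinv : ∀ x, g (inv x) = (g x)⁻¹) (hr : ∀ r ∈ rels, (r.map g).prod = 1) (hH : ∀ r ∈ subs, (r.map g).prod ∈ H)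
    (j u : ℕ) (hu : u < M) (h : dp_d_13 j u = true) : Good (fa g) T MG M (cP g H) Lt.d u := by
  unfold dp_d_13 at h
  rcases brec_true h with h | h
  · exact lF3_good (T := T) (x := Lt.d) (by decide) .j .d .j (hole_rel hinv hr (by decide +kernel)) h
  · exact dp_d_12_s hinv hr hH j u hu h
theorem dp_d_14_s (hinv : ∀ x, g (inv x) = (g x)⁻¹) (hr : ∀ r ∈ rels, (r.map g).prod = 1) (hH : ∀ r ∈ subs, (r.map g).prod ∈ H)
    (j u : ℕ) (hu : u < M) (h : dp_d_14 j u = true) : Good (fa g) T MG M (cP g H) Lt.d u := by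
  unfold dp_d_14 at h
  rcases brec_true h with h | h
  · exact lF3_good (T := T) (x := Lt.d) (by decide) .g .d .g (hole_rel hinv hr (by decide +kernel)) h
  · exact dp_d_13_s hinv hr hH j u hu h
theorem dp_d_15_s (hinv : ∀ x, g (inv x) = (g x)⁻¹) (hr : ∀ r ∈ rels, (r.map g).prod = 1) (hH : ∀ r ∈ subs, (r.map g).prod ∈ H)
    (j u : ℕ) (hu : u < M) (h : dp_d_15 j u = true) : Good (fa g) T MG M (cP g H) Lt.d u := by
  unfold dp_d_15 at h
  rcases brec_true h with h | h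
  · exact dp_d_0_s hinv hr hH j u hu h
  · exact dp_d_14_s hinv hr hH j u hu h
theorem dp_d_16_s (hinv : ∀ x, g (inv x) = (g x)⁻¹) (hr : ∀ r ∈ rels, (r.map g).prod = 1) (hH : ∀ r ∈ subs, (r.map g).prod ∈ H)
    (j u : ℕ) (hu : u < M) (h : dp_d_16 j u = true) : Good (fa g) T MG M (cP g H) Lt.d u := by
  unfold dp_d_16 at h
  rcases brec_true h with h | h
  · rcases brec_true h with h | h
    · exact lF3_good (T := T) (x := Lt.d) (by decide) .i .d .i (hole_rel hinv hr (by decide +kernel)) h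
    · exact lF3_good (T := T) (x := Lt.d) (by decide) .l .d .l (hole_rel hinv hr (by decide +kernel)) h
  · exact dp_d_15_s hinv hr hH j u hu h
theorem snd_d (hinv : ∀ x, g (inv x) = (g x)⁻¹) (hr : ∀ r ∈ rels, (r.map g).prod = 1) (hH : ∀ r ∈ subs, (r.map g).prod ∈ H)
    (j u : ℕ) (hu : u < M) (h : disp_d j u = true) : Good (fa g) T MG M (cP g H) Lt.d u := by
  unfold disp_d at h
  rcases brec_true h with h | h
  · rcases brec_true h with h | h
    · exact lF1_good (T := T) (x := Lt.d) (by decide) .d (hole_rel hinv hr (by decide +kernel)) h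
    · exact lDef_good (T := T) (x := Lt.d) (by decide) rfl h
  · rcases brec_true h with h | h
    · rcases brec_true h with h | h
      · exact lPar_good (T := T) (x := Lt.d) (x' := Lt.d) (by decide) rfl (inv_rel hinv _ _ rfl) h
      · rcases brec_true h with h | h
        · exact lF3_good (T := T) (x := Lt.d) (by decide) .a .d .a (hole_rel hinv hr (by decide +kernel)) h
        · exact lF3_good (T := T) (x := Lt.d) (by decide) .k .d .k (hole_rel hinv hr (by decide +kernel)) h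
    · exact dp_d_16_s hinv hr hH j u hu h
theorem snc_d (hinv : ∀ x, g (inv x) = (g x)⁻¹) (hr : ∀ r ∈ rels, (r.map g).prod = 1) (hH : ∀ r ∈ subs, (r.map g).prod ∈ H)
    (j u : ℕ) (hu : u < M) (h : chk_d j u = true) : (T Lt.d u < A ∧ Good (fa g) T MG M (cP g H) Lt.d u) ∨ (A ≤ T Lt.d u ∧ MG u < A) := by
  unfold chk_d at h
  cases hb : Nat.ble A (T_d u) with
  | true => rw [hb] at h; exact Or.inr ⟨le_of_ble hb, le_of_ble h⟩
  | false => rw [hb] at h; exact Or.inl ⟨lt_of_ble_false hb, snd_d hinv hr hH j u hu h⟩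
theorem dp_e_0_s (hinv : ∀ x, g (inv x) = (g x)⁻¹) (hr : ∀ r ∈ rels, (r.map g).prod = 1) (hH : ∀ r ∈ subs, (r.map g).prod ∈ H)
    (j u : ℕ) (hu : u < M) (h : dp_e_0 j u = true) : Good (fa g) T MG M (cP g H) Lt.e u := by
  unfold dp_e_0 at h
  rcases brec_true h with h | h
  · exact lF3_good (T := T) (x := Lt.e) (by decide) .l .e .l (hole_rel hinv hr (by decide +kernel)) h
  · exact lF3_good (T := T) (x := Lt.e) (by decide) .b .e .b (hole_rel hinv hr (by decide +kernel)) h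
theorem dp_e_1_s (hinv : ∀ x, g (inv x) = (g x)⁻¹) (hr : ∀ r ∈ rels, (r.map g).prod = 1) (hH : ∀ r ∈ subs, (r.map g).prod ∈ H)
    (j u : ℕ) (hu : u < M) (h : dp_e_1 j u = true) : Good (fa g) T MG M (cP g H) Lt.e u := by
  unfold dp_e_1 at h
  rcases brec_true h with h | h
  · exact lS_good (T := T) (x := Lt.e) (by decide) hu [Lt.k, Lt.e, Lt.k] (hole_rel hinv hr (by decide +kernel)) h
  · exact lS_good (T := T) (x := Lt.e) (by decide) hu [Lt.j, Lt.e, Lt.j] (hole_rel hinv hr (by decide +kernel)) h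
theorem dp_e_2_s (hinv : ∀ x, g (inv x) = (g x)⁻¹) (hr : ∀ r ∈ rels, (r.map g).prod = 1) (hH : ∀ r ∈ subs, (r.map g).prod ∈ H)
    (j u : ℕ) (hu : u < M) (h : dp_e_2 j u = true) : Good (fa g) T MG M (cP g H) Lt.e u := by
  unfold dp_e_2 at h
  rcases brec_true h with h | h
  · exact lS_good (T := T) (x := Lt.e) (by decide) hu [Lt.b, Lt.e, Lt.b] (hole_rel hinv hr (by decide +kernel)) h
  · exact lH_good (T := T) (x := Lt.e) (by decide) [] [] (by rw [show cP g H 0 = _ from cc_zero]; exact sub_rel hinv (hH _ (by decide))) h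
theorem dp_e_3_s (hinv : ∀ x, g (inv x) = (g x)⁻¹) (hr : ∀ r ∈ rels, (r.map g).prod = 1) (hH : ∀ r ∈ subs, (r.map g).prod ∈ H)
    (j u : ℕ) (hu : u < M) (h : dp_e_3 j u = true) : Good (fa g) T MG M (cP g H) Lt.e u := by
  unfold dp_e_3 at h
  rcases brec_true h with h | h
  · exact lS_good (T := T) (x := Lt.e) (by decide) hu [Lt.i, Lt.e, Lt.i] (hole_rel hinv hr (by decide +kernel)) h
  · exact dp_e_2_s hinv hr hH j u hu h
theorem dp_e_4_s (hinv : ∀ x, g (inv x) = (g x)⁻¹) (hr : ∀ r ∈ rels, (r.map g).prod = 1) (hH : ∀ r ∈ subs, (r.map g).prod ∈ H)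
    (j u : ℕ) (hu : u < M) (h : dp_e_4 j u = true) : Good (fa g) T MG M (cP g H) Lt.e u := by
  unfold dp_e_4 at h
  rcases brec_true h with h | h
  · exact dp_e_1_s hinv hr hH j u hu h
  · exact dp_e_3_s hinv hr hH j u hu h
theorem dp_e_5_s (hinv : ∀ x, g (inv x) = (g x)⁻¹) (hr : ∀ r ∈ rels, (r.map g).prod = 1) (hH : ∀ r ∈ subs, (r.map g).prod ∈ H)
    (j u : ℕ) (hu : u < M) (h : dp_e_5 j u = true) : Good (fa g) T MG M (cP g H) Lt.e u := by
  unfold dp_e_5 at h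
  rcases brec_true h with h | h
  · exact lS_good (T := T) (x := Lt.e) (by decide) hu [Lt.e] (hole_rel hinv hr (by decide +kernel)) h
  · exact dp_e_4_s hinv hr hH j u hu h
theorem dp_e_6_s (hinv : ∀ x, g (inv x) = (g x)⁻¹) (hr : ∀ r ∈ rels, (r.map g).prod = 1) (hH : ∀ r ∈ subs, (r.map g).prod ∈ H)
    (j u : ℕ) (hu : u < M) (h : dp_e_6 j u = true) : Good (fa g) T MG M (cP g H) Lt.e u := by
  unfold dp_e_6 at h
  rcases brec_true h with h | h
  · exact lF_good (T := T) (x := Lt.e) (by decide) [Lt.f, Lt.e, Lt.f, Lt.e, Lt.f] (hole_rel hinv hr (by decide +kernel)) h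
  · exact dp_e_5_s hinv hr hH j u hu h
theorem dp_e_7_s (hinv : ∀ x, g (inv x) = (g x)⁻¹) (hr : ∀ r ∈ rels, (r.map g).prod = 1) (hH : ∀ r ∈ subs, (r.map g).prod ∈ H)
    (j u : ℕ) (hu : u < M) (h : dp_e_7 j u = true) : Good (fa g) T MG M (cP g H) Lt.e u := by
  unfold dp_e_7 at h
  rcases brec_true h with h | h
  · exact lF_good (T := T) (x := Lt.e) (by decide) [Lt.d, Lt.e, Lt.d, Lt.e, Lt.d] (hole_rel hinv hr (by decide +kernel)) h
  · exact dp_e_6_s hinv hr hH j u hu h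
theorem dp_e_8_s (hinv : ∀ x, g (inv x) = (g x)⁻¹) (hr : ∀ r ∈ rels, (r.map g).prod = 1) (hH : ∀ r ∈ subs, (r.map g).prod ∈ H)
    (j u : ℕ) (hu : u < M) (h : dp_e_8 j u = true) : Good (fa g) T MG M (cP g H) Lt.e u := by
  unfold dp_e_8 at h
  rcases brec_true h with h | h
  · exact lF3_good (T := T) (x := Lt.e) (by decide) .j .e .j (hole_rel hinv hr (by decide +kernel)) h
  · exact dp_e_7_s hinv hr hH j u hu h
theorem dp_e_9_s (hinv : ∀ x, g (inv x) = (g x)⁻¹) (hr : ∀ r ∈ rels, (r.map g).prod = 1) (hH : ∀ r ∈ subs, (r.map g).prod ∈ H)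
    (j u : ℕ) (hu : u < M) (h : dp_e_9 j u = true) : Good (fa g) T MG M (cP g H) Lt.e u := by
  unfold dp_e_9 at h
  rcases brec_true h with h | h
  · exact lF3_good (T := T) (x := Lt.e) (by decide) .g .e .g (hole_rel hinv hr (by decide +kernel)) h
  · exact dp_e_8_s hinv hr hH j u hu h
theorem dp_e_10_s (hinv : ∀ x, g (inv x) = (g x)⁻¹) (hr : ∀ r ∈ rels, (r.map g).prod = 1) (hH : ∀ r ∈ subs, (r.map g).prod ∈ H)
    (j u : ℕ) (hu : u < M) (h : dp_e_10 j u = true) : Good (fa g) T MG M (cP g H) Lt.e u := by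
  unfold dp_e_10 at h
  rcases brec_true h with h | h
  · exact lF3_good (T := T) (x := Lt.e) (by decide) .c .e .c (hole_rel hinv hr (by decide +kernel)) h
  · exact dp_e_9_s hinv hr hH j u hu h
theorem dp_e_11_s (hinv : ∀ x, g (inv x) = (g x)⁻¹) (hr : ∀ r ∈ rels, (r.map g).prod = 1) (hH : ∀ r ∈ subs, (r.map g).prod ∈ H)
    (j u : ℕ) (hu : u < M) (h : dp_e_11 j u = true) : Good (fa g) T MG M (cP g H) Lt.e u := by
  unfold dp_e_11 at h
  rcases brec_true h with h | h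
  · exact dp_e_0_s hinv hr hH j u hu h
  · exact dp_e_10_s hinv hr hH j u hu h
theorem dp_e_12_s (hinv : ∀ x, g (inv x) = (g x)⁻¹) (hr : ∀ r ∈ rels, (r.map g).prod = 1) (hH : ∀ r ∈ subs, (r.map g).prod ∈ H)
    (j u : ℕ) (hu : u < M) (h : dp_e_12 j u = true) : Good (fa g) T MG M (cP g H) Lt.e u := by
  unfold dp_e_12 at h
  rcases brec_true h with h | h
  · rcases brec_true h with h | h
    · exact lF3_good (T := T) (x := Lt.e) (by decide) .a .e .a (hole_rel hinv hr (by decide +kernel)) h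
    · exact lF3_good (T := T) (x := Lt.e) (by decide) .h .e .h (hole_rel hinv hr (by decide +kernel)) h
  · exact dp_e_11_s hinv hr hH j u hu h
theorem snd_e (hinv : ∀ x, g (inv x) = (g x)⁻¹) (hr : ∀ r ∈ rels, (r.map g).prod = 1) (hH : ∀ r ∈ subs, (r.map g).prod ∈ H)
    (j u : ℕ) (hu : u < M) (h : disp_e j u = true) : Good (fa g) T MG M (cP g H) Lt.e u := by
  unfold disp_e at h
  rcases brec_true h with h | h
  · rcases brec_true h with h | h
    · exact lF1_good (T := T) (x := Lt.e) (by decide) .e (hole_rel hinv hr (by decide +kernel)) h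
    · exact lDef_good (T := T) (x := Lt.e) (by decide) rfl h
  · rcases brec_true h with h | h
    · rcases brec_true h with h | h
      · exact lPar_good (T := T) (x := Lt.e) (x' := Lt.e) (by decide) rfl (inv_rel hinv _ _ rfl) h
      · rcases brec_true h with h | h
        · exact lF3_good (T := T) (x := Lt.e) (by decide) .k .e .k (hole_rel hinv hr (by decide +kernel)) h
        · exact lF3_good (T := T) (x := Lt.e) (by decide) .i .e .i (hole_rel hinv hr (by decide +kernel)) h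
    · exact dp_e_12_s hinv hr hH j u hu h
theorem snc_e (hinv : ∀ x, g (inv x) = (g x)⁻¹) (hr : ∀ r ∈ rels, (r.map g).prod = 1) (hH : ∀ r ∈ subs, (r.map g).prod ∈ H)
    (j u : ℕ) (hu : u < M) (h : chk_e j u = true) : (T Lt.e u < A ∧ Good (fa g) T MG M (cP g H) Lt.e u) ∨ (A ≤ T Lt.e u ∧ MG u < A) := by
  unfold chk_e at h
  cases hb : Nat.ble A (T_e u) with
  | true => rw [hb] at h; exact Or.inr ⟨le_of_ble hb, le_of_ble h⟩
  | false => rw [hb] at h; exact Or.inl ⟨lt_of_ble_false hb, snd_e hinv hr hH j u hu h⟩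
theorem dp_f_0_s (hinv : ∀ x, g (inv x) = (g x)⁻¹) (hr : ∀ r ∈ rels, (r.map g).prod = 1) (hH : ∀ r ∈ subs, (r.map g).prod ∈ H)
    (j u : ℕ) (hu : u < M) (h : dp_f_0 j u = true) : Good (fa g) T MG M (cP g H) Lt.f u := by
  unfold dp_f_0 at h
  rcases brec_true h with h | h
  · exact lF3_good (T := T) (x := Lt.f) (by decide) .k .f .k (hole_rel hinv hr (by decide +kernel)) h
  · exact lF3_good (T := T) (x := Lt.f) (by decide) .d .f .d (hole_rel hinv hr (by decide +kernel)) h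
theorem dp_f_1_s (hinv : ∀ x, g (inv x) = (g x)⁻¹) (hr : ∀ r ∈ rels, (r.map g).prod = 1) (hH : ∀ r ∈ subs, (r.map g).prod ∈ H)
    (j u : ℕ) (hu : u < M) (h : dp_f_1 j u = true) : Good (fa g) T MG M (cP g H) Lt.f u := by
  unfold dp_f_1 at h
  rcases brec_true h with h | h
  · exact lF3_good (T := T) (x := Lt.f) (by decide) .l .f .l (hole_rel hinv hr (by decide +kernel)) h
  · exact lF3_good (T := T) (x := Lt.f) (by decide) .b .f .b (hole_rel hinv hr (by decide +kernel)) h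
theorem dp_f_2_s (hinv : ∀ x, g (inv x) = (g x)⁻¹) (hr : ∀ r ∈ rels, (r.map g).prod = 1) (hH : ∀ r ∈ subs, (r.map g).prod ∈ H)
    (j u : ℕ) (hu : u < M) (h : dp_f_2 j u = true) : Good (fa g) T MG M (cP g H) Lt.f u := by
  unfold dp_f_2 at h
  rcases brec_true h with h | h
  · exact lS_good (T := T) (x := Lt.f) (by decide) hu [Lt.f] (hole_rel hinv hr (by decide +kernel)) h
  · exact lS_good (T := T) (x := Lt.f) (by decide) hu [Lt.c, Lt.f, Lt.c] (hole_rel hinv hr (by decide +kernel)) h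
theorem dp_f_3_s (hinv : ∀ x, g (inv x) = (g x)⁻¹) (hr : ∀ r ∈ rels, (r.map g).prod = 1) (hH : ∀ r ∈ subs, (r.map g).prod ∈ H)
    (j u : ℕ) (hu : u < M) (h : dp_f_3 j u = true) : Good (fa g) T MG M (cP g H) Lt.f u := by
  unfold dp_f_3 at h
  rcases brec_true h with h | h
  · exact lS_good (T := T) (x := Lt.f) (by decide) hu [Lt.k, Lt.f, Lt.k] (hole_rel hinv hr (by decide +kernel)) h
  · exact lS_good (T := T) (x := Lt.f) (by decide) hu [Lt.i, Lt.f, Lt.i] (hole_rel hinv hr (by decide +kernel)) h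
theorem dp_f_4_s (hinv : ∀ x, g (inv x) = (g x)⁻¹) (hr : ∀ r ∈ rels, (r.map g).prod = 1) (hH : ∀ r ∈ subs, (r.map g).prod ∈ H)
    (j u : ℕ) (hu : u < M) (h : dp_f_4 j u = true) : Good (fa g) T MG M (cP g H) Lt.f u := by
  unfold dp_f_4 at h
  rcases brec_true h with h | h
  · exact lS_good (T := T) (x := Lt.f) (by decide) hu [Lt.j, Lt.f, Lt.j] (hole_rel hinv hr (by decide +kernel)) h
  · exact lS_good (T := T) (x := Lt.f) (by decide) hu [Lt.a, Lt.f, Lt.a] (hole_rel hinv hr (by decide +kernel)) h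
theorem dp_f_5_s (hinv : ∀ x, g (inv x) = (g x)⁻¹) (hr : ∀ r ∈ rels, (r.map g).prod = 1) (hH : ∀ r ∈ subs, (r.map g).prod ∈ H)
    (j u : ℕ) (hu : u < M) (h : dp_f_5 j u = true) : Good (fa g) T MG M (cP g H) Lt.f u := by
  unfold dp_f_5 at h
  rcases brec_true h with h | h
  · exact lH_good (T := T) (x := Lt.f) (by decide) [] [] (by rw [show cP g H 0 = _ from cc_zero]; exact sub_rel hinv (hH _ (by decide))) h
  · exact lF_good (T := T) (x := Lt.f) (by decide) [Lt.e, Lt.d, Lt.c, Lt.b, Lt.a, Lt.h, Lt.f, Lt.e, Lt.d, Lt.c, Lt.b, Lt.a, Lt.h, Lt.f, Lt.e, Lt.d, Lt.c, Lt.b, Lt.a, Lt.h, Lt.f, Lt.e, Lt.d, Lt.c, Lt.b, Lt.a, Lt.h, Lt.f, Lt.e, Lt.d, Lt.c, Lt.b, Lt.a, Lt.l, Lt.h, Lt.f, Lt.e, Lt.d, Lt.c, Lt.b, Lt.a, Lt.h, Lt.f, Lt.e, Lt.d, Lt.c, Lt.b, Lt.a, Lt.h, Lt.f, Lt.e, Lt.d, Lt.c, Lt.b, Lt.a, Lt.h, Lt.f, Lt.e, Lt.d, Lt.c, Lt.b, Lt.a, Lt.h] (hole_rel hinv hr (by decide +kernel)) h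
theorem dp_f_6_s (hinv : ∀ x, g (inv x) = (g x)⁻¹) (hr : ∀ r ∈ rels, (r.map g).prod = 1) (hH : ∀ r ∈ subs, (r.map g).prod ∈ H)
    (j u : ℕ) (hu : u < M) (h : dp_f_6 j u = true) : Good (fa g) T MG M (cP g H) Lt.f u := by
  unfold dp_f_6 at h
  rcases brec_true h with h | h
  · exact lF_good (T := T) (x := Lt.f) (by decide) [Lt.e, Lt.d, Lt.c, Lt.b, Lt.a, Lt.h, Lt.f, Lt.e, Lt.d, Lt.c, Lt.b, Lt.a, Lt.h, Lt.f, Lt.e, Lt.d, Lt.c, Lt.b, Lt.a, Lt.h, Lt.f, Lt.e, Lt.d, Lt.c, Lt.b, Lt.a, Lt.h, Lt.f, Lt.e, Lt.d, Lt.c, Lt.b, Lt.a, Lt.h, Lt.f, Lt.e, Lt.d, Lt.c, Lt.b, Lt.a, Lt.h, Lt.f, Lt.e, Lt.d, Lt.c, Lt.b, Lt.a, Lt.h, Lt.f, Lt.e, Lt.d, Lt.c, Lt.b, Lt.a, Lt.h, Lt.f, Lt.e, Lt.d, Lt.c, Lt.b, Lt.a, Lt.l, Lt.h] (hole_rel hinv hr (by decide +kernel)) h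
  · exact lS_good (T := T) (x := Lt.f) (by decide) hu [Lt.h, Lt.f, Lt.h] (hole_rel hinv hr (by decide +kernel)) h
theorem dp_f_7_s (hinv : ∀ x, g (inv x) = (g x)⁻¹) (hr : ∀ r ∈ rels, (r.map g).prod = 1) (hH : ∀ r ∈ subs, (r.map g).prod ∈ H)
    (j u : ℕ) (hu : u < M) (h : dp_f_7 j u = true) : Good (fa g) T MG M (cP g H) Lt.f u := by
  unfold dp_f_7 at h
  rcases brec_true h with h | h
  · exact dp_f_5_s hinv hr hH j u hu h
  · exact dp_f_6_s hinv hr hH j u hu h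
theorem dp_f_8_s (hinv : ∀ x, g (inv x) = (g x)⁻¹) (hr : ∀ r ∈ rels, (r.map g).prod = 1) (hH : ∀ r ∈ subs, (r.map g).prod ∈ H)
    (j u : ℕ) (hu : u < M) (h : dp_f_8 j u = true) : Good (fa g) T MG M (cP g H) Lt.f u := by
  unfold dp_f_8 at h
  rcases brec_true h with h | h
  · exact dp_f_4_s hinv hr hH j u hu h
  · exact dp_f_7_s hinv hr hH j u hu h
theorem dp_f_9_s (hinv : ∀ x, g (inv x) = (g x)⁻¹) (hr : ∀ r ∈ rels, (r.map g).prod = 1) (hH : ∀ r ∈ subs, (r.map g).prod ∈ H)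
    (j u : ℕ) (hu : u < M) (h : dp_f_9 j u = true) : Good (fa g) T MG M (cP g H) Lt.f u := by
  unfold dp_f_9 at h
  rcases brec_true h with h | h
  · exact dp_f_3_s hinv hr hH j u hu h
  · exact dp_f_8_s hinv hr hH j u hu h
theorem dp_f_10_s (hinv : ∀ x, g (inv x) = (g x)⁻¹) (hr : ∀ r ∈ rels, (r.map g).prod = 1) (hH : ∀ r ∈ subs, (r.map g).prod ∈ H)
    (j u : ℕ) (hu : u < M) (h : dp_f_10 j u = true) : Good (fa g) T MG M (cP g H) Lt.f u := by
  unfold dp_f_10 at h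
  rcases brec_true h with h | h
  · exact dp_f_2_s hinv hr hH j u hu h
  · exact dp_f_9_s hinv hr hH j u hu h
theorem dp_f_11_s (hinv : ∀ x, g (inv x) = (g x)⁻¹) (hr : ∀ r ∈ rels, (r.map g).prod = 1) (hH : ∀ r ∈ subs, (r.map g).prod ∈ H)
    (j u : ℕ) (hu : u < M) (h : dp_f_11 j u = true) : Good (fa g) T MG M (cP g H) Lt.f u := by
  unfold dp_f_11 at h
  rcases brec_true h with h | h
  · exact lF_good (T := T) (x := Lt.f) (by decide) [Lt.g, Lt.f, Lt.g, Lt.f, Lt.g] (hole_rel hinv hr (by decide +kernel)) h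
  · exact dp_f_10_s hinv hr hH j u hu h
theorem dp_f_12_s (hinv : ∀ x, g (inv x) = (g x)⁻¹) (hr : ∀ r ∈ rels, (r.map g).prod = 1) (hH : ∀ r ∈ subs, (r.map g).prod ∈ H)
    (j u : ℕ) (hu : u < M) (h : dp_f_12 j u = true) : Good (fa g) T MG M (cP g H) Lt.f u := by
  unfold dp_f_12 at h
  rcases brec_true h with h | h
  · exact lF_good (T := T) (x := Lt.f) (by decide) [Lt.e, Lt.f, Lt.e, Lt.f, Lt.e] (hole_rel hinv hr (by decide +kernel)) h
  · exact dp_f_11_s hinv hr hH j u hu h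
theorem dp_f_13_s (hinv : ∀ x, g (inv x) = (g x)⁻¹) (hr : ∀ r ∈ rels, (r.map g).prod = 1) (hH : ∀ r ∈ subs, (r.map g).prod ∈ H)
    (j u : ℕ) (hu : u < M) (h : dp_f_13 j u = true) : Good (fa g) T MG M (cP g H) Lt.f u := by
  unfold dp_f_13 at h
  rcases brec_true h with h | h
  · exact lF3_good (T := T) (x := Lt.f) (by decide) .j .f .j (hole_rel hinv hr (by decide +kernel)) h
  · exact dp_f_12_s hinv hr hH j u hu h
theorem dp_f_14_s (hinv : ∀ x, g (inv x) = (g x)⁻¹) (hr : ∀ r ∈ rels, (r.map g).prod = 1) (hH : ∀ r ∈ subs, (r.map g).prod ∈ H)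
    (j u : ℕ) (hu : u < M) (h : dp_f_14 j u = true) : Good (fa g) T MG M (cP g H) Lt.f u := by
  unfold dp_f_14 at h
  rcases brec_true h with h | h
  · exact lF3_good (T := T) (x := Lt.f) (by decide) .c .f .c (hole_rel hinv hr (by decide +kernel)) h
  · exact dp_f_13_s hinv hr hH j u hu h
theorem dp_f_15_s (hinv : ∀ x, g (inv x) = (g x)⁻¹) (hr : ∀ r ∈ rels, (r.map g).prod = 1) (hH : ∀ r ∈ subs, (r.map g).prod ∈ H)
    (j u : ℕ) (hu : u < M) (h : dp_f_15 j u = true) : Good (fa g) T MG M (cP g H) Lt.f u := by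
  unfold dp_f_15 at h
  rcases brec_true h with h | h
  · exact dp_f_1_s hinv hr hH j u hu h
  · exact dp_f_14_s hinv hr hH j u hu h
theorem dp_f_16_s (hinv : ∀ x, g (inv x) = (g x)⁻¹) (hr : ∀ r ∈ rels, (r.map g).prod = 1) (hH : ∀ r ∈ subs, (r.map g).prod ∈ H)
    (j u : ℕ) (hu : u < M) (h : dp_f_16 j u = true) : Good (fa g) T MG M (cP g H) Lt.f u := by
  unfold dp_f_16 at h
  rcases brec_true h with h | h
  · exact dp_f_0_s hinv hr hH j u hu h
  · exact dp_f_15_s hinv hr hH j u hu h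
theorem dp_f_17_s (hinv : ∀ x, g (inv x) = (g x)⁻¹) (hr : ∀ r ∈ rels, (r.map g).prod = 1) (hH : ∀ r ∈ subs, (r.map g).prod ∈ H)
    (j u : ℕ) (hu : u < M) (h : dp_f_17 j u = true) : Good (fa g) T MG M (cP g H) Lt.f u := by
  unfold dp_f_17 at h
  rcases brec_true h with h | h
  · rcases brec_true h with h | h
    · exact lF3_good (T := T) (x := Lt.f) (by decide) .i .f .i (hole_rel hinv hr (by decide +kernel)) h
    · rcases brec_true h with h | h
      · exact lF3_good (T := T) (x := Lt.f) (by decide) .h .f .h (hole_rel hinv hr (by decide +kernel)) h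
      · exact lF3_good (T := T) (x := Lt.f) (by decide) .a .f .a (hole_rel hinv hr (by decide +kernel)) h
  · exact dp_f_16_s hinv hr hH j u hu h
theorem snd_f (hinv : ∀ x, g (inv x) = (g x)⁻¹) (hr : ∀ r ∈ rels, (r.map g).prod = 1) (hH : ∀ r ∈ subs, (r.map g).prod ∈ H)
    (j u : ℕ) (hu : u < M) (h : disp_f j u = true) : Good (fa g) T MG M (cP g H) Lt.f u := by
  unfold disp_f at h
  rcases brec_true h with h | h
  · rcases brec_true h with h | h
    · exact lF1_good (T := T) (x := Lt.f) (by decide) .f (hole_rel hinv hr (by decide +kernel)) h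
    · rcases brec_true h with h | h
      · exact lDef_good (T := T) (x := Lt.f) (by decide) rfl h
      · exact lPar_good (T := T) (x := Lt.f) (x' := Lt.f) (by decide) rfl (inv_rel hinv _ _ rfl) h
  · exact dp_f_17_s hinv hr hH j u hu h
theorem snc_f (hinv : ∀ x, g (inv x) = (g x)⁻¹) (hr : ∀ r ∈ rels, (r.map g).prod = 1) (hH : ∀ r ∈ subs, (r.map g).prod ∈ H)
    (j u : ℕ) (hu : u < M) (h : chk_f j u = true) : (T Lt.f u < A ∧ Good (fa g) T MG M (cP g H) Lt.f u) ∨ (A ≤ T Lt.f u ∧ MG u < A) := by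
  unfold chk_f at h
  cases hb : Nat.ble A (T_f u) with
  | true => rw [hb] at h; exact Or.inr ⟨le_of_ble hb, le_of_ble h⟩
  | false => rw [hb] at h; exact Or.inl ⟨lt_of_ble_false hb, snd_f hinv hr hH j u hu h⟩
theorem dp_g_0_s (hinv : ∀ x, g (inv x) = (g x)⁻¹) (hr : ∀ r ∈ rels, (r.map g).prod = 1) (hH : ∀ r ∈ subs, (r.map g).prod ∈ H)
    (j u : ℕ) (hu : u < M) (h : dp_g_0 j u = true) : Good (fa g) T MG M (cP g H) Lt.g u := by
  unfold dp_g_0 at h
  rcases brec_true h with h | h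
  · exact lPar_good (T := T) (x := Lt.g) (x' := Lt.g) (by decide) rfl (inv_rel hinv _ _ rfl) h
  · exact lF3_good (T := T) (x := Lt.g) (by decide) .e .g .e (hole_rel hinv hr (by decide +kernel)) h
theorem dp_g_1_s (hinv : ∀ x, g (inv x) = (g x)⁻¹) (hr : ∀ r ∈ rels, (r.map g).prod = 1) (hH : ∀ r ∈ subs, (r.map g).prod ∈ H)
    (j u : ℕ) (hu : u < M) (h : dp_g_1 j u = true) : Good (fa g) T MG M (cP g H) Lt.g u := by
  unfold dp_g_1 at h
  rcases brec_true h with h | h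
  · exact lS_good (T := T) (x := Lt.g) (by decide) hu [Lt.g] (hole_rel hinv hr (by decide +kernel)) h
  · exact lS_good (T := T) (x := Lt.g) (by decide) hu [Lt.a, Lt.g, Lt.a] (hole_rel hinv hr (by decide +kernel)) h
theorem dp_g_2_s (hinv : ∀ x, g (inv x) = (g x)⁻¹) (hr : ∀ r ∈ rels, (r.map g).prod = 1) (hH : ∀ r ∈ subs, (r.map g).prod ∈ H)
    (j u : ℕ) (hu : u < M) (h : dp_g_2 j u = true) : Good (fa g) T MG M (cP g H) Lt.g u := by
  unfold dp_g_2 at h
  rcases brec_true h with h | h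
  · exact lS_good (T := T) (x := Lt.g) (by decide) hu [Lt.k, Lt.g, Lt.k] (hole_rel hinv hr (by decide +kernel)) h
  · exact lS_good (T := T) (x := Lt.g) (by decide) hu [Lt.i, Lt.g, Lt.i] (hole_rel hinv hr (by decide +kernel)) h
theorem dp_g_3_s (hinv : ∀ x, g (inv x) = (g x)⁻¹) (hr : ∀ r ∈ rels, (r.map g).prod = 1) (hH : ∀ r ∈ subs, (r.map g).prod ∈ H)
    (j u : ℕ) (hu : u < M) (h : dp_g_3 j u = true) : Good (fa g) T MG M (cP g H) Lt.g u := by
  unfold dp_g_3 at h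
  rcases brec_true h with h | h
  · exact lS_good (T := T) (x := Lt.g) (by decide) hu [Lt.e, Lt.g, Lt.e] (hole_rel hinv hr (by decide +kernel)) h
  · exact lS_good (T := T) (x := Lt.g) (by decide) hu [Lt.c, Lt.g, Lt.c] (hole_rel hinv hr (by decide +kernel)) h
theorem dp_g_4_s (hinv : ∀ x, g (inv x) = (g x)⁻¹) (hr : ∀ r ∈ rels, (r.map g).prod = 1) (hH : ∀ r ∈ subs, (r.map g).prod ∈ H)
    (j u : ℕ) (hu : u < M) (h : dp_g_4 j u = true) : Good (fa g) T MG M (cP g H) Lt.g u := by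
  unfold dp_g_4 at h
  rcases brec_true h with h | h
  · exact lH_good (T := T) (x := Lt.g) (by decide) [] [] (by rw [show cP g H 0 = _ from cc_zero]; exact sub_rel hinv (hH _ (by decide))) h
  · exact lS_good (T := T) (x := Lt.g) (by decide) hu [Lt.h, Lt.g, Lt.h] (hole_rel hinv hr (by decide +kernel)) h
theorem dp_g_5_s (hinv : ∀ x, g (inv x) = (g x)⁻¹) (hr : ∀ r ∈ rels, (r.map g).prod = 1) (hH : ∀ r ∈ subs, (r.map g).prod ∈ H)
    (j u : ℕ) (hu : u < M) (h : dp_g_5 j u = true) : Good (fa g) T MG M (cP g H) Lt.g u := by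
  unfold dp_g_5 at h
  rcases brec_true h with h | h
  · exact lS_good (T := T) (x := Lt.g) (by decide) hu [Lt.b, Lt.g, Lt.b] (hole_rel hinv hr (by decide +kernel)) h
  · exact lS_good (T := T) (x := Lt.g) (by decide) hu [Lt.d, Lt.g, Lt.d] (hole_rel hinv hr (by decide +kernel)) h
theorem dp_g_6_s (hinv : ∀ x, g (inv x) = (g x)⁻¹) (hr : ∀ r ∈ rels, (r.map g).prod = 1) (hH : ∀ r ∈ subs, (r.map g).prod ∈ H)
    (j u : ℕ) (hu : u < M) (h : dp_g_6 j u = true) : Good (fa g) T MG M (cP g H) Lt.g u := by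
  unfold dp_g_6 at h
  rcases brec_true h with h | h
  · exact dp_g_4_s hinv hr hH j u hu h
  · exact dp_g_5_s hinv hr hH j u hu h
theorem dp_g_7_s (hinv : ∀ x, g (inv x) = (g x)⁻¹) (hr : ∀ r ∈ rels, (r.map g).prod = 1) (hH : ∀ r ∈ subs, (r.map g).prod ∈ H)
    (j u : ℕ) (hu : u < M) (h : dp_g_7 j u = true) : Good (fa g) T MG M (cP g H) Lt.g u := by
  unfold dp_g_7 at h
  rcases brec_true h with h | h
  · exact dp_g_3_s hinv hr hH j u hu h
  · exact dp_g_6_s hinv hr hH j u hu h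
theorem dp_g_8_s (hinv : ∀ x, g (inv x) = (g x)⁻¹) (hr : ∀ r ∈ rels, (r.map g).prod = 1) (hH : ∀ r ∈ subs, (r.map g).prod ∈ H)
    (j u : ℕ) (hu : u < M) (h : dp_g_8 j u = true) : Good (fa g) T MG M (cP g H) Lt.g u := by
  unfold dp_g_8 at h
  rcases brec_true h with h | h
  · exact dp_g_2_s hinv hr hH j u hu h
  · exact dp_g_7_s hinv hr hH j u hu h
theorem dp_g_9_s (hinv : ∀ x, g (inv x) = (g x)⁻¹) (hr : ∀ r ∈ rels, (r.map g).prod = 1) (hH : ∀ r ∈ subs, (r.map g).prod ∈ H)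
    (j u : ℕ) (hu : u < M) (h : dp_g_9 j u = true) : Good (fa g) T MG M (cP g H) Lt.g u := by
  unfold dp_g_9 at h
  rcases brec_true h with h | h
  · exact dp_g_1_s hinv hr hH j u hu h
  · exact dp_g_8_s hinv hr hH j u hu h
theorem dp_g_10_s (hinv : ∀ x, g (inv x) = (g x)⁻¹) (hr : ∀ r ∈ rels, (r.map g).prod = 1) (hH : ∀ r ∈ subs, (r.map g).prod ∈ H)
    (j u : ℕ) (hu : u < M) (h : dp_g_10 j u = true) : Good (fa g) T MG M (cP g H) Lt.g u := by
  unfold dp_g_10 at h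
  rcases brec_true h with h | h
  · exact lF_good (T := T) (x := Lt.g) (by decide) [Lt.j, Lt.g, Lt.j, Lt.g, Lt.j] (hole_rel hinv hr (by decide +kernel)) h
  · exact dp_g_9_s hinv hr hH j u hu h
theorem dp_g_11_s (hinv : ∀ x, g (inv x) = (g x)⁻¹) (hr : ∀ r ∈ rels, (r.map g).prod = 1) (hH : ∀ r ∈ subs, (r.map g).prod ∈ H)
    (j u : ℕ) (hu : u < M) (h : dp_g_11 j u = true) : Good (fa g) T MG M (cP g H) Lt.g u := by
  unfold dp_g_11 at h
  rcases brec_true h with h | h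
  · exact lF_good (T := T) (x := Lt.g) (by decide) [Lt.f, Lt.g, Lt.f, Lt.g, Lt.f] (hole_rel hinv hr (by decide +kernel)) h
  · exact dp_g_10_s hinv hr hH j u hu h
theorem dp_g_12_s (hinv : ∀ x, g (inv x) = (g x)⁻¹) (hr : ∀ r ∈ rels, (r.map g).prod = 1) (hH : ∀ r ∈ subs, (r.map g).prod ∈ H)
    (j u : ℕ) (hu : u < M) (h : dp_g_12 j u = true) : Good (fa g) T MG M (cP g H) Lt.g u := by
  unfold dp_g_12 at h
  rcases brec_true h with h | h
  · exact lF3_good (T := T) (x := Lt.g) (by decide) .c .g .c (hole_rel hinv hr (by decide +kernel)) h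
  · exact dp_g_11_s hinv hr hH j u hu h
theorem dp_g_13_s (hinv : ∀ x, g (inv x) = (g x)⁻¹) (hr : ∀ r ∈ rels, (r.map g).prod = 1) (hH : ∀ r ∈ subs, (r.map g).prod ∈ H)
    (j u : ℕ) (hu : u < M) (h : dp_g_13 j u = true) : Good (fa g) T MG M (cP g H) Lt.g u := by
  unfold dp_g_13 at h
  rcases brec_true h with h | h
  · exact lF3_good (T := T) (x := Lt.g) (by decide) .l .g .l (hole_rel hinv hr (by decide +kernel)) h
  · exact dp_g_12_s hinv hr hH j u hu h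
theorem dp_g_14_s (hinv : ∀ x, g (inv x) = (g x)⁻¹) (hr : ∀ r ∈ rels, (r.map g).prod = 1) (hH : ∀ r ∈ subs, (r.map g).prod ∈ H)
    (j u : ℕ) (hu : u < M) (h : dp_g_14 j u = true) : Good (fa g) T MG M (cP g H) Lt.g u := by
  unfold dp_g_14 at h
  rcases brec_true h with h | h
  · exact lF3_good (T := T) (x := Lt.g) (by decide) .b .g .b (hole_rel hinv hr (by decide +kernel)) h
  · exact dp_g_13_s hinv hr hH j u hu h
theorem dp_g_15_s (hinv : ∀ x, g (inv x) = (g x)⁻¹) (hr : ∀ r ∈ rels, (r.map g).prod = 1) (hH : ∀ r ∈ subs, (r.map g).prod ∈ H)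
    (j u : ℕ) (hu : u < M) (h : dp_g_15 j u = true) : Good (fa g) T MG M (cP g H) Lt.g u := by
  unfold dp_g_15 at h
  rcases brec_true h with h | h
  · rcases brec_true h with h | h
    · exact lDef_good (T := T) (x := Lt.g) (by decide) rfl h
    · exact dp_g_0_s hinv hr hH j u hu h
  · exact dp_g_14_s hinv hr hH j u hu h
theorem snd_g (hinv : ∀ x, g (inv x) = (g x)⁻¹) (hr : ∀ r ∈ rels, (r.map g).prod = 1) (hH : ∀ r ∈ subs, (r.map g).prod ∈ H)
    (j u : ℕ) (hu : u < M) (h : disp_g j u = true) : Good (fa g) T MG M (cP g H) Lt.g u := by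
  unfold disp_g at h
  rcases brec_true h with h | h
  · rcases brec_true h with h | h
    · exact lF1_good (T := T) (x := Lt.g) (by decide) .g (hole_rel hinv hr (by decide +kernel)) h
    · exact lF3_good (T := T) (x := Lt.g) (by decide) .h .g .h (hole_rel hinv hr (by decide +kernel)) h
  · rcases brec_true h with h | h
    · rcases brec_true h with h | h
      · rcases brec_true h with h | h
        · exact lF3_good (T := T) (x := Lt.g) (by decide) .i .g .i (hole_rel hinv hr (by decide +kernel)) h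
        · exact lF3_good (T := T) (x := Lt.g) (by decide) .a .g .a (hole_rel hinv hr (by decide +kernel)) h
      · rcases brec_true h with h | h
        · exact lF3_good (T := T) (x := Lt.g) (by decide) .k .g .k (hole_rel hinv hr (by decide +kernel)) h
        · exact lF3_good (T := T) (x := Lt.g) (by decide) .d .g .d (hole_rel hinv hr (by decide +kernel)) h
    · exact dp_g_15_s hinv hr hH j u hu h
theorem snc_g (hinv : ∀ x, g (inv x) = (g x)⁻¹) (hr : ∀ r ∈ rels, (r.map g).prod = 1) (hH : ∀ r ∈ subs, (r.map g).prod ∈ H)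
    (j u : ℕ) (hu : u < M) (h : chk_g j u = true) : (T Lt.g u < A ∧ Good (fa g) T MG M (cP g H) Lt.g u) ∨ (A ≤ T Lt.g u ∧ MG u < A) := by
  unfold chk_g at h
  cases hb : Nat.ble A (T_g u) with
  | true => rw [hb] at h; exact Or.inr ⟨le_of_ble hb, le_of_ble h⟩
  | false => rw [hb] at h; exact Or.inl ⟨lt_of_ble_false hb, snd_g hinv hr hH j u hu h⟩
theorem dp_j_0_s (hinv : ∀ x, g (inv x) = (g x)⁻¹) (hr : ∀ r ∈ rels, (r.map g).prod = 1) (hH : ∀ r ∈ subs, (r.map g).prod ∈ H)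
    (j u : ℕ) (hu : u < M) (h : dp_j_0 j u = true) : Good (fa g) T MG M (cP g H) Lt.j u := by
  unfold dp_j_0 at h
  rcases brec_true h with h | h
  · exact lF3_good (T := T) (x := Lt.j) (by decide) .k .j .k (hole_rel hinv hr (by decide +kernel)) h
  · exact lF3_good (T := T) (x := Lt.j) (by decide) .d .j .d (hole_rel hinv hr (by decide +kernel)) h
theorem dp_j_1_s (hinv : ∀ x, g (inv x) = (g x)⁻¹) (hr : ∀ r ∈ rels, (r.map g).prod = 1) (hH : ∀ r ∈ subs, (r.map g).prod ∈ H)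
    (j u : ℕ) (hu : u < M) (h : dp_j_1 j u = true) : Good (fa g) T MG M (cP g H) Lt.j u := by
  unfold dp_j_1 at h
  rcases brec_true h with h | h
  · exact lF3_good (T := T) (x := Lt.j) (by decide) .l .j .l (hole_rel hinv hr (by decide +kernel)) h
  · exact lF3_good (T := T) (x := Lt.j) (by decide) .b .j .b (hole_rel hinv hr (by decide +kernel)) h
theorem dp_j_2_s (hinv : ∀ x, g (inv x) = (g x)⁻¹) (hr : ∀ r ∈ rels, (r.map g).prod = 1) (hH : ∀ r ∈ subs, (r.map g).prod ∈ H)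
    (j u : ℕ) (hu : u < M) (h : dp_j_2 j u = true) : Good (fa g) T MG M (cP g H) Lt.j u := by
  unfold dp_j_2 at h
  rcases brec_true h with h | h
  · exact lF3_good (T := T) (x := Lt.j) (by decide) .c .j .c (hole_rel hinv hr (by decide +kernel)) h
  · exact lF3_good (T := T) (x := Lt.j) (by decide) .f .j .f (hole_rel hinv hr (by decide +kernel)) h
theorem dp_j_3_s (hinv : ∀ x, g (inv x) = (g x)⁻¹) (hr : ∀ r ∈ rels, (r.map g).prod = 1) (hH : ∀ r ∈ subs, (r.map g).prod ∈ H)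
    (j u : ℕ) (hu : u < M) (h : dp_j_3 j u = true) : Good (fa g) T MG M (cP g H) Lt.j u := by
  unfold dp_j_3 at h
  rcases brec_true h with h | h
  · exact lF_good (T := T) (x := Lt.j) (by decide) [Lt.g, Lt.j, Lt.g, Lt.j, Lt.g] (hole_rel hinv hr (by decide +kernel)) h
  · exact lS_good (T := T) (x := Lt.j) (by decide) hu [Lt.j] (hole_rel hinv hr (by decide +kernel)) h
theorem dp_j_4_s (hinv : ∀ x, g (inv x) = (g x)⁻¹) (hr : ∀ r ∈ rels, (r.map g).prod = 1) (hH : ∀ r ∈ subs, (r.map g).prod ∈ H)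
    (j u : ℕ) (hu : u < M) (h : dp_j_4 j u = true) : Good (fa g) T MG M (cP g H) Lt.j u := by
  unfold dp_j_4 at h
  rcases brec_true h with h | h
  · exact lS_good (T := T) (x := Lt.j) (by decide) hu [Lt.c, Lt.j, Lt.c] (hole_rel hinv hr (by decide +kernel)) h
  · exact lS_good (T := T) (x := Lt.j) (by decide) hu [Lt.k, Lt.j, Lt.k] (hole_rel hinv hr (by decide +kernel)) h
theorem dp_j_5_s (hinv : ∀ x, g (inv x) = (g x)⁻¹) (hr : ∀ r ∈ rels, (r.map g).prod = 1) (hH : ∀ r ∈ subs, (r.map g).prod ∈ H)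
    (j u : ℕ) (hu : u < M) (h : dp_j_5 j u = true) : Good (fa g) T MG M (cP g H) Lt.j u := by
  unfold dp_j_5 at h
  rcases brec_true h with h | h
  · exact lS_good (T := T) (x := Lt.j) (by decide) hu [Lt.e, Lt.j, Lt.e] (hole_rel hinv hr (by decide +kernel)) h
  · exact dp_j_4_s hinv hr hH j u hu h
theorem dp_j_6_s (hinv : ∀ x, g (inv x) = (g x)⁻¹) (hr : ∀ r ∈ rels, (r.map g).prod = 1) (hH : ∀ r ∈ subs, (r.map g).prod ∈ H)
    (j u : ℕ) (hu : u < M) (h : dp_j_6 j u = true) : Good (fa g) T MG M (cP g H) Lt.j u := by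
  unfold dp_j_6 at h
  rcases brec_true h with h | h
  · exact lS_good (T := T) (x := Lt.j) (by decide) hu [Lt.i, Lt.j, Lt.i] (hole_rel hinv hr (by decide +kernel)) h
  · exact lH_good (T := T) (x := Lt.j) (by decide) [] [] (by rw [show cP g H 0 = _ from cc_zero]; exact sub_rel hinv (hH _ (by decide))) h
theorem dp_j_7_s (hinv : ∀ x, g (inv x) = (g x)⁻¹) (hr : ∀ r ∈ rels, (r.map g).prod = 1) (hH : ∀ r ∈ subs, (r.map g).prod ∈ H)
    (j u : ℕ) (hu : u < M) (h : dp_j_7 j u = true) : Good (fa g) T MG M (cP g H) Lt.j u := by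
  unfold dp_j_7 at h
  rcases brec_true h with h | h
  · exact lS_good (T := T) (x := Lt.j) (by decide) hu [Lt.h, Lt.j, Lt.h] (hole_rel hinv hr (by decide +kernel)) h
  · exact lS_good (T := T) (x := Lt.j) (by decide) hu [Lt.f, Lt.j, Lt.f] (hole_rel hinv hr (by decide +kernel)) h
theorem dp_j_8_s (hinv : ∀ x, g (inv x) = (g x)⁻¹) (hr : ∀ r ∈ rels, (r.map g).prod = 1) (hH : ∀ r ∈ subs, (r.map g).prod ∈ H)
    (j u : ℕ) (hu : u < M) (h : dp_j_8 j u = true) : Good (fa g) T MG M (cP g H) Lt.j u := by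
  unfold dp_j_8 at h
  rcases brec_true h with h | h
  · exact lS_good (T := T) (x := Lt.j) (by decide) hu [Lt.a, Lt.j, Lt.a] (hole_rel hinv hr (by decide +kernel)) h
  · exact dp_j_7_s hinv hr hH j u hu h
theorem dp_j_9_s (hinv : ∀ x, g (inv x) = (g x)⁻¹) (hr : ∀ r ∈ rels, (r.map g).prod = 1) (hH : ∀ r ∈ subs, (r.map g).prod ∈ H)
    (j u : ℕ) (hu : u < M) (h : dp_j_9 j u = true) : Good (fa g) T MG M (cP g H) Lt.j u := by
  unfold dp_j_9 at h
  rcases brec_true h with h | h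
  · exact dp_j_6_s hinv hr hH j u hu h
  · exact dp_j_8_s hinv hr hH j u hu h
theorem dp_j_10_s (hinv : ∀ x, g (inv x) = (g x)⁻¹) (hr : ∀ r ∈ rels, (r.map g).prod = 1) (hH : ∀ r ∈ subs, (r.map g).prod ∈ H)
    (j u : ℕ) (hu : u < M) (h : dp_j_10 j u = true) : Good (fa g) T MG M (cP g H) Lt.j u := by
  unfold dp_j_10 at h
  rcases brec_true h with h | h
  · exact dp_j_5_s hinv hr hH j u hu h
  · exact dp_j_9_s hinv hr hH j u hu h
theorem dp_j_11_s (hinv : ∀ x, g (inv x) = (g x)⁻¹) (hr : ∀ r ∈ rels, (r.map g).prod = 1) (hH : ∀ r ∈ subs, (r.map g).prod ∈ H)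
    (j u : ℕ) (hu : u < M) (h : dp_j_11 j u = true) : Good (fa g) T MG M (cP g H) Lt.j u := by
  unfold dp_j_11 at h
  rcases brec_true h with h | h
  · exact dp_j_3_s hinv hr hH j u hu h
  · exact dp_j_10_s hinv hr hH j u hu h
theorem dp_j_12_s (hinv : ∀ x, g (inv x) = (g x)⁻¹) (hr : ∀ r ∈ rels, (r.map g).prod = 1) (hH : ∀ r ∈ subs, (r.map g).prod ∈ H)
    (j u : ℕ) (hu : u < M) (h : dp_j_12 j u = true) : Good (fa g) T MG M (cP g H) Lt.j u := by
  unfold dp_j_12 at h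
  rcases brec_true h with h | h
  · exact lPar_good (T := T) (x := Lt.j) (x' := Lt.j) (by decide) rfl (inv_rel hinv _ _ rfl) h
  · exact dp_j_11_s hinv hr hH j u hu h
theorem dp_j_13_s (hinv : ∀ x, g (inv x) = (g x)⁻¹) (hr : ∀ r ∈ rels, (r.map g).prod = 1) (hH : ∀ r ∈ subs, (r.map g).prod ∈ H)
    (j u : ℕ) (hu : u < M) (h : dp_j_13 j u = true) : Good (fa g) T MG M (cP g H) Lt.j u := by
  unfold dp_j_13 at h
  rcases brec_true h with h | h
  · exact lDef_good (T := T) (x := Lt.j) (by decide) rfl h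
  · exact dp_j_12_s hinv hr hH j u hu h
theorem dp_j_14_s (hinv : ∀ x, g (inv x) = (g x)⁻¹) (hr : ∀ r ∈ rels, (r.map g).prod = 1) (hH : ∀ r ∈ subs, (r.map g).prod ∈ H)
    (j u : ℕ) (hu : u < M) (h : dp_j_14 j u = true) : Good (fa g) T MG M (cP g H) Lt.j u := by
  unfold dp_j_14 at h
  rcases brec_true h with h | h
  · exact dp_j_2_s hinv hr hH j u hu h
  · exact dp_j_13_s hinv hr hH j u hu h
theorem dp_j_15_s (hinv : ∀ x, g (inv x) = (g x)⁻¹) (hr : ∀ r ∈ rels, (r.map g).prod = 1) (hH : ∀ r ∈ subs, (r.map g).prod ∈ H)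
    (j u : ℕ) (hu : u < M) (h : dp_j_15 j u = true) : Good (fa g) T MG M (cP g H) Lt.j u := by
  unfold dp_j_15 at h
  rcases brec_true h with h | h
  · rcases brec_true h with h | h
    · exact lF3_good (T := T) (x := Lt.j) (by decide) .e .j .e (hole_rel hinv hr (by decide +kernel)) h
    · exact dp_j_1_s hinv hr hH j u hu h
  · exact dp_j_14_s hinv hr hH j u hu h
theorem snd_j (hinv : ∀ x, g (inv x) = (g x)⁻¹) (hr : ∀ r ∈ rels, (r.map g).prod = 1) (hH : ∀ r ∈ subs, (r.map g).prod ∈ H)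
    (j u : ℕ) (hu : u < M) (h : disp_j j u = true) : Good (fa g) T MG M (cP g H) Lt.j u := by
  unfold disp_j at h
  rcases brec_true h with h | h
  · rcases brec_true h with h | h
    · exact lF1_good (T := T) (x := Lt.j) (by decide) .j (hole_rel hinv hr (by decide +kernel)) h
    · exact lF3_good (T := T) (x := Lt.j) (by decide) .i .j .i (hole_rel hinv hr (by decide +kernel)) h
  · rcases brec_true h with h | h
    · rcases brec_true h with h | h
      · rcases brec_true h with h | h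
        · exact lF3_good (T := T) (x := Lt.j) (by decide) .h .j .h (hole_rel hinv hr (by decide +kernel)) h
        · exact lF3_good (T := T) (x := Lt.j) (by decide) .a .j .a (hole_rel hinv hr (by decide +kernel)) h
      · exact dp_j_0_s hinv hr hH j u hu h
    · exact dp_j_15_s hinv hr hH j u hu h
theorem snc_j (hinv : ∀ x, g (inv x) = (g x)⁻¹) (hr : ∀ r ∈ rels, (r.map g).prod = 1) (hH : ∀ r ∈ subs, (r.map g).prod ∈ H)
    (j u : ℕ) (hu : u < M) (h : chk_j j u = true) : (T Lt.j u < A ∧ Good (fa g) T MG M (cP g H) Lt.j u) ∨ (A ≤ T Lt.j u ∧ MG u < A) := by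
  unfold chk_j at h
  cases hb : Nat.ble A (T_j u) with
  | true => rw [hb] at h; exact Or.inr ⟨le_of_ble hb, le_of_ble h⟩
  | false => rw [hb] at h; exact Or.inl ⟨lt_of_ble_false hb, snd_j hinv hr hH j u hu h⟩
theorem dp_h_0_s (hinv : ∀ x, g (inv x) = (g x)⁻¹) (hr : ∀ r ∈ rels, (r.map g).prod = 1) (hH : ∀ r ∈ subs, (r.map g).prod ∈ H)
    (j u : ℕ) (hu : u < M) (h : dp_h_0 j u = true) : Good (fa g) T MG M (cP g H) Lt.h u := by
  unfold dp_h_0 at h
  rcases brec_true h with h | h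
  · exact lF3_good (T := T) (x := Lt.h) (by decide) .b .h .b (hole_rel hinv hr (by decide +kernel)) h
  · exact lF3_good (T := T) (x := Lt.h) (by decide) .c .h .c (hole_rel hinv hr (by decide +kernel)) h
theorem dp_h_1_s (hinv : ∀ x, g (inv x) = (g x)⁻¹) (hr : ∀ r ∈ rels, (r.map g).prod = 1) (hH : ∀ r ∈ subs, (r.map g).prod ∈ H)
    (j u : ℕ) (hu : u < M) (h : dp_h_1 j u = true) : Good (fa g) T MG M (cP g H) Lt.h u := by
  unfold dp_h_1 at h
  rcases brec_true h with h | h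
  · exact lF3_good (T := T) (x := Lt.h) (by decide) .g .h .g (hole_rel hinv hr (by decide +kernel)) h
  · exact lF3_good (T := T) (x := Lt.h) (by decide) .f .h .f (hole_rel hinv hr (by decide +kernel)) h
theorem dp_h_2_s (hinv : ∀ x, g (inv x) = (g x)⁻¹) (hr : ∀ r ∈ rels, (r.map g).prod = 1) (hH : ∀ r ∈ subs, (r.map g).prod ∈ H)
    (j u : ℕ) (hu : u < M) (h : dp_h_2 j u = true) : Good (fa g) T MG M (cP g H) Lt.h u := by
  unfold dp_h_2 at h
  rcases brec_true h with h | h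
  · exact lS_good (T := T) (x := Lt.h) (by decide) hu [Lt.g, Lt.h, Lt.g] (hole_rel hinv hr (by decide +kernel)) h
  · exact lS_good (T := T) (x := Lt.h) (by decide) hu [Lt.a, Lt.h, Lt.a] (hole_rel hinv hr (by decide +kernel)) h
theorem dp_h_3_s (hinv : ∀ x, g (inv x) = (g x)⁻¹) (hr : ∀ r ∈ rels, (r.map g).prod = 1) (hH : ∀ r ∈ subs, (r.map g).prod ∈ H)
    (j u : ℕ) (hu : u < M) (h : dp_h_3 j u = true) : Good (fa g) T MG M (cP g H) Lt.h u := by
  unfold dp_h_3 at h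
  rcases brec_true h with h | h
  · exact lS_good (T := T) (x := Lt.h) (by decide) hu [Lt.k, Lt.h, Lt.k] (hole_rel hinv hr (by decide +kernel)) h
  · exact lS_good (T := T) (x := Lt.h) (by decide) hu [Lt.j, Lt.h, Lt.j] (hole_rel hinv hr (by decide +kernel)) h
theorem dp_h_4_s (hinv : ∀ x, g (inv x) = (g x)⁻¹) (hr : ∀ r ∈ rels, (r.map g).prod = 1) (hH : ∀ r ∈ subs, (r.map g).prod ∈ H)
    (j u : ℕ) (hu : u < M) (h : dp_h_4 j u = true) : Good (fa g) T MG M (cP g H) Lt.h u := by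
  unfold dp_h_4 at h
  rcases brec_true h with h | h
  · exact lF_good (T := T) (x := Lt.h) (by decide) [Lt.a, Lt.b, Lt.c, Lt.d, Lt.e, Lt.f, Lt.h, Lt.a, Lt.b, Lt.c, Lt.d, Lt.e, Lt.f, Lt.h, Lt.l, Lt.a, Lt.b, Lt.c, Lt.d, Lt.e, Lt.f, Lt.h, Lt.a, Lt.b, Lt.c, Lt.d, Lt.e, Lt.f, Lt.h, Lt.a, Lt.b, Lt.c, Lt.d, Lt.e, Lt.f, Lt.h, Lt.a, Lt.b, Lt.c, Lt.d, Lt.e, Lt.f, Lt.h, Lt.a, Lt.b, Lt.c, Lt.d, Lt.e, Lt.f, Lt.h, Lt.a, Lt.b, Lt.c, Lt.d, Lt.e, Lt.f, Lt.h, Lt.a, Lt.b, Lt.c, Lt.d, Lt.e, Lt.f] (hole_rel hinv hr (by decide +kernel)) h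
  · exact lS_good (T := T) (x := Lt.h) (by decide) hu [Lt.i, Lt.d, Lt.c, Lt.b, Lt.a, Lt.k, Lt.l, Lt.d, Lt.e, Lt.f, Lt.g, Lt.j, Lt.d, Lt.h, Lt.i, Lt.d, Lt.c, Lt.b, Lt.a, Lt.k, Lt.l, Lt.d, Lt.e, Lt.f, Lt.g, Lt.j, Lt.d, Lt.h, Lt.i, Lt.d, Lt.c, Lt.b, Lt.a, Lt.k, Lt.l, Lt.d, Lt.e, Lt.f, Lt.g, Lt.j, Lt.d, Lt.h, Lt.i, Lt.d, Lt.c, Lt.b, Lt.a, Lt.k, Lt.l, Lt.d, Lt.e, Lt.f, Lt.g, Lt.j, Lt.d, Lt.h, Lt.i, Lt.d, Lt.c, Lt.b, Lt.a, Lt.k, Lt.l, Lt.d, Lt.e, Lt.f, Lt.g, Lt.j, Lt.d, Lt.h, Lt.i, Lt.d, Lt.c, Lt.b, Lt.a, Lt.k, Lt.l, Lt.d, Lt.e, Lt.f, Lt.g, Lt.j, Lt.d, Lt.h, Lt.i, Lt.d, Lt.c, Lt.b, Lt.a, Lt.k, Lt.l, Lt.d, Lt.e, Lt.f, Lt.g, Lt.j, Lt.d, Lt.h, Lt.i, Lt.d, Lt.c, Lt.b, Lt.a, Lt.k, Lt.l, Lt.d, Lt.e, Lt.f, Lt.g, Lt.j, Lt.d, Lt.h, Lt.i, Lt.d, Lt.c, Lt.b, Lt.a, Lt.k, Lt.l, Lt.d, Lt.e, Lt.f, Lt.g, Lt.j, Lt.d, Lt.h, Lt.i, Lt.d, Lt.c, Lt.b, Lt.a, Lt.k, Lt.l, Lt.d, Lt.e, Lt.f, Lt.g, Lt.j, Lt.d, Lt.h, Lt.i, Lt.d, Lt.c, Lt.b,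 Lt.a, Lt.k, Lt.l, Lt.d, Lt.e, Lt.f, Lt.g, Lt.j, Lt.d, Lt.h, Lt.i, Lt.d, Lt.c, Lt.b, Lt.a, Lt.k, Lt.l, Lt.d, Lt.e, Lt.f, Lt.g, Lt.j, Lt.d, Lt.h, Lt.i, Lt.d, Lt.c, Lt.b, Lt.a, Lt.k, Lt.l, Lt.d, Lt.e, Lt.f, Lt.g, Lt.j, Lt.d, Lt.h, Lt.i, Lt.d, Lt.c, Lt.b, Lt.a, Lt.k, Lt.l, Lt.d, Lt.e, Lt.f, Lt.g, Lt.j, Lt.d, Lt.h, Lt.i, Lt.d, Lt.c, Lt.b, Lt.a, Lt.k, Lt.l, Lt.d, Lt.e, Lt.f, Lt.g, Lt.j, Lt.d, Lt.h, Lt.i, Lt.d, Lt.c, Lt.b, Lt.a, Lt.k, Lt.l, Lt.d, Lt.e, Lt.f, Lt.g, Lt.j, Lt.d, Lt.h, Lt.i, Lt.d, Lt.c, Lt.b, Lt.a, Lt.k, Lt.l, Lt.d, Lt.e, Lt.f, Lt.g, Lt.j, Lt.d] (hole_rel hinv hr (by decide +kernel)) h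
theorem dp_h_5_s (hinv : ∀ x, g (inv x) = (g x)⁻¹) (hr : ∀ r ∈ rels, (r.map g).prod = 1) (hH : ∀ r ∈ subs, (r.map g).prod ∈ H)
    (j u : ℕ) (hu : u < M) (h : dp_h_5 j u = true) : Good (fa g) T MG M (cP g H) Lt.h u := by
  unfold dp_h_5 at h
  rcases brec_true h with h | h
  · exact lH_good (T := T) (x := Lt.h) (by decide) [] [] (by rw [show cP g H 0 = _ from cc_zero]; exact sub_rel hinv (hH _ (by decide))) h
  · exact dp_h_4_s hinv hr hH j u hu h
theorem dp_h_6_s (hinv : ∀ x, g (inv x) = (g x)⁻¹) (hr : ∀ r ∈ rels, (r.map g).prod = 1) (hH : ∀ r ∈ subs, (r.map g).prod ∈ H)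
    (j u : ℕ) (hu : u < M) (h : dp_h_6 j u = true) : Good (fa g) T MG M (cP g H) Lt.h u := by
  unfold dp_h_6 at h
  rcases brec_true h with h | h
  · exact lS_good (T := T) (x := Lt.h) (by decide) hu [Lt.e, Lt.h, Lt.e] (hole_rel hinv hr (by decide +kernel)) h
  · exact dp_h_5_s hinv hr hH j u hu h
theorem dp_h_7_s (hinv : ∀ x, g (inv x) = (g x)⁻¹) (hr : ∀ r ∈ rels, (r.map g).prod = 1) (hH : ∀ r ∈ subs, (r.map g).prod ∈ H)
    (j u : ℕ) (hu : u < M) (h : dp_h_7 j u = true) : Good (fa g) T MG M (cP g H) Lt.h u := by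
  unfold dp_h_7 at h
  rcases brec_true h with h | h
  · exact dp_h_3_s hinv hr hH j u hu h
  · exact dp_h_6_s hinv hr hH j u hu h
theorem dp_h_8_s (hinv : ∀ x, g (inv x) = (g x)⁻¹) (hr : ∀ r ∈ rels, (r.map g).prod = 1) (hH : ∀ r ∈ subs, (r.map g).prod ∈ H)
    (j u : ℕ) (hu : u < M) (h : dp_h_8 j u = true) : Good (fa g) T MG M (cP g H) Lt.h u := by
  unfold dp_h_8 at h
  rcases brec_true h with h | h
  · exact dp_h_2_s hinv hr hH j u hu h
  · exact dp_h_7_s hinv hr hH j u hu h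
theorem dp_h_9_s (hinv : ∀ x, g (inv x) = (g x)⁻¹) (hr : ∀ r ∈ rels, (r.map g).prod = 1) (hH : ∀ r ∈ subs, (r.map g).prod ∈ H)
    (j u : ℕ) (hu : u < M) (h : dp_h_9 j u = true) : Good (fa g) T MG M (cP g H) Lt.h u := by
  unfold dp_h_9 at h
  rcases brec_true h with h | h
  · exact lS_good (T := T) (x := Lt.h) (by decide) hu [Lt.h] (hole_rel hinv hr (by decide +kernel)) h
  · exact dp_h_8_s hinv hr hH j u hu h
theorem dp_h_10_s (hinv : ∀ x, g (inv x) = (g x)⁻¹) (hr : ∀ r ∈ rels, (r.map g).prod = 1) (hH : ∀ r ∈ subs, (r.map g).prod ∈ H)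
    (j u : ℕ) (hu : u < M) (h : dp_h_10 j u = true) : Good (fa g) T MG M (cP g H) Lt.h u := by
  unfold dp_h_10 at h
  rcases brec_true h with h | h
  · exact lF_good (T := T) (x := Lt.h) (by decide) [Lt.i, Lt.h, Lt.i, Lt.h, Lt.i] (hole_rel hinv hr (by decide +kernel)) h
  · exact dp_h_9_s hinv hr hH j u hu h
theorem dp_h_11_s (hinv : ∀ x, g (inv x) = (g x)⁻¹) (hr : ∀ r ∈ rels, (r.map g).prod = 1) (hH : ∀ r ∈ subs, (r.map g).prod ∈ H)
    (j u : ℕ) (hu : u < M) (h : dp_h_11 j u = true) : Good (fa g) T MG M (cP g H) Lt.h u := by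
  unfold dp_h_11 at h
  rcases brec_true h with h | h
  · exact lF_good (T := T) (x := Lt.h) (by decide) [Lt.d, Lt.h, Lt.d, Lt.h, Lt.d] (hole_rel hinv hr (by decide +kernel)) h
  · exact dp_h_10_s hinv hr hH j u hu h
theorem dp_h_12_s (hinv : ∀ x, g (inv x) = (g x)⁻¹) (hr : ∀ r ∈ rels, (r.map g).prod = 1) (hH : ∀ r ∈ subs, (r.map g).prod ∈ H)
    (j u : ℕ) (hu : u < M) (h : dp_h_12 j u = true) : Good (fa g) T MG M (cP g H) Lt.h u := by
  unfold dp_h_12 at h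
  rcases brec_true h with h | h
  · exact lF3_good (T := T) (x := Lt.h) (by decide) .e .h .e (hole_rel hinv hr (by decide +kernel)) h
  · exact dp_h_11_s hinv hr hH j u hu h
theorem dp_h_13_s (hinv : ∀ x, g (inv x) = (g x)⁻¹) (hr : ∀ r ∈ rels, (r.map g).prod = 1) (hH : ∀ r ∈ subs, (r.map g).prod ∈ H)
    (j u : ℕ) (hu : u < M) (h : dp_h_13 j u = true) : Good (fa g) T MG M (cP g H) Lt.h u := by
  unfold dp_h_13 at h
  rcases brec_true h with h | h
  · exact lF3_good (T := T) (x := Lt.h) (by decide) .j .h .j (hole_rel hinv hr (by decide +kernel)) h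
  · exact dp_h_12_s hinv hr hH j u hu h
theorem dp_h_14_s (hinv : ∀ x, g (inv x) = (g x)⁻¹) (hr : ∀ r ∈ rels, (r.map g).prod = 1) (hH : ∀ r ∈ subs, (r.map g).prod ∈ H)
    (j u : ℕ) (hu : u < M) (h : dp_h_14 j u = true) : Good (fa g) T MG M (cP g H) Lt.h u := by
  unfold dp_h_14 at h
  rcases brec_true h with h | h
  · exact dp_h_1_s hinv hr hH j u hu h
  · exact dp_h_13_s hinv hr hH j u hu h
theorem dp_h_15_s (hinv : ∀ x, g (inv x) = (g x)⁻¹) (hr : ∀ r ∈ rels, (r.map g).prod = 1) (hH : ∀ r ∈ subs, (r.map g).prod ∈ H)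
    (j u : ℕ) (hu : u < M) (h : dp_h_15 j u = true) : Good (fa g) T MG M (cP g H) Lt.h u := by
  unfold dp_h_15 at h
  rcases brec_true h with h | h
  · exact dp_h_0_s hinv hr hH j u hu h
  · exact dp_h_14_s hinv hr hH j u hu h
theorem dp_h_16_s (hinv : ∀ x, g (inv x) = (g x)⁻¹) (hr : ∀ r ∈ rels, (r.map g).prod = 1) (hH : ∀ r ∈ subs, (r.map g).prod ∈ H)
    (j u : ℕ) (hu : u < M) (h : dp_h_16 j u = true) : Good (fa g) T MG M (cP g H) Lt.h u := by
  unfold dp_h_16 at h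
  rcases brec_true h with h | h
  · rcases brec_true h with h | h
    · exact lF3_good (T := T) (x := Lt.h) (by decide) .k .h .k (hole_rel hinv hr (by decide +kernel)) h
    · exact lF3_good (T := T) (x := Lt.h) (by decide) .l .h .l (hole_rel hinv hr (by decide +kernel)) h
  · exact dp_h_15_s hinv hr hH j u hu h
theorem snd_h (hinv : ∀ x, g (inv x) = (g x)⁻¹) (hr : ∀ r ∈ rels, (r.map g).prod = 1) (hH : ∀ r ∈ subs, (r.map g).prod ∈ H)
    (j u : ℕ) (hu : u < M) (h : disp_h j u = true) : Good (fa g) T MG M (cP g H) Lt.h u := by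
  unfold disp_h at h
  rcases brec_true h with h | h
  · rcases brec_true h with h | h
    · exact lF1_good (T := T) (x := Lt.h) (by decide) .h (hole_rel hinv hr (by decide +kernel)) h
    · exact lDef_good (T := T) (x := Lt.h) (by decide) rfl h
  · rcases brec_true h with h | h
    · rcases brec_true h with h | h
      · exact lPar_good (T := T) (x := Lt.h) (x' := Lt.h) (by decide) rfl (inv_rel hinv _ _ rfl) h
      · exact lF3_good (T := T) (x := Lt.h) (by decide) .a .h .a (hole_rel hinv hr (by decide +kernel)) h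
    · exact dp_h_16_s hinv hr hH j u hu h
theorem snc_h (hinv : ∀ x, g (inv x) = (g x)⁻¹) (hr : ∀ r ∈ rels, (r.map g).prod = 1) (hH : ∀ r ∈ subs, (r.map g).prod ∈ H)
    (j u : ℕ) (hu : u < M) (h : chk_h j u = true) : (T Lt.h u < A ∧ Good (fa g) T MG M (cP g H) Lt.h u) ∨ (A ≤ T Lt.h u ∧ MG u < A) := by
  unfold chk_h at h
  cases hb : Nat.ble A (T_h u) with
  | true => rw [hb] at h; exact Or.inr ⟨le_of_ble hb, le_of_ble h⟩
  | false => rw [hb] at h; exact Or.inl ⟨lt_of_ble_false hb, snd_h hinv hr hH j u hu h⟩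
theorem dp_i_0_s (hinv : ∀ x, g (inv x) = (g x)⁻¹) (hr : ∀ r ∈ rels, (r.map g).prod = 1) (hH : ∀ r ∈ subs, (r.map g).prod ∈ H)
    (j u : ℕ) (hu : u < M) (h : dp_i_0 j u = true) : Good (fa g) T MG M (cP g H) Lt.i u := by
  unfold dp_i_0 at h
  rcases brec_true h with h | h
  · exact lF3_good (T := T) (x := Lt.i) (by decide) .c .i .c (hole_rel hinv hr (by decide +kernel)) h
  · exact lF3_good (T := T) (x := Lt.i) (by decide) .f .i .f (hole_rel hinv hr (by decide +kernel)) h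
theorem dp_i_1_s (hinv : ∀ x, g (inv x) = (g x)⁻¹) (hr : ∀ r ∈ rels, (r.map g).prod = 1) (hH : ∀ r ∈ subs, (r.map g).prod ∈ H)
    (j u : ℕ) (hu : u < M) (h : dp_i_1 j u = true) : Good (fa g) T MG M (cP g H) Lt.i u := by
  unfold dp_i_1 at h
  rcases brec_true h with h | h
  · exact lF3_good (T := T) (x := Lt.i) (by decide) .b .i .b (hole_rel hinv hr (by decide +kernel)) h
  · exact dp_i_0_s hinv hr hH j u hu h
theorem dp_i_2_s (hinv : ∀ x, g (inv x) = (g x)⁻¹) (hr : ∀ r ∈ rels, (r.map g).prod = 1) (hH : ∀ r ∈ subs, (r.map g).prod ∈ H)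
    (j u : ℕ) (hu : u < M) (h : dp_i_2 j u = true) : Good (fa g) T MG M (cP g H) Lt.i u := by
  unfold dp_i_2 at h
  rcases brec_true h with h | h
  · exact lF3_good (T := T) (x := Lt.i) (by decide) .e .i .e (hole_rel hinv hr (by decide +kernel)) h
  · exact lF3_good (T := T) (x := Lt.i) (by decide) .g .i .g (hole_rel hinv hr (by decide +kernel)) h
theorem dp_i_3_s (hinv : ∀ x, g (inv x) = (g x)⁻¹) (hr : ∀ r ∈ rels, (r.map g).prod = 1) (hH : ∀ r ∈ subs, (r.map g).prod ∈ H)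
    (j u : ℕ) (hu : u < M) (h : dp_i_3 j u = true) : Good (fa g) T MG M (cP g H) Lt.i u := by
  unfold dp_i_3 at h
  rcases brec_true h with h | h
  · exact lS_good (T := T) (x := Lt.i) (by decide) hu [Lt.g, Lt.i, Lt.g] (hole_rel hinv hr (by decide +kernel)) h
  · exact lS_good (T := T) (x := Lt.i) (by decide) hu [Lt.a, Lt.i, Lt.a] (hole_rel hinv hr (by decide +kernel)) h
theorem dp_i_4_s (hinv : ∀ x, g (inv x) = (g x)⁻¹) (hr : ∀ r ∈ rels, (r.map g).prod = 1) (hH : ∀ r ∈ subs, (r.map g).prod ∈ H)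
    (j u : ℕ) (hu : u < M) (h : dp_i_4 j u = true) : Good (fa g) T MG M (cP g H) Lt.i u := by
  unfold dp_i_4 at h
  rcases brec_true h with h | h
  · exact lS_good (T := T) (x := Lt.i) (by decide) hu [Lt.e, Lt.i, Lt.e] (hole_rel hinv hr (by decide +kernel)) h
  · exact dp_i_3_s hinv hr hH j u hu h
theorem dp_i_5_s (hinv : ∀ x, g (inv x) = (g x)⁻¹) (hr : ∀ r ∈ rels, (r.map g).prod = 1) (hH : ∀ r ∈ subs, (r.map g).prod ∈ H)
    (j u : ℕ) (hu : u < M) (h : dp_i_5 j u = true) : Good (fa g) T MG M (cP g H) Lt.i u := by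
  unfold dp_i_5 at h
  rcases brec_true h with h | h
  · exact lH_good (T := T) (x := Lt.i) (by decide) [] [] (by rw [show cP g H 0 = _ from cc_zero]; exact sub_rel hinv (hH _ (by decide))) h
  · exact lS_good (T := T) (x := Lt.i) (by decide) hu [Lt.j, Lt.i, Lt.j] (hole_rel hinv hr (by decide +kernel)) h
theorem dp_i_6_s (hinv : ∀ x, g (inv x) = (g x)⁻¹) (hr : ∀ r ∈ rels, (r.map g).prod = 1) (hH : ∀ r ∈ subs, (r.map g).prod ∈ H)
    (j u : ℕ) (hu : u < M) (h : dp_i_6 j u = true) : Good (fa g) T MG M (cP g H) Lt.i u := by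
  unfold dp_i_6 at h
  rcases brec_true h with h | h
  · exact lS_good (T := T) (x := Lt.i) (by decide) hu [Lt.d, Lt.i, Lt.d] (hole_rel hinv hr (by decide +kernel)) h
  · exact dp_i_5_s hinv hr hH j u hu h
theorem dp_i_7_s (hinv : ∀ x, g (inv x) = (g x)⁻¹) (hr : ∀ r ∈ rels, (r.map g).prod = 1) (hH : ∀ r ∈ subs, (r.map g).prod ∈ H)
    (j u : ℕ) (hu : u < M) (h : dp_i_7 j u = true) : Good (fa g) T MG M (cP g H) Lt.i u := by
  unfold dp_i_7 at h
  rcases brec_true h with h | h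
  · exact lS_good (T := T) (x := Lt.i) (by decide) hu [Lt.k, Lt.i, Lt.k] (hole_rel hinv hr (by decide +kernel)) h
  · exact dp_i_6_s hinv hr hH j u hu h
theorem dp_i_8_s (hinv : ∀ x, g (inv x) = (g x)⁻¹) (hr : ∀ r ∈ rels, (r.map g).prod = 1) (hH : ∀ r ∈ subs, (r.map g).prod ∈ H)
    (j u : ℕ) (hu : u < M) (h : dp_i_8 j u = true) : Good (fa g) T MG M (cP g H) Lt.i u := by
  unfold dp_i_8 at h
  rcases brec_true h with h | h
  · exact dp_i_4_s hinv hr hH j u hu h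
  · exact dp_i_7_s hinv hr hH j u hu h
theorem dp_i_9_s (hinv : ∀ x, g (inv x) = (g x)⁻¹) (hr : ∀ r ∈ rels, (r.map g).prod = 1) (hH : ∀ r ∈ subs, (r.map g).prod ∈ H)
    (j u : ℕ) (hu : u < M) (h : dp_i_9 j u = true) : Good (fa g) T MG M (cP g H) Lt.i u := by
  unfold dp_i_9 at h
  rcases brec_true h with h | h
  · exact lS_good (T := T) (x := Lt.i) (by decide) hu [Lt.i] (hole_rel hinv hr (by decide +kernel)) h
  · exact dp_i_8_s hinv hr hH j u hu h
theorem dp_i_10_s (hinv : ∀ x, g (inv x) = (g x)⁻¹) (hr : ∀ r ∈ rels, (r.map g).prod = 1) (hH : ∀ r ∈ subs, (r.map g).prod ∈ H)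
    (j u : ℕ) (hu : u < M) (h : dp_i_10 j u = true) : Good (fa g) T MG M (cP g H) Lt.i u := by
  unfold dp_i_10 at h
  rcases brec_true h with h | h
  · exact lF_good (T := T) (x := Lt.i) (by decide) [Lt.h, Lt.i, Lt.h, Lt.i, Lt.h] (hole_rel hinv hr (by decide +kernel)) h
  · exact dp_i_9_s hinv hr hH j u hu h
theorem dp_i_11_s (hinv : ∀ x, g (inv x) = (g x)⁻¹) (hr : ∀ r ∈ rels, (r.map g).prod = 1) (hH : ∀ r ∈ subs, (r.map g).prod ∈ H)
    (j u : ℕ) (hu : u < M) (h : dp_i_11 j u = true) : Good (fa g) T MG M (cP g H) Lt.i u := by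
  unfold dp_i_11 at h
  rcases brec_true h with h | h
  · exact lF3_good (T := T) (x := Lt.i) (by decide) .j .i .j (hole_rel hinv hr (by decide +kernel)) h
  · exact dp_i_10_s hinv hr hH j u hu h
theorem dp_i_12_s (hinv : ∀ x, g (inv x) = (g x)⁻¹) (hr : ∀ r ∈ rels, (r.map g).prod = 1) (hH : ∀ r ∈ subs, (r.map g).prod ∈ H)
    (j u : ℕ) (hu : u < M) (h : dp_i_12 j u = true) : Good (fa g) T MG M (cP g H) Lt.i u := by
  unfold dp_i_12 at h
  rcases brec_true h with h | h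
  · exact lF3_good (T := T) (x := Lt.i) (by decide) .d .i .d (hole_rel hinv hr (by decide +kernel)) h
  · exact dp_i_11_s hinv hr hH j u hu h
theorem dp_i_13_s (hinv : ∀ x, g (inv x) = (g x)⁻¹) (hr : ∀ r ∈ rels, (r.map g).prod = 1) (hH : ∀ r ∈ subs, (r.map g).prod ∈ H)
    (j u : ℕ) (hu : u < M) (h : dp_i_13 j u = true) : Good (fa g) T MG M (cP g H) Lt.i u := by
  unfold dp_i_13 at h
  rcases brec_true h with h | h
  · exact dp_i_2_s hinv hr hH j u hu h
  · exact dp_i_12_s hinv hr hH j u hu h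
theorem dp_i_14_s (hinv : ∀ x, g (inv x) = (g x)⁻¹) (hr : ∀ r ∈ rels, (r.map g).prod = 1) (hH : ∀ r ∈ subs, (r.map g).prod ∈ H)
    (j u : ℕ) (hu : u < M) (h : dp_i_14 j u = true) : Good (fa g) T MG M (cP g H) Lt.i u := by
  unfold dp_i_14 at h
  rcases brec_true h with h | h
  · exact dp_i_1_s hinv hr hH j u hu h
  · exact dp_i_13_s hinv hr hH j u hu h
theorem dp_i_15_s (hinv : ∀ x, g (inv x) = (g x)⁻¹) (hr : ∀ r ∈ rels, (r.map g).prod = 1) (hH : ∀ r ∈ subs, (r.map g).prod ∈ H)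
    (j u : ℕ) (hu : u < M) (h : dp_i_15 j u = true) : Good (fa g) T MG M (cP g H) Lt.i u := by
  unfold dp_i_15 at h
  rcases brec_true h with h | h
  · rcases brec_true h with h | h
    · exact lF3_good (T := T) (x := Lt.i) (by decide) .k .i .k (hole_rel hinv hr (by decide +kernel)) h
    · exact lF3_good (T := T) (x := Lt.i) (by decide) .l .i .l (hole_rel hinv hr (by decide +kernel)) h
  · exact dp_i_14_s hinv hr hH j u hu h
theorem snd_i (hinv : ∀ x, g (inv x) = (g x)⁻¹) (hr : ∀ r ∈ rels, (r.map g).prod = 1) (hH : ∀ r ∈ subs, (r.map g).prod ∈ H)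
    (j u : ℕ) (hu : u < M) (h : disp_i j u = true) : Good (fa g) T MG M (cP g H) Lt.i u := by
  unfold disp_i at h
  rcases brec_true h with h | h
  · rcases brec_true h with h | h
    · exact lF1_good (T := T) (x := Lt.i) (by decide) .i (hole_rel hinv hr (by decide +kernel)) h
    · exact lDef_good (T := T) (x := Lt.i) (by decide) rfl h
  · rcases brec_true h with h | h
    · rcases brec_true h with h | h
      · exact lPar_good (T := T) (x := Lt.i) (x' := Lt.i) (by decide) rfl (inv_rel hinv _ _ rfl) h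
      · exact lF3_good (T := T) (x := Lt.i) (by decide) .a .i .a (hole_rel hinv hr (by decide +kernel)) h
    · exact dp_i_15_s hinv hr hH j u hu h
theorem snc_i (hinv : ∀ x, g (inv x) = (g x)⁻¹) (hr : ∀ r ∈ rels, (r.map g).prod = 1) (hH : ∀ r ∈ subs, (r.map g).prod ∈ H)
    (j u : ℕ) (hu : u < M) (h : chk_i j u = true) : (T Lt.i u < A ∧ Good (fa g) T MG M (cP g H) Lt.i u) ∨ (A ≤ T Lt.i u ∧ MG u < A) := by
  unfold chk_i at h
  cases hb : Nat.ble A (T_i u) with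
  | true => rw [hb] at h; exact Or.inr ⟨le_of_ble hb, le_of_ble h⟩
  | false => rw [hb] at h; exact Or.inl ⟨lt_of_ble_false hb, snd_i hinv hr hH j u hu h⟩
theorem dM_0_s (hinv : ∀ x, g (inv x) = (g x)⁻¹) (hr : ∀ r ∈ rels, (r.map g).prod = 1) (j z1 z2 u : ℕ) (h : dM_0 j z1 z2 u = true) : GoodM (fa g) T MG M (cP g H) u := by
  unfold dM_0 at h
  rcases brec_true h with h | h
  · rcases brec_true h with h | h
    · exact mCo_good (T := T) (y := .f) (by decide) h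
    · exact mCo_good (T := T) (y := .g) (by decide) h
  · rcases brec_true h with h | h
    · exact mCo_good (T := T) (y := .j) (by decide) h
    · rcases brec_true h with h | h
      · exact mCo_good (T := T) (y := .h) (by decide) h
      · exact mCo_good (T := T) (y := .d) (by decide) h
theorem dM_1_s (hinv : ∀ x, g (inv x) = (g x)⁻¹) (hr : ∀ r ∈ rels, (r.map g).prod = 1) (j z1 z2 u : ℕ) (h : dM_1 j z1 z2 u = true) : GoodM (fa g) T MG M (cP g H) u := by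
  unfold dM_1 at h
  rcases brec_true h with h | h
  · rcases brec_true h with h | h
    · exact mCo_good (T := T) (y := .e) (by decide) h
    · exact mCo_good (T := T) (y := .l) (by decide) h
  · rcases brec_true h with h | h
    · exact mCo_good (T := T) (y := .i) (by decide) h
    · exact mCo_good (T := T) (y := .c) (by decide) h
theorem dM_2_s (hinv : ∀ x, g (inv x) = (g x)⁻¹) (hr : ∀ r ∈ rels, (r.map g).prod = 1) (j z1 z2 u : ℕ) (h : dM_2 j z1 z2 u = true) : GoodM (fa g) T MG M (cP g H) u := by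
  unfold dM_2 at h
  rcases brec_true h with h | h
  · rcases brec_true h with h | h
    · exact mCo_good (T := T) (y := .a) (by decide) h
    · exact mCo_good (T := T) (y := .b) (by decide) h
  · rcases brec_true h with h | h
    · rcases brec_true h with h | h
      · exact mCo_good (T := T) (y := .k) (by decide) h
      · exact mRel_good (T := T) (by decide) [Lt.h, Lt.b] [Lt.b, Lt.h] (pair_rel hinv hr (by decide +kernel)) h
    · rcases brec_true h with h | h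
      · rcases brec_true h with h | h
        · exact mRel_good (T := T) (by decide) [Lt.b, Lt.h] [Lt.h, Lt.b] (pair_rel hinv hr (by decide +kernel)) h
        · exact mRel_good (T := T) (by decide) [Lt.b, Lt.d] [Lt.d, Lt.b] (pair_rel hinv hr (by decide +kernel)) h
      · rcases brec_true h with h | h
        · exact mRel_good (T := T) (by decide) [Lt.c, Lt.e] [Lt.e, Lt.c] (pair_rel hinv hr (by decide +kernel)) h
        · exact mRel_good (T := T) (by decide) [Lt.c, Lt.h] [Lt.h, Lt.c] (pair_rel hinv hr (by decide +kernel)) h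
theorem dM_3_s (hinv : ∀ x, g (inv x) = (g x)⁻¹) (hr : ∀ r ∈ rels, (r.map g).prod = 1) (j z1 z2 u : ℕ) (h : dM_3 j z1 z2 u = true) : GoodM (fa g) T MG M (cP g H) u := by
  unfold dM_3 at h
  rcases brec_true h with h | h
  · rcases brec_true h with h | h
    · exact mRel_good (T := T) (by decide) [Lt.f, Lt.d, Lt.f] [Lt.d] (pair_rel hinv hr (by decide +kernel)) h
    · rcases brec_true h with h | h
      · exact mRel_good (T := T) (by decide) [Lt.k, Lt.d, Lt.k] [Lt.d] (pair_rel hinv hr (by decide +kernel)) h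
      · exact mRel_good (T := T) (by decide) [Lt.f, Lt.l, Lt.f] [Lt.l] (pair_rel hinv hr (by decide +kernel)) h
  · rcases brec_true h with h | h
    · rcases brec_true h with h | h
      · exact mRel_good (T := T) (by decide) [Lt.e, Lt.h] [Lt.h, Lt.e] (pair_rel hinv hr (by decide +kernel)) h
      · exact mRel_good (T := T) (by decide) [Lt.k, Lt.b] [Lt.b, Lt.k] (pair_rel hinv hr (by decide +kernel)) h
    · rcases brec_true h with h | h
      · exact mRel_good (T := T) (by decide) [Lt.h, Lt.a] [Lt.a, Lt.h] (pair_rel hinv hr (by decide +kernel)) h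
      · rcases brec_true h with h | h
        · exact mRel_good (T := T) (by decide) [Lt.k, Lt.i] [Lt.i, Lt.k] (pair_rel hinv hr (by decide +kernel)) h
        · exact mRel_good (T := T) (by decide) [Lt.l, Lt.b] [Lt.b, Lt.l] (pair_rel hinv hr (by decide +kernel)) h
theorem dM_4_s (hinv : ∀ x, g (inv x) = (g x)⁻¹) (hr : ∀ r ∈ rels, (r.map g).prod = 1) (j z1 z2 u : ℕ) (h : dM_4 j z1 z2 u = true) : GoodM (fa g) T MG M (cP g H) u := by
  unfold dM_4 at h
  rcases brec_true h with h | h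
  · rcases brec_true h with h | h
    · rcases brec_true h with h | h
      · exact mRel_good (T := T) (by decide) [Lt.l, Lt.a] [Lt.a, Lt.l] (pair_rel hinv hr (by decide +kernel)) h
      · exact mRel_good (T := T) (by decide) [Lt.h, Lt.k] [Lt.k, Lt.h] (pair_rel hinv hr (by decide +kernel)) h
    · rcases brec_true h with h | h
      · exact mRel_good (T := T) (by decide) [Lt.l, Lt.i] [Lt.i, Lt.l] (pair_rel hinv hr (by decide +kernel)) h
      · rcases brec_true h with h | h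
        · exact mRel_good (T := T) (by decide) [Lt.d, Lt.c, Lt.b, Lt.d, Lt.e, Lt.f, Lt.d, Lt.h, Lt.i, Lt.d, Lt.c, Lt.b, Lt.d, Lt.e, Lt.f, Lt.d, Lt.h, Lt.i, Lt.d, Lt.c] [Lt.i, Lt.h, Lt.d, Lt.f, Lt.e, Lt.d, Lt.b, Lt.c, Lt.d, Lt.i, Lt.h, Lt.d, Lt.f, Lt.e, Lt.d, Lt.b, Lt.c, Lt.d, Lt.i, Lt.h, Lt.d, Lt.f, Lt.e, Lt.d, Lt.b, Lt.c, Lt.d, Lt.i, Lt.h, Lt.d, Lt.f, Lt.e, Lt.d, Lt.b, Lt.c, Lt.d, Lt.i, Lt.h, Lt.d, Lt.f, Lt.e, Lt.d, Lt.b, Lt.c, Lt.d, Lt.i, Lt.h, Lt.d, Lt.f, Lt.e, Lt.d, Lt.b, Lt.c, Lt.d, Lt.i, Lt.h, Lt.d, Lt.f, Lt.e, Lt.d, Lt.b, Lt.c, Lt.d, Lt.i, Lt.h, Lt.d, Lt.f, Lt.e, Lt.d, Lt.b] (pair_rel hinv hr (by decide +kernel)) h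
        · exact mRel_good (T := T) (by decide) [Lt.a, Lt.d] [Lt.d, Lt.a] (pair_rel hinv hr (by decide +kernel)) h
  · rcases brec_true h with h | h
    · rcases brec_true h with h | h
      · exact mRel_good (T := T) (by decide) [Lt.k, Lt.c] [Lt.c, Lt.k] (pair_rel hinv hr (by decide +kernel)) h
      · exact mRel_good (T := T) (by decide) [Lt.k, Lt.h] [Lt.h, Lt.k] (pair_rel hinv hr (by decide +kernel)) h
    · rcases brec_true h with h | h
      · exact mRel_good (T := T) (by decide) [Lt.i, Lt.d] [Lt.d, Lt.i] (pair_rel hinv hr (by decide +kernel)) h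
      · rcases brec_true h with h | h
        · exact mRel_good (T := T) (by decide) [Lt.i, Lt.e] [Lt.e, Lt.i] (pair_rel hinv hr (by decide +kernel)) h
        · exact mRel_good (T := T) (by decide) [Lt.d, Lt.k] [Lt.k, Lt.d] (pair_rel hinv hr (by decide +kernel)) h
theorem dM_5_s (hinv : ∀ x, g (inv x) = (g x)⁻¹) (hr : ∀ r ∈ rels, (r.map g).prod = 1) (j z1 z2 u : ℕ) (h : dM_5 j z1 z2 u = true) : GoodM (fa g) T MG M (cP g H) u := by
  unfold dM_5 at h
  rcases brec_true h with h | h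
  · exact dM_3_s hinv hr j z1 z2 u h
  · exact dM_4_s hinv hr j z1 z2 u h
theorem dM_6_s (hinv : ∀ x, g (inv x) = (g x)⁻¹) (hr : ∀ r ∈ rels, (r.map g).prod = 1) (j z1 z2 u : ℕ) (h : dM_6 j z1 z2 u = true) : GoodM (fa g) T MG M (cP g H) u := by
  unfold dM_6 at h
  rcases brec_true h with h | h
  · rcases brec_true h with h | h
    · rcases brec_true h with h | h
      · exact mRel_good (T := T) (by decide) [Lt.c, Lt.k] [Lt.k, Lt.c] (pair_rel hinv hr (by decide +kernel)) h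
      · exact mRel_good (T := T) (by decide) [Lt.i, Lt.c] [Lt.c, Lt.i] (pair_rel hinv hr (by decide +kernel)) h
    · rcases brec_true h with h | h
      · exact mRel_good (T := T) (by decide) [Lt.f, Lt.k] [Lt.k, Lt.f] (pair_rel hinv hr (by decide +kernel)) h
      · exact mRel_good (T := T) (by decide) [Lt.g, Lt.k, Lt.g] [Lt.k] (pair_rel hinv hr (by decide +kernel)) h
  · rcases brec_true h with h | h
    · rcases brec_true h with h | h
      · exact mRel_good (T := T) (by decide) [Lt.c, Lt.l] [Lt.l, Lt.c] (pair_rel hinv hr (by decide +kernel)) h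
      · exact mRel_good (T := T) (by decide) [Lt.g, Lt.a, Lt.g] [Lt.a] (pair_rel hinv hr (by decide +kernel)) h
    · rcases brec_true h with h | h
      · exact mRel_good (T := T) (by decide) [Lt.i, Lt.f, Lt.i] [Lt.f] (pair_rel hinv hr (by decide +kernel)) h
      · rcases brec_true h with h | h
        · exact mRel_good (T := T) (by decide) [Lt.h, Lt.f, Lt.h] [Lt.f] (pair_rel hinv hr (by decide +kernel)) h
        · exact mRel_good (T := T) (by decide) [Lt.d, Lt.f, Lt.d] [Lt.f] (pair_rel hinv hr (by decide +kernel)) h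
theorem dM_7_s (hinv : ∀ x, g (inv x) = (g x)⁻¹) (hr : ∀ r ∈ rels, (r.map g).prod = 1) (j z1 z2 u : ℕ) (h : dM_7 j z1 z2 u = true) : GoodM (fa g) T MG M (cP g H) u := by
  unfold dM_7 at h
  rcases brec_true h with h | h
  · rcases brec_true h with h | h
    · rcases brec_true h with h | h
      · exact mRel_good (T := T) (by decide) [Lt.e, Lt.a, Lt.e] [Lt.a] (pair_rel hinv hr (by decide +kernel)) h
      · exact mRel_good (T := T) (by decide) [Lt.c, Lt.g, Lt.c] [Lt.g] (pair_rel hinv hr (by decide +kernel)) h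
    · rcases brec_true h with h | h
      · exact mRel_good (T := T) (by decide) [Lt.g, Lt.b, Lt.g] [Lt.b] (pair_rel hinv hr (by decide +kernel)) h
      · rcases brec_true h with h | h
        · exact mRel_good (T := T) (by decide) [Lt.b, Lt.f, Lt.b] [Lt.f] (pair_rel hinv hr (by decide +kernel)) h
        · exact mRel_good (T := T) (by decide) [Lt.a, Lt.f, Lt.a] [Lt.f] (pair_rel hinv hr (by decide +kernel)) h
  · rcases brec_true h with h | h
    · rcases brec_true h with h | h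
      · exact mRel_good (T := T) (by decide) [Lt.j, Lt.d, Lt.j] [Lt.d] (pair_rel hinv hr (by decide +kernel)) h
      · exact mRel_good (T := T) (by decide) [Lt.d, Lt.j, Lt.d] [Lt.j] (pair_rel hinv hr (by decide +kernel)) h
    · rcases brec_true h with h | h
      · exact mRel_good (T := T) (by decide) [Lt.c, Lt.j, Lt.c] [Lt.j] (pair_rel hinv hr (by decide +kernel)) h
      · rcases brec_true h with h | h
        · exact mRel_good (T := T) (by decide) [Lt.b, Lt.j, Lt.b] [Lt.j] (pair_rel hinv hr (by decide +kernel)) h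
        · exact mRel_good (T := T) (by decide) [Lt.a, Lt.j, Lt.a] [Lt.j] (pair_rel hinv hr (by decide +kernel)) h
theorem dM_8_s (hinv : ∀ x, g (inv x) = (g x)⁻¹) (hr : ∀ r ∈ rels, (r.map g).prod = 1) (j z1 z2 u : ℕ) (h : dM_8 j z1 z2 u = true) : GoodM (fa g) T MG M (cP g H) u := by
  unfold dM_8 at h
  rcases brec_true h with h | h
  · exact dM_6_s hinv hr j z1 z2 u h
  · exact dM_7_s hinv hr j z1 z2 u h
theorem dM_9_s (hinv : ∀ x, g (inv x) = (g x)⁻¹) (hr : ∀ r ∈ rels, (r.map g).prod = 1) (j z1 z2 u : ℕ) (h : dM_9 j z1 z2 u = true) : GoodM (fa g) T MG M (cP g H) u := by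
  unfold dM_9 at h
  rcases brec_true h with h | h
  · exact dM_5_s hinv hr j z1 z2 u h
  · exact dM_8_s hinv hr j z1 z2 u h
theorem dM_10_s (hinv : ∀ x, g (inv x) = (g x)⁻¹) (hr : ∀ r ∈ rels, (r.map g).prod = 1) (j z1 z2 u : ℕ) (h : dM_10 j z1 z2 u = true) : GoodM (fa g) T MG M (cP g H) u := by
  unfold dM_10 at h
  rcases brec_true h with h | h
  · exact dM_2_s hinv hr j z1 z2 u h
  · exact dM_9_s hinv hr j z1 z2 u h
theorem dM_11_s (hinv : ∀ x, g (inv x) = (g x)⁻¹) (hr : ∀ r ∈ rels, (r.map g).prod = 1) (j z1 z2 u : ℕ) (h : dM_11 j z1 z2 u = true) : GoodM (fa g) T MG M (cP g H) u := by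
  unfold dM_11 at h
  rcases brec_true h with h | h
  · exact dM_1_s hinv hr j z1 z2 u h
  · exact dM_10_s hinv hr j z1 z2 u h
theorem dM_12_s (hinv : ∀ x, g (inv x) = (g x)⁻¹) (hr : ∀ r ∈ rels, (r.map g).prod = 1) (j z1 z2 u : ℕ) (h : dM_12 j z1 z2 u = true) : GoodM (fa g) T MG M (cP g H) u := by
  unfold dM_12 at h
  rcases brec_true h with h | h
  · exact dM_0_s hinv hr j z1 z2 u h
  · exact dM_11_s hinv hr j z1 z2 u h
theorem sndM (hinv : ∀ x, g (inv x) = (g x)⁻¹) (hr : ∀ r ∈ rels, (r.map g).prod = 1) (u : ℕ) (h : chkM u = true) :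
    MG u < A → MG u % M < u ∧ GoodM (fa g) T MG M (cP g H) u := by
  intro hA
  unfold chkM at h
  cases hb : Nat.ble A (MG u) with
  | true => exact absurd (le_of_ble hb) (by omega)
  | false =>
    rw [hb] at h
    obtain ⟨h1, h2⟩ := band_eq_true.1 h
    exact ⟨le_of_ble h1, dM_12_s hinv hr _ _ _ _ h2⟩
theorem sndN (hinv : ∀ x, g (inv x) = (g x)⁻¹) (hr : ∀ r ∈ rels, (r.map g).prod = 1) (hH : ∀ r ∈ subs, (r.map g).prod ∈ H)
    (u : ℕ) (hu : u < M) (h : chkP u = true) : (∀ x, (T x u < A ∧ Good (fa g) T MG M (cP g H) x u) ∨ (A ≤ T x u ∧ MG u < A)) ∧ (MG u < A → MG u % M < u ∧ GoodM (fa g) T MG M (cP g H) u) := by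
  unfold chkP at h
  cases hb : Nat.ble M u with
  | true => exact absurd (le_of_ble hb) (by omega)
  | false =>
    rw [hb] at h
    change chkN u = true at h
    unfold chkN at h
    obtain ⟨h0, h⟩ := band_eq_true.1 h
    obtain ⟨h1, h⟩ := band_eq_true.1 h
    obtain ⟨h2, h⟩ := band_eq_true.1 h
    obtain ⟨h3, h⟩ := band_eq_true.1 h
    obtain ⟨h4, h⟩ := band_eq_true.1 h
    obtain ⟨h5, h⟩ := band_eq_true.1 h
    obtain ⟨h6, h⟩ := band_eq_true.1 h
    obtain ⟨h7, h⟩ := band_eq_true.1 h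
    obtain ⟨h8, h⟩ := band_eq_true.1 h
    obtain ⟨h9, h⟩ := band_eq_true.1 h
    obtain ⟨h10, h⟩ := band_eq_true.1 h
    obtain ⟨h11, h⟩ := band_eq_true.1 h
    refine ⟨?_, sndM hinv hr u h⟩
    intro x
    cases x
    · exact snc_l hinv hr hH _ u hu h0
    · exact snc_k hinv hr hH _ u hu h1
    · exact snc_a hinv hr hH _ u hu h2
    · exact snc_b hinv hr hH _ u hu h3
    · exact snc_c hinv hr hH _ u hu h4
    · exact snc_d hinv hr hH _ u hu h5
    · exact snc_e hinv hr hH _ u hu h6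
    · exact snc_f hinv hr hH _ u hu h7
    · exact snc_g hinv hr hH _ u hu h8
    · exact snc_j hinv hr hH _ u hu h9
    · exact snc_h hinv hr hH _ u hu h10
    · exact snc_i hinv hr hH _ u hu h11
theorem final (hinv : ∀ x, g (inv x) = (g x)⁻¹) (hr : ∀ r ∈ rels, (r.map g).prod = 1) (hH : ∀ r ∈ subs, (r.map g).prod ∈ H)
    (hall : ∀ u, u < M → chkP u = true) (hc : cntB liveP 19 0 = 306936) :
    H.relIndex (Subgroup.closure (Set.range g)) ≤ 306936 ∧ H.relIndex (Subgroup.closure (Set.range g)) ≠ 0 := by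
  have hn := fun u hu => sndN hinv hr hH u hu (hall u hu)
  have h1 : ∀ x u, u < M → T x u < A → Good (fa g) T MG M (cP g H) x u := by
    intro x u hu hx
    rcases (hn u hu).1 x with h | h
    · exact h.2
    · exact absurd h.1 (by omega)
  have h2 : ∀ u, u < M → MG u < A → GoodM (fa g) T MG M (cP g H) u := fun u hu h => ((hn u hu).2 h).2
  refine relIndex_le (M := M) (A := A) (T := T) (MG := MG) (c := cP g H) (by decide) cc_zero (sound_of_good h1 h2) ?_ ?_ ?_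
  · intro u hu h
    exact ((hn u hu).2 h).1
  · intro x u hu h
    rcases (hn u hu).1 x with h' | h'
    · exact h'.1
    · exact absurd h'.2 (by omega)
  · rw [← hc, ← cntB_spec]
    apply Finset.card_le_card
    intro u
    simp only [Finset.mem_filter, Finset.mem_Ico]
    rintro ⟨⟨_, h3⟩, h4⟩
    refine ⟨⟨Nat.zero_le _, lt_of_lt_of_le h3 (by decide)⟩, ?_⟩
    unfold liveP
    cases hb : Nat.ble M u with
    | true => exact absurd (le_of_ble hb) (by omega)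
    | false => exact h4
end
end H35.TCF24A
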